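import Mathlib
import Cfsg.Agent.Invol.TransferLemmas

/-!
Exponents killing the part of a central kernel inside the derived group: passing to subgroups,
and past an abelian normal subgroup on which some central element acts as a scalar.
-/

set_option autoImplicit false

namespace Cfsg.Agent.Co1Mult

open scoped commutatorElement

/-- Every central kernel over `Q` meets the derived group in elements killed by `n`. -/
def Killed (Q : Type*) [Group Q] (n : ℕ) : Prop :=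
  ∀ (K : Type) [Group K] [Finite K] (π : K →* Q), Function.Surjective π → π.ker ≤ Subgroup.center K →
    ∀ k ∈ π.ker, k ∈ commutator K → k ^ n = 1

variable {Q : Type*} [Group Q]

theorem killed_mul {n : ℕ} (h : Killed Q n) (j : ℕ) : Killed Q (n * j) := fun K _ _ π hs hc k hk hk' => by
  rw [pow_mul, h K π hs hc k hk hk', one_pow]

theorem killed_card [Finite Q] : Killed Q (Nat.card Q) := by
  intro K _ _ π hs hc k hk hk'
  let _ : CommGroup π.ker :=
    { (inferInstance : Group π.ker) with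
      mul_comm := fun a b => Subtype.ext (Subgroup.mem_center_iff.1 (hc b.2) a) }
  have h := Invol.map_pow_index_eq_one_of_mem_commutator (MonoidHom.id π.ker) ⟨k, hk⟩ (hc hk) hk'
  have hi : π.ker.index = Nat.card Q := by
    rw [Subgroup.index_ker, MonoidHom.range_eq_top_of_surjective π hs, Subgroup.card_top]
  rw [hi] at h
  exact congrArg Subtype.val h

theorem killed_subgroup (H : Subgroup Q) {n : ℕ} (h : Killed H n) : Killed Q (H.index * n) := by
  intro K _ _ π hs hc k hk hk'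
  let L := H.comap π
  have hkL : k ∈ L := by
    show π k ∈ H
    rw [MonoidHom.mem_ker.1 hk]
    exact one_mem H
  have ht := Invol.map_pow_index_eq_one_of_mem_commutator (Abelianization.of (G := L)) ⟨k, hkL⟩ (hc hk) hk'
  rw [← map_pow, ← MonoidHom.mem_ker, Abelianization.ker_of] at ht
  have hidx : L.index = H.index := Subgroup.index_comap_of_surjective H hs
  rw [hidx] at ht
  let σ : L →* H := (π.comp L.subtype).codRestrict H fun x => x.2
  have hσ : Function.Surjective σ := fun y => by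
    obtain ⟨x, hx⟩ := hs y.1
    exact ⟨⟨x, show π x ∈ H from hx ▸ y.2⟩, Subtype.ext hx⟩
  have hσk : ∀ x : L, x ∈ σ.ker ↔ (x : K) ∈ π.ker := fun x => by
    rw [MonoidHom.mem_ker, MonoidHom.mem_ker]
    exact ⟨fun e => congrArg Subtype.val e, fun e => Subtype.ext e⟩
  have hσc : σ.ker ≤ Subgroup.center L := fun x hx => Subgroup.mem_center_iff.2 fun y =>
    Subtype.ext (Subgroup.mem_center_iff.1 (hc ((hσk x).1 hx)) y)
  have := h L σ hσ hσc _ ((hσk _).2 (pow_mem hk H.index)) ht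
  rw [pow_mul]
  exact congrArg Subtype.val this

/-- Lifts of elements of `A` commute in every central extension. -/
def CommLift (A : Subgroup Q) : Prop :=
  ∀ (K : Type) [Group K] (π : K →* Q), Function.Surjective π → π.ker ≤ Subgroup.center K →
    ∀ x y, π x ∈ A → π y ∈ A → x * y = y * x

theorem killed_step (A : Subgroup Q) [A.Normal] {p l n : ℕ} (hcl : CommLift A)
    (hexp : ∀ a ∈ A, a ^ p = 1) (s : Q) (hl : Nat.Coprime l p)
    (hs : ∀ a ∈ A, s * a * s⁻¹ = a ^ (l + 1)) (hcen : ∀ h : Q, h * s * h⁻¹ * s⁻¹ ∈ A)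
    (h : Killed (Q ⧸ A) n) : Killed Q n := by
  intro K _ _ π hsur hc k hk hk'
  let T := A.comap π
  have hT : ∀ x y : T, (x : K) * y = y * x := fun x y => hcl K π hsur hc x y x.2 y.2
  obtain ⟨s', hs'⟩ := hsur s
  have hTn : T.Normal := Subgroup.Normal.comap inferInstance π
  let d : T →* K := MonoidHom.mk' (fun x => s' * x * s'⁻¹ * (x : K)⁻¹) fun x y => by
    have e : (x : K)⁻¹ * (s' * y * s'⁻¹ * (y : K)⁻¹) = (s' * y * s'⁻¹ * (y : K)⁻¹) * (x : K)⁻¹ := by
      have := hT x⁻¹ ⟨_, mul_mem (hTn.conj_mem _ y.2 s') (inv_mem y.2)⟩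
      exact this
    show s' * ((x : K) * y) * s'⁻¹ * ((x : K) * y)⁻¹ = _
    calc s' * ((x : K) * y) * s'⁻¹ * ((x : K) * y)⁻¹
        = (s' * x * s'⁻¹) * ((s' * y * s'⁻¹ * (y : K)⁻¹) * (x : K)⁻¹) := by group
      _ = (s' * x * s'⁻¹) * ((x : K)⁻¹ * (s' * y * s'⁻¹ * (y : K)⁻¹)) := by rw [e]
      _ = _ := by group
  have hd : ∀ x : T, π (d x) = π x ^ l := fun x => by
    show π (s' * x * s'⁻¹ * (x : K)⁻¹) = _
    rw [map_mul, map_mul, map_mul, map_inv, map_inv, hs', hs _ x.2, pow_succ, mul_inv_cancel_right]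
  have hker : ∀ x : T, π (d x) = 1 → d x = 1 := fun x hx => by
    rw [hd] at hx
    have h1 : π x = 1 := by
      have := Nat.Coprime.eq_one_of_dvd
        ((Nat.Coprime.coprime_dvd_left (orderOf_dvd_of_pow_eq_one hx) hl)) (orderOf_dvd_of_pow_eq_one (hexp _ x.2))
      exact orderOf_eq_one_iff.1 this
    show s' * x * s'⁻¹ * (x : K)⁻¹ = 1
    rw [Subgroup.mem_center_iff.1 (hc h1) s', mul_inv_cancel_right, mul_inv_cancel]
  let A₀ : Subgroup K := d.range
  have hA₀T : A₀ ≤ T := by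
    rintro _ ⟨x, rfl⟩
    exact mul_mem (hTn.conj_mem _ x.2 s') (inv_mem x.2)
  have hA₀n : A₀.Normal := ⟨by
    rintro _ ⟨x, rfl⟩ g
    let y : T := ⟨g * x * g⁻¹, hTn.conj_mem _ x.2 g⟩
    have hcT : g * s' * g⁻¹ * s'⁻¹ ∈ T := by
      show π _ ∈ A
      rw [map_mul, map_mul, map_mul, map_inv, map_inv, hs']
      exact hcen _
    refine ⟨y, ?_⟩
    have e := hT ⟨_, hcT⟩ ⟨_, hTn.conj_mem _ y.2 s'⟩
    change g * s' * g⁻¹ * s'⁻¹ * (s' * y * s'⁻¹) = s' * y * s'⁻¹ * (g * s' * g⁻¹ * s'⁻¹) at e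
    show s' * y * s'⁻¹ * (y : K)⁻¹ = g * (s' * x * s'⁻¹ * (x : K)⁻¹) * g⁻¹
    calc s' * y * s'⁻¹ * (y : K)⁻¹
        = (s' * y * s'⁻¹ * (g * s' * g⁻¹ * s'⁻¹)) * (g * s' * g⁻¹ * s'⁻¹)⁻¹ * (y : K)⁻¹ := by group
      _ = (g * s' * g⁻¹ * s'⁻¹ * (s' * y * s'⁻¹)) * (g * s' * g⁻¹ * s'⁻¹)⁻¹ * (y : K)⁻¹ := by rw [e]
      _ = g * (s' * x * s'⁻¹ * (x : K)⁻¹) * g⁻¹ := by simp only [y]; group⟩
  have hinf : ∀ z ∈ A₀, π z = 1 → z = 1 := by
    rintro _ ⟨x, rfl⟩ hz
    exact hker x hz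
  let π' : K ⧸ A₀ →* Q ⧸ A :=
    QuotientGroup.map A₀ A π fun z hz => hA₀T hz
  have hsur' : Function.Surjective π' := fun q => by
    obtain ⟨a, rfl⟩ := QuotientGroup.mk_surjective q
    obtain ⟨x, rfl⟩ := hsur a
    exact ⟨x, rfl⟩
  have hc' : π'.ker ≤ Subgroup.center (K ⧸ A₀) := by
    intro q hq
    obtain ⟨x, rfl⟩ := QuotientGroup.mk_surjective q
    have hx : π x ∈ A := (QuotientGroup.eq_one_iff _).1 (MonoidHom.mem_ker.1 hq)
    obtain ⟨m, hm⟩ := exists_pow_eq_self_of_coprime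
      (Nat.Coprime.coprime_dvd_right (orderOf_dvd_of_pow_eq_one (hexp _ hx)) hl)
    let z := (d ((⟨x, hx⟩ : T) ^ m))⁻¹ * x
    have hz : π z = 1 := by
      simp only [z, map_mul, map_inv, hd, map_pow, ← pow_mul]
      rw [pow_mul, hm, inv_mul_cancel]
    have e : (QuotientGroup.mk x : K ⧸ A₀) = QuotientGroup.mk z := by
      rw [QuotientGroup.eq]
      have e1 : x⁻¹ * z = (x⁻¹ * d ((⟨x, hx⟩ : T) ^ m) * x)⁻¹ := by simp only [z]; group
      rw [e1]
      exact inv_mem (hA₀n.conj_mem' _ ⟨_, rfl⟩ x)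
    rw [e]
    refine Subgroup.mem_center_iff.2 fun q => ?_
    obtain ⟨g, rfl⟩ := QuotientGroup.mk_surjective q
    exact congrArg (QuotientGroup.mk (s := A₀)) (Subgroup.mem_center_iff.1 (hc hz) g)
  have hk1 : (QuotientGroup.mk k : K ⧸ A₀) ∈ π'.ker := by
    show QuotientGroup.mk (π k) = (1 : Q ⧸ A)
    rw [MonoidHom.mem_ker.1 hk]; rfl
  have hk2 : (QuotientGroup.mk k : K ⧸ A₀) ∈ commutator (K ⧸ A₀) := by
    have := Subgroup.mem_map_of_mem (QuotientGroup.mk' A₀) hk'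
    rw [commutator_def, Subgroup.map_commutator,
      Subgroup.map_top_of_surjective _ (QuotientGroup.mk'_surjective A₀)] at this
    rwa [commutator_def]
  have := h (K ⧸ A₀) π' hsur' hc' _ hk1 hk2
  rw [← QuotientGroup.mk_pow, QuotientGroup.eq_one_iff] at this
  exact hinf _ this (by rw [map_pow, MonoidHom.mem_ker.1 hk, one_pow])

end Cfsg.Agent.Co1Mult
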