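import Mathlib
import Cfsg.Agent.Co1Mult.Killed

/-!
Lifts of an elementary abelian subgroup commute: criteria through conjugation equations on the
commutator pairing.
-/

set_option autoImplicit false

namespace Cfsg.Agent.Co1Mult

open scoped commutatorElement IsMulCommutative

variable {Q : Type*} [Group Q]

theorem normal_of_gens [Finite Q] (S : Set Q) (hS : Subgroup.closure S = ⊤) (T : Set Q)
    (h : ∀ g ∈ S, ∀ t ∈ T, g * t * g⁻¹ ∈ Subgroup.closure T) : (Subgroup.closure T).Normal := by
  rw [← Subgroup.normalizer_eq_top_iff, eq_top_iff, ← hS, Subgroup.closure_le]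
  intro g hg
  have hle : (Subgroup.closure T).map (MulAut.conj g).toMonoidHom ≤ Subgroup.closure T := by
    rw [MonoidHom.map_closure, Subgroup.closure_le]
    rintro _ ⟨t, ht, rfl⟩
    exact h g hg t ht
  have heq := Subgroup.eq_of_le_of_card_ge hle
    (Nat.card_congr ((Subgroup.closure T).equivMapOfInjective _ (MulAut.conj g).injective).toEquiv).le
  rw [SetLike.mem_coe, Subgroup.mem_normalizer_iff]
  intro y
  constructor
  · exact fun hy => hle ⟨y, hy, rfl⟩
  · intro hy
    rw [← heq] at hy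
    obtain ⟨z, hz, e⟩ := hy
    have : z = y := (MulAut.conj g).injective e
    exact this ▸ hz

theorem conj_eq_pow_of_gens {T : Set Q} (hT : ∀ a ∈ T, ∀ b ∈ T, a * b = b * a) (s : Q) (l : ℕ)
    (h : ∀ t ∈ T, s * t * s⁻¹ = t ^ l) : ∀ a ∈ Subgroup.closure T, s * a * s⁻¹ = a ^ l := by
  intro a ha
  have hc : ∀ a ∈ Subgroup.closure T, ∀ b ∈ Subgroup.closure T, Commute a b := by
    have := Subgroup.isMulCommutative_closure (k := T) hT
    exact fun a ha b hb => setLike_mul_comm ha hb
  induction ha using Subgroup.closure_induction with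
  | mem x hx => exact h x hx
  | one => simp
  | mul x y hx hy ex ey =>
    rw [(hc x hx y hy).mul_pow, ← ex, ← ey]; group
  | inv x hx ex => rw [inv_pow, ← ex]; group

theorem pow_eq_one_of_gens {T : Set Q} (hT : ∀ a ∈ T, ∀ b ∈ T, a * b = b * a) (p : ℕ)
    (h : ∀ t ∈ T, t ^ p = 1) : ∀ a ∈ Subgroup.closure T, a ^ p = 1 := by
  intro a ha
  have hc : ∀ a ∈ Subgroup.closure T, ∀ b ∈ Subgroup.closure T, Commute a b := by
    have := Subgroup.isMulCommutative_closure (k := T) hT
    exact fun a ha b hb => setLike_mul_comm ha hb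
  induction ha using Subgroup.closure_induction with
  | mem x hx => exact h x hx
  | one => simp
  | mul x y hx hy ex ey => rw [(hc x hx y hy).mul_pow, ex, ey, one_mul]
  | inv x hx ex => rw [inv_pow, ex, inv_one]

theorem central_mod_of_gens (A : Subgroup Q) [A.Normal] (S : Set Q) (hS : Subgroup.closure S = ⊤) (s : Q)
    (h : ∀ g ∈ S, g * s * g⁻¹ * s⁻¹ ∈ A) : ∀ g : Q, g * s * g⁻¹ * s⁻¹ ∈ A := by
  let f := QuotientGroup.mk' A
  have key : ∀ g : Q, g * s * g⁻¹ * s⁻¹ ∈ A ↔ Commute (f g) (f s) := fun g => by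
    rw [← QuotientGroup.eq_one_iff, ← commutatorElement_def, ← commutatorElement_eq_one_iff_commute,
      ← map_commutatorElement]
    rfl
  have hle : Subgroup.closure S ≤ (Subgroup.centralizer ({f s} : Set (Q ⧸ A))).comap f := by
    rw [Subgroup.closure_le]
    exact fun g hg => Subgroup.mem_centralizer_singleton_iff.2 ((key g).1 (h g hg)).eq
  intro g
  rw [hS] at hle
  exact (key g).2 (Subgroup.mem_centralizer_singleton_iff.1 (hle (Subgroup.mem_top g)))

theorem commLift_of_pairs {r : ℕ} (t : Fin r → Q)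
    (h : ∀ (K : Type) [Group K] (π : K →* Q), Function.Surjective π → π.ker ≤ Subgroup.center K →
      ∀ u : Fin r → K, (∀ i, π (u i) = t i) → ∀ i j, u i * u j = u j * u i) :
    CommLift (Subgroup.closure (Set.range t)) := by
  intro K _ π hs hc x y hx hy
  choose u hu using fun i => hs (t i)
  let S : Set K := Set.range u ∪ π.ker
  have hS : ∀ a ∈ S, ∀ b ∈ S, a * b = b * a := by
    rintro a (⟨i, rfl⟩ | ha) b (⟨j, rfl⟩ | hb)
    · exact h K π hs hc u hu i j
    · exact Subgroup.mem_center_iff.1 (hc hb) _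
    · exact (Subgroup.mem_center_iff.1 (hc ha) _).symm
    · exact Subgroup.mem_center_iff.1 (hc hb) _
  have hsub : (Subgroup.closure (Set.range t)).comap π ≤ Subgroup.closure S := by
    intro z hz
    have hm : π z ∈ (Subgroup.closure S).map π := by
      refine (Subgroup.closure_le _).2 ?_ hz
      rintro _ ⟨i, rfl⟩
      exact ⟨u i, Subgroup.subset_closure (Or.inl ⟨i, rfl⟩), hu i⟩
    obtain ⟨w, hw, e⟩ := hm
    have hk : w⁻¹ * z ∈ π.ker := by rw [MonoidHom.mem_ker, map_mul, map_inv, e, inv_mul_cancel]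
    rw [show z = w * (w⁻¹ * z) by group]
    exact mul_mem hw (Subgroup.subset_closure (Or.inr hk))
  have := Subgroup.isMulCommutative_closure (k := S) hS
  exact setLike_mul_comm (hsub hx) (hsub hy)

theorem comm_mul_left {K : Type*} [Group K] {x x' y : K} (h : ⁅x', y⁆ ∈ Subgroup.center K) :
    ⁅x * x', y⁆ = ⁅x, y⁆ * ⁅x', y⁆ := by
  have e : x * ⁅x', y⁆ * x⁻¹ = ⁅x', y⁆ := by
    rw [Subgroup.mem_center_iff.1 h x, mul_inv_cancel_right]
  calc ⁅x * x', y⁆ = x * ⁅x', y⁆ * x⁻¹ * ⁅x, y⁆ := by simp only [commutatorElement_def]; group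
    _ = ⁅x', y⁆ * ⁅x, y⁆ := by rw [e]
    _ = _ := (Subgroup.mem_center_iff.1 h _).symm

/-- The pairing of a central extension against a fixed element, on the elements whose commutator
with it is central. -/
def comHom {K : Type*} [Group K] (T : Subgroup K) (hT : ∀ x ∈ T, ∀ y ∈ T, ⁅x, y⁆ ∈ Subgroup.center K)
    (y : T) : T →* Subgroup.center K :=
  MonoidHom.mk' (fun x => ⟨⁅(x : K), y⁆, hT _ x.2 _ y.2⟩) fun a b => Subtype.ext (comm_mul_left (hT _ b.2 _ y.2))

/-- The form `∑ c·((e∧e) - 1)` of a list of equations. -/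
def comb {p r w : ℕ} (E : Fin w → Fin r → Fin r → ℕ) (cs : List (Fin w × Fin r × Fin r × ZMod p))
    (l q : Fin r) : ZMod p :=
  (cs.map fun c => c.2.2.2 * ((E c.1 c.2.1 l : ZMod p) * (E c.1 c.2.2.1 q : ZMod p) -
    if c.2.1 = l ∧ c.2.2.1 = q then 1 else 0)).sum

/-- The certificate: for each pair a combination whose antisymmetrisation is that pair. -/
def certOK {p r w : ℕ} (E : Fin w → Fin r → Fin r → ℕ)
    (cs : Fin r → Fin r → List (Fin w × Fin r × Fin r × ZMod p)) : Prop :=
  ∀ a b : Fin r, a < b → ∀ l q : Fin r, comb E (cs a b) l q - comb E (cs a b) q l =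
    (if l = a ∧ q = b then 1 else 0) - if l = b ∧ q = a then 1 else 0

theorem commLift_cert {r w p : ℕ} (hp : Nat.Coprime 2 p) (t : Fin r → Q)
    (hcom : ∀ i j, t i * t j = t j * t i) (hexp : ∀ i, t i ^ p = 1) (W : Fin w → Q)
    (E : Fin w → Fin r → Fin r → ℕ)
    (hW : ∀ m j, W m * t j * (W m)⁻¹ = (List.ofFn fun l => t l ^ E m j l).prod)
    (cs : Fin r → Fin r → List (Fin w × Fin r × Fin r × ZMod p))
    (hcert : certOK E cs) :
    CommLift (Subgroup.closure (Set.range t)) := by
  refine commLift_of_pairs t fun K _ π hs hc u hu => ?_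
  let T : Subgroup K := (Subgroup.closure (Set.range t)).comap π
  have hA := Subgroup.isMulCommutative_closure (k := Set.range t)
    (by rintro _ ⟨i, rfl⟩ _ ⟨j, rfl⟩; exact hcom i j)
  have hT : ∀ x ∈ T, ∀ y ∈ T, ⁅x, y⁆ ∈ Subgroup.center K := fun x hx y hy => hc (by
    rw [MonoidHom.mem_ker, map_commutatorElement, commutatorElement_eq_one_iff_mul_comm]
    exact setLike_mul_comm (show π x ∈ Subgroup.closure (Set.range t) from hx) (show π y ∈ Subgroup.closure (Set.range t) from hy))
  have hu' : ∀ i, u i ∈ T := fun i => by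
    show π (u i) ∈ Subgroup.closure (Set.range t)
    rw [hu]; exact Subgroup.subset_closure ⟨i, rfl⟩
  let c : Fin r → Fin r → Additive (Subgroup.center K) := fun j k =>
    Additive.ofMul (comHom T hT ⟨u k, hu' k⟩ ⟨u j, hu' j⟩)
  have anti : ∀ j k, c j k + c k j = 0 := fun j k => by
    refine Additive.toMul.injective (Subtype.ext ?_)
    show ⁅u j, u k⁆ * ⁅u k, u j⁆ = 1
    rw [← commutatorElement_inv (u j) (u k), mul_inv_cancel]
  have diag : ∀ j, c j j = 0 := fun j => by
    refine Additive.toMul.injective (Subtype.ext ?_)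
    exact commutatorElement_self (u j)
  have hpc : ∀ j k, p • c j k = 0 := fun j k => by
    refine Additive.toMul.injective (Subtype.ext ?_)
    have h1 := map_pow (comHom T hT ⟨u k, hu' k⟩) ⟨u j, hu' j⟩ p
    have h2 : (u j) ^ p ∈ Subgroup.center K := hc (by rw [MonoidHom.mem_ker, map_pow, hu, hexp])
    have h3 := congrArg Subtype.val h1
    show ((comHom T hT ⟨u k, hu' k⟩ ⟨u j, hu' j⟩) ^ p : Subgroup.center K).1 = 1
    rw [← h3]
    show ⁅(u j) ^ p, u k⁆ = 1
    exact commutatorElement_eq_one_iff_mul_comm.2 (Subgroup.mem_center_iff.1 h2 _).symm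
  choose g hg using fun m => hs (W m)
  have heq : ∀ m j k, c j k = ∑ l, ∑ q, (E m j l * E m k q) • c l q := by
    intro m j k
    let P : Fin r → T := fun i => (List.ofFn fun l => (⟨u l, hu' l⟩ : T) ^ E m i l).prod
    have hP : ∀ i, π (g m * u i * (g m)⁻¹) = π (P i) := fun i => by
      rw [map_mul, map_mul, map_inv, hu, hg, hW]
      show _ = π ((T.subtype) (P i))
      rw [map_list_prod, List.map_ofFn, map_list_prod, List.map_ofFn]
      exact congrArg List.prod (congrArg List.ofFn (funext fun l => by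
        show t l ^ _ = π ((u l) ^ _)
        rw [map_pow, hu]))
    have hcen : ∀ i, (P i : K)⁻¹ * (g m * u i * (g m)⁻¹) ∈ Subgroup.center K := fun i => hc (by
      rw [MonoidHom.mem_ker, map_mul, map_inv, hP, inv_mul_cancel])
    have e1 : ∀ a b z z' : K, z ∈ Subgroup.center K → z' ∈ Subgroup.center K → ⁅a * z, b * z'⁆ = ⁅a, b⁆ := by
      intro a b z z' hz hz'
      have q1 := Subgroup.mem_center_iff.1 hz
      have q2 := Subgroup.mem_center_iff.1 hz'
      simp only [commutatorElement_def, mul_inv_rev]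
      calc a * z * (b * z') * (z⁻¹ * a⁻¹) * (z'⁻¹ * b⁻¹)
          = a * (z * (b * z') * z⁻¹) * (a⁻¹ * z'⁻¹) * b⁻¹ := by group
        _ = a * (b * z') * (a⁻¹ * z'⁻¹) * b⁻¹ := by rw [← q1, mul_inv_cancel_right]
        _ = a * b * (z' * a⁻¹ * z'⁻¹) * b⁻¹ := by group
        _ = a * b * a⁻¹ * b⁻¹ := by rw [← q2, mul_inv_cancel_right]
    have e2 : ⁅u j, u k⁆ = ⁅(P j : K), (P k : K)⁆ := by
      have hck : ⁅u j, u k⁆ ∈ Subgroup.center K := hT _ (hu' j) _ (hu' k)
      calc ⁅u j, u k⁆ = g m * ⁅u j, u k⁆ * (g m)⁻¹ := by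
            rw [Subgroup.mem_center_iff.1 hck, mul_inv_cancel_right]
        _ = ⁅g m * u j * (g m)⁻¹, g m * u k * (g m)⁻¹⁆ := by simp only [commutatorElement_def]; group
        _ = ⁅(P j : K) * ((P j : K)⁻¹ * (g m * u j * (g m)⁻¹)),
            (P k : K) * ((P k : K)⁻¹ * (g m * u k * (g m)⁻¹))⁆ := by simp only [mul_inv_cancel_left]
        _ = _ := e1 _ _ _ _ (hcen j) (hcen k)
    let D : T → T → Additive (Subgroup.center K) := fun x y => Additive.ofMul (comHom T hT y x)
    have hl : ∀ (i : Fin r) (y : T), D (P i) y = ∑ l, E m i l • D ⟨u l, hu' l⟩ y := fun i y => by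
      show Additive.ofMul (comHom T hT y (List.ofFn _).prod) = _
      rw [map_list_prod, List.map_ofFn, List.prod_ofFn, ofMul_prod]
      refine Finset.sum_congr rfl fun l _ => ?_
      show Additive.ofMul (comHom T hT y (_ ^ _)) = _
      rw [map_pow, ofMul_pow]
    have hsw : ∀ x y : T, D x y = -D y x := fun x y => by
      refine Additive.toMul.injective (Subtype.ext ?_)
      show ⁅(x : K), (y : K)⁆ = ⁅(y : K), (x : K)⁆⁻¹
      rw [commutatorElement_inv]
    have : c j k = D (P j) (P k) := Additive.toMul.injective (Subtype.ext e2)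
    rw [this, hl]
    refine Finset.sum_congr rfl fun l _ => ?_
    rw [hsw, hl, ← Finset.sum_neg_distrib, Finset.smul_sum]
    refine Finset.sum_congr rfl fun q _ => ?_
    rw [hsw]
    simp only [smul_neg, neg_neg, smul_smul]
    rfl
  intro i j
  suffices h0 : c i j = 0 by
    have := congrArg (fun x : Additive (Subgroup.center K) => ((Additive.toMul x : Subgroup.center K) : K)) h0
    exact commutatorElement_eq_one_iff_mul_comm.1 this
  let M : AddSubgroup (Additive (Subgroup.center K)) := (nsmulAddMonoidHom p).ker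
  let _ : Module (ZMod p) M := AddCommGroup.zmodModule fun x => Subtype.ext x.2
  let d : Fin r → Fin r → M := fun a b => ⟨c a b, hpc a b⟩
  have dneg : ∀ a b, d b a = -d a b := fun a b => Subtype.ext (eq_neg_of_add_eq_zero_left (anti b a))
  have drow : ∀ (m : Fin w) (a b : Fin r) (k : ZMod p), ∑ l, ∑ q,
      (k * ((E m a l : ZMod p) * (E m b q : ZMod p) - if a = l ∧ b = q then 1 else 0)) • d l q = 0 := by
    intro m a b k
    have : d a b = ∑ l, ∑ q, ((E m a l : ZMod p) * (E m b q : ZMod p)) • d l q := Subtype.ext (by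
      rw [AddSubgroup.val_finsetSum]
      simp only [AddSubgroup.val_finsetSum, ← Nat.cast_mul, Nat.cast_smul_eq_nsmul, AddSubgroup.coe_nsmul]
      exact heq m a b)
    simp only [mul_smul k, ← Finset.smul_sum, sub_smul, Finset.sum_sub_distrib]
    rw [show ∑ l, ∑ q, (if a = l ∧ b = q then (1 : ZMod p) else 0) • d l q = d a b by simp [ite_and]]
    rw [← this, sub_self, smul_zero]
  have hsum : ∀ cs' : List (Fin w × Fin r × Fin r × ZMod p),
      ∑ l, ∑ q, comb E cs' l q • d l q = 0 := by
    intro cs'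
    induction cs' with
    | nil => simp [comb]
    | cons x xs ih =>
      simp only [comb, List.map_cons, List.sum_cons, add_smul, Finset.sum_add_distrib]
      rw [show ∑ l, ∑ q, (x.2.2.2 * ((E x.1 x.2.1 l : ZMod p) * (E x.1 x.2.2.1 q : ZMod p) -
        if x.2.1 = l ∧ x.2.2.1 = q then 1 else 0)) • d l q = 0 from drow _ _ _ _, zero_add]
      exact ih
  have hlt : ∀ a b, a < b → d a b = 0 := by
    intro a b hab
    have h1 := hsum (cs a b)
    have h2 : ∑ l, ∑ q, comb E (cs a b) q l • d l q = 0 := by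
      rw [Finset.sum_comm, ← neg_eq_zero, ← Finset.sum_neg_distrib]
      simp_rw [← Finset.sum_neg_distrib, ← smul_neg, ← dneg]
      exact h1
    have h3 : ∑ l, ∑ q, (comb E (cs a b) l q - comb E (cs a b) q l) • d l q = 0 := by
      simp only [sub_smul, Finset.sum_sub_distrib, h1, h2, sub_zero]
    simp only [hcert a b hab, sub_smul, Finset.sum_sub_distrib] at h3
    simp [ite_and] at h3
    rw [dneg a b, sub_neg_eq_add, ← two_nsmul] at h3
    have h4 : p • d a b = 0 := Subtype.ext (hpc a b)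
    have h5 := Nat.Coprime.eq_one_of_dvd
      (Nat.Coprime.coprime_dvd_left (addOrderOf_dvd_of_nsmul_eq_zero h3) hp) (addOrderOf_dvd_of_nsmul_eq_zero h4)
    exact AddMonoid.addOrderOf_eq_one_iff.1 h5
  rcases lt_trichotomy i j with h | h | h
  · exact congrArg Subtype.val (hlt i j h)
  · rw [h]; exact diag j
  · have := congrArg Subtype.val (hlt j i h)
    have e := anti i j
    change c j i = 0 at this
    rwa [this, add_zero] at e

end Cfsg.Agent.Co1Mult
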