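import Mathlib
import Cfsg.Agent.Co1Out.Hom
import Cfsg.Agent.Leech.Generators
import Cfsg.Agent.Leech.PairsEight
import Cfsg.Agent.Leech.OrbitCert
import Cfsg.Agent.Leech.ModRep

/-!
Lattice automorphisms given by integer matrices, and equality tests for words in them modulo the
centre.
-/

set_option autoImplicit false

namespace Cfsg.Agent.Co1Mult

open Cfsg Matrix
open Cfsg.Agent.Co1Out (toC)

variable {R : Type*} [CommRing R]

/-- A matrix as a list of rows. -/
def encM (A : Matrix GolayPt GolayPt R) : List (List R) :=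
  (List.range 24).map fun a => (List.range 24).map fun b => A (Leech.ptOf a) (Leech.ptOf b)

/-- The dot product of two lists. -/
def dotL (x y : List R) : R := (List.zipWith (· * ·) x y).sum

/-- The transpose of a square list. -/
def transL (A : List (List R)) : List (List R) :=
  (List.range 24).map fun a => (List.range 24).map fun b => (A.getD b []).getD a 0

/-- The product of two square lists. -/
def mulL (A B : List (List R)) : List (List R) :=
  let T := transL B
  A.map fun r => T.map fun c => dotL r c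

theorem sum_range_eq {M : Type*} [AddCommMonoid M] (f : GolayPt → M) :
    ∑ p, f p = ((List.range 24).map fun a => f (Leech.ptOf a)).sum := by
  rw [Leech.univ_eq_range, Finset.sum_image (fun a ha b hb e => by
    rw [← Leech.idx_ptOf a (Finset.mem_range.1 ha), ← Leech.idx_ptOf b (Finset.mem_range.1 hb), e])]
  rfl

theorem zipWith_map (f g : ℕ → R) : ∀ l : List ℕ,
    List.zipWith (· * ·) (l.map f) (l.map g) = l.map fun a => f a * g a
  | [] => rfl
  | a :: l => by simp only [List.map_cons, List.zipWith_cons_cons, zipWith_map f g l]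

theorem transL_encM (A : Matrix GolayPt GolayPt R) : transL (encM A) = encM Aᵀ := by
  refine List.map_congr_left fun a ha => List.map_congr_left fun b hb => ?_
  have ha' := List.mem_range.1 ha
  have hb' := List.mem_range.1 hb
  simp [encM, List.getD_eq_getElem?_getD, ha', hb']

theorem mulL_encM (A B : Matrix GolayPt GolayPt R) : mulL (encM A) (encM B) = encM (A * B) := by
  simp only [mulL, transL_encM]
  simp only [encM, List.map_map]
  refine List.map_congr_left fun a _ => List.map_congr_left fun b _ => ?_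
  simp only [Function.comp_apply, dotL, zipWith_map, Matrix.mul_apply, Matrix.transpose_apply]
  exact (sum_range_eq fun p => A (Leech.ptOf a) p * B p (Leech.ptOf b)).symm

theorem encM_injective : Function.Injective (encM (R := R)) := fun A B h => by
  refine Matrix.ext fun p q => ?_
  have := congrArg (fun l => (List.getD l (Leech.idx p) []).getD (Leech.idx q) 0) h
  simpa [encM, List.getD_eq_getElem?_getD, Leech.idx_lt, Leech.ptOf_idx] using this

/-- The matrix of a list. -/
def decM (G : List (List R)) : Matrix GolayPt GolayPt R :=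
  Matrix.of fun p q => (G.getD (Leech.idx p) []).getD (Leech.idx q) 0

/-- A rectangular list. -/
abbrev shapeOK (G : List (List R)) : Prop :=
  G = (List.range 24).map fun a => (List.range 24).map fun b => (G.getD a []).getD b 0

theorem encM_decM {G : List (List R)} (h : shapeOK G) : encM (decM G) = G := by
  refine Eq.trans ?_ h.symm
  refine List.map_congr_left fun a ha => List.map_congr_left fun b hb => ?_
  simp [decM, Leech.idx_ptOf _ (List.mem_range.1 ha), Leech.idx_ptOf _ (List.mem_range.1 hb)]

/-- The image of a vector, as a list, before dividing by eight. -/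
def imgL (G : List (List ℤ)) (x : GolayPt → ℤ) : List ℤ := G.map fun r => dotL r (Leech.toL x)

/-- The image is a lattice vector. -/
abbrev okV (G : List (List ℤ)) (x : GolayPt → ℤ) : Prop :=
  (imgL G x).all (fun a => decide ((8 : ℤ) ∣ a)) = true ∧
    let y := Leech.ofL ((imgL G x).map (· / 8))
    let m := y none % 2
    (∀ i, y i = m + 2 * ((y i - m) / 2)) ∧ (8 : ℤ) ∣ (∑ i, y i) - 4 * m ∧
      Leech.dec (Leech.red2 fun i => (y i - m) / 2) = Leech.red2 fun i => (y i - m) / 2

/-- The conditions on a matrix: orthogonal of scale eight, mapping the lattice to itself. -/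
structure MOK (G : List (List ℤ)) : Prop where
  shape : shapeOK G
  orth : mulL (transL G) G = encM (64 : Matrix GolayPt GolayPt ℤ)
  odd : okV G Leech.vecOdd
  pm : ∀ i : GolayPt, okV G (Pi.single i 4 + Pi.single none 4) ∧ okV G (Pi.single i 4 - Pi.single none 4)
  rows : ∀ i : Fin 12, okV G fun p => 2 * Leech.valVec (Leech.row i) p
  odd' : okV (transL G) Leech.vecOdd
  pm' : ∀ i : GolayPt, okV (transL G) (Pi.single i 4 + Pi.single none 4) ∧
    okV (transL G) (Pi.single i 4 - Pi.single none 4)
  rows' : ∀ i : Fin 12, okV (transL G) fun p => 2 * Leech.valVec (Leech.row i) p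

theorem imgL_encM (A : Matrix GolayPt GolayPt ℤ) (x : GolayPt → ℤ) : imgL (encM A) x = Leech.toL (A *ᵥ x) := by
  simp only [imgL, encM, Leech.toL, List.map_map]
  refine List.map_congr_left fun a _ => ?_
  simp only [Function.comp_apply, dotL, zipWith_map, Matrix.mulVec, dotProduct]
  exact (sum_range_eq fun p => A (Leech.ptOf a) p * x p).symm

theorem exists_image {A : Matrix GolayPt GolayPt ℤ} {x : GolayPt → ℤ} (h : okV (encM A) x) :
    ∃ y : leechLattice, A *ᵥ x = fun p => 8 * (y : GolayPt → ℤ) p := by
  obtain ⟨h8, hy⟩ := h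
  refine ⟨⟨_, Leech.mem_of_parity _ _ hy.1 hy.2.1 hy.2.2⟩, funext fun p => ?_⟩
  rw [imgL_encM] at h8
  have hd : (8 : ℤ) ∣ (A *ᵥ x) p := by
    refine of_decide_eq_true (List.all_eq_true.1 h8 _ ?_)
    exact List.mem_map.2 ⟨Leech.idx p, List.mem_range.2 (Leech.idx_lt p), by rw [Leech.ptOf_idx]⟩
  show _ = 8 * Leech.ofL ((imgL (encM A) x).map (· / 8)) p
  rw [imgL_encM]
  simp only [Leech.ofL, Leech.toL, List.map_map, List.getD_eq_getElem?_getD]
  simp [Leech.idx_lt, Leech.ptOf_idx, Int.mul_ediv_cancel' hd]

theorem lattice_image {A : Matrix GolayPt GolayPt ℤ} (h0 : okV (encM A) Leech.vecOdd)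
    (h1 : ∀ i : GolayPt, okV (encM A) (Pi.single i 4 + Pi.single none 4) ∧
      okV (encM A) (Pi.single i 4 - Pi.single none 4))
    (h2 : ∀ i : Fin 12, okV (encM A) fun p => 2 * Leech.valVec (Leech.row i) p) (v : leechLattice) :
    ∃ y : leechLattice, A *ᵥ (v : GolayPt → ℤ) = fun p => 8 * (y : GolayPt → ℤ) p := by
  let H : AddSubgroup (GolayPt → ℤ) :=
    { carrier := {x | ∃ y : leechLattice, A *ᵥ x = fun p => 8 * (y : GolayPt → ℤ) p}
      zero_mem' := ⟨0, by rw [Matrix.mulVec_zero]; funext p; simp⟩
      add_mem' := by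
        rintro a b ⟨y, hy⟩ ⟨z, hz⟩
        exact ⟨y + z, by rw [Matrix.mulVec_add, hy, hz]; funext p; simp [mul_add]⟩
      neg_mem' := by
        rintro a ⟨y, hy⟩
        exact ⟨-y, by rw [Matrix.mulVec_neg, hy]; funext p; simp⟩ }
  refine Leech.lattice_le H (exists_image h0) (fun i _ => ⟨exists_image (h1 i).1, exists_image (h1 i).2⟩)
    (Set.range Leech.row) Leech.golayCode_eq_span.le ?_ ?_ v.2
  · rintro _ ⟨i, rfl⟩; exact Leech.row_mem i
  · rintro _ ⟨i, rfl⟩; exact exists_image (h2 i)

theorem exists_elem {G : List (List ℤ)} (h : MOK G) :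
    ∃ g : ↥Co0, ∀ v : leechLattice,
      decM G *ᵥ (v : GolayPt → ℤ) = fun p => 8 * ((g • v : leechLattice) : GolayPt → ℤ) p := by
  set A := decM G with hA
  have he : G = encM A := (encM_decM h.shape).symm
  have het : transL G = encM Aᵀ := by rw [he, transL_encM]
  have ho : Aᵀ * A = 64 := encM_injective (by rw [← mulL_encM, ← het, ← he]; exact h.orth)
  choose f hf using lattice_image (A := A) (he ▸ h.odd) (he ▸ h.pm) (he ▸ h.rows)
  choose f' hf' using lattice_image (A := Aᵀ) (het ▸ h.odd') (het ▸ h.pm') (het ▸ h.rows')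
  have key : ∀ (B C : Matrix GolayPt GolayPt ℤ), C * B = 64 → ∀ (F F' : leechLattice → leechLattice),
      (∀ v : leechLattice, B *ᵥ (v : GolayPt → ℤ) = fun p => 8 * (F v : GolayPt → ℤ) p) →
      (∀ v : leechLattice, C *ᵥ (v : GolayPt → ℤ) = fun p => 8 * (F' v : GolayPt → ℤ) p) →
      ∀ v, F' (F v) = v := by
    intro B C hCB F F' hF hF' v
    refine Subtype.ext (funext fun p => ?_)
    have h1 : C *ᵥ (B *ᵥ (v : GolayPt → ℤ)) = fun p => 64 * (v : GolayPt → ℤ) p := by
      rw [Matrix.mulVec_mulVec, hCB]
      funext q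
      rw [show (64 : Matrix GolayPt GolayPt ℤ) = Matrix.diagonal fun _ => 64 from (Matrix.diagonal_ofNat 64).symm,
        Matrix.mulVec_diagonal]
    rw [hF, show (fun p => 8 * (F v : GolayPt → ℤ) p) = (8 : ℤ) • (F v : GolayPt → ℤ) from rfl,
      Matrix.mulVec_smul, hF'] at h1
    have := congrFun h1 p
    simp only [Pi.smul_apply, smul_eq_mul] at this
    omega
  have hinv : Function.Injective f := Function.LeftInverse.injective (key A Aᵀ ho f f' hf hf')
  have ho' : A * Aᵀ = 64 := by
    have hdet : A.det ≠ 0 := fun hz => by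
      have := congrArg Matrix.det ho
      rw [Matrix.det_mul, hz, mul_zero, show (64 : Matrix GolayPt GolayPt ℤ) = Matrix.diagonal fun _ => 64 from
        (Matrix.diagonal_ofNat 64).symm, Matrix.det_diagonal] at this
      simp at this
    have e : A * (Aᵀ * A) = (64 : Matrix GolayPt GolayPt ℤ) * A := by
      rw [ho]; exact (Nat.cast_commute 64 A).eq.symm
    rw [← Matrix.mul_assoc] at e
    have e2 : (A * Aᵀ - 64) * A = 0 := by rw [Matrix.sub_mul, e, sub_self]
    have e3 := congrArg (· * A.adjugate) e2
    simp only [Matrix.mul_assoc, Matrix.mul_adjugate, Matrix.zero_mul, Matrix.mul_smul, Matrix.mul_one] at e3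
    exact sub_eq_zero.1 ((smul_eq_zero.1 e3).resolve_left hdet)
  let e : Equiv.Perm leechLattice :=
    ⟨f, f', key A Aᵀ ho f f' hf hf', key Aᵀ A ho' f' f hf' hf⟩
  refine ⟨⟨e, fun v w => Subtype.ext (funext fun p => ?_), fun v => ?_⟩, hf⟩
  · have h1 := congrFun (hf (v + w)) p
    rw [AddSubgroup.coe_add, Matrix.mulVec_add, Pi.add_apply, hf, hf] at h1
    show (f (v + w) : GolayPt → ℤ) p = (f v : GolayPt → ℤ) p + (f w : GolayPt → ℤ) p
    simp only at h1
    omega
  · have h1 : (A *ᵥ (v : GolayPt → ℤ)) ⬝ᵥ (A *ᵥ (v : GolayPt → ℤ)) = 64 * sqNorm (v : GolayPt → ℤ) := by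
      rw [Matrix.dotProduct_mulVec, ← Matrix.mulVec_transpose, Matrix.mulVec_mulVec, ho,
        show (64 : Matrix GolayPt GolayPt ℤ) = Matrix.diagonal fun _ => 64 from (Matrix.diagonal_ofNat 64).symm]
      simp only [dotProduct, Matrix.mulVec_diagonal, sqNorm, Finset.mul_sum]
      exact Finset.sum_congr rfl fun p _ => by ring
    rw [hf] at h1
    show sqNorm (f v : GolayPt → ℤ) = _
    have h2 : ∑ p, 8 * (f v : GolayPt → ℤ) p * (8 * (f v : GolayPt → ℤ) p) =
        64 * sqNorm (f v : GolayPt → ℤ) := by
      rw [sqNorm, Finset.mul_sum]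
      exact Finset.sum_congr rfl fun p _ => by ring
    rw [dotProduct, h2] at h1
    omega

/-- The automorphism of a matrix. -/
noncomputable def elem {G : List (List ℤ)} (h : MOK G) : ↥Co0 := (exists_elem h).choose

/-- Reduction modulo thirteen of the matrix list. -/
def red (G : List (List ℤ)) : List (List (ZMod 13)) := G.map fun r => r.map fun a : ℤ => 5 * (a : ZMod 13)

theorem encM_mat13 {G : List (List ℤ)} (h : MOK G) : encM (Leech.mat13 (elem h)) = red G := by
  have hg : ∀ v : leechLattice, decM G *ᵥ (v : GolayPt → ℤ) = fun p =>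
    8 * ((elem h • v : leechLattice) : GolayPt → ℤ) p := (exists_elem h).choose_spec
  conv_rhs => rw [show G = encM (decM G) from (encM_decM h.shape).symm]
  simp only [encM, red, List.map_map]
  refine List.map_congr_left fun a _ => ?_
  simp only [Function.comp_apply, List.map_map]
  refine List.map_congr_left fun b _ => ?_
  have h1 := congrFun (hg (Leech.oct (Leech.ptOf b))) (Leech.ptOf a)
  simp only [Leech.oct, Matrix.mulVec_single, Pi.smul_apply, MulOpposite.smul_eq_mul_unop,
    MulOpposite.unop_op, Matrix.col_apply] at h1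
  have h2 : decM G (Leech.ptOf a) (Leech.ptOf b) =
      ((elem h • Leech.oct (Leech.ptOf b) : leechLattice) : GolayPt → ℤ) (Leech.ptOf a) := by
    simp only [Leech.oct]; omega
  simp only [Function.comp_apply, Leech.mat13, Matrix.of_apply, h2]

end Cfsg.Agent.Co1Mult
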