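import Mathlib
import Cfsg.Agent.Co1Mult.Mat

/-!
Matrix products on packed natural numbers, for fast kernel evaluation.
-/

set_option autoImplicit false

namespace Cfsg.Agent.Co1Mult

open Cfsg Matrix

/-- A row as one number, thirty-two bits per entry. -/
noncomputable def packR (l : List ℕ) : ℕ :=
  List.rec 0 (fun a _ x => Nat.add a (Nat.shiftLeft x 32)) l

/-- A combination. -/
noncomputable def dotR (l : List ℕ) : List ℕ → ℕ :=
  List.rec (fun _ => 0) (fun a _ ih Ps => List.rec 0 (fun P Ps' _ => Nat.add (Nat.mul a P) (ih Ps')) Ps) l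

/-- Unpacking with reduction. -/
noncomputable def unpR (M k : ℕ) : ℕ → List ℕ :=
  Nat.rec (fun _ => []) (fun _ ih x => Nat.mod (Nat.land x 4294967295) M :: ih (Nat.shiftRight x 32)) k

/-- `List.map`, by the recursor. -/
noncomputable def mapR {α β : Type} (f : α → β) (l : List α) : List β :=
  List.rec [] (fun a _ ih => f a :: ih) l

/-- The product of packed matrices. -/
noncomputable def mulN (M : ℕ) (A B : List (List ℕ)) : List (List ℕ) :=
  (fun P => mapR (fun r => unpR M 24 (dotR r P)) A) (mapR packR B)

/-- Equality of lists of numbers. -/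
noncomputable def eqR (a : List ℕ) : List ℕ → Bool :=
  List.rec (fun b => List.rec true (fun _ _ _ => false) b)
    (fun x _ ih b => List.rec false (fun y t _ => Nat.beq x y && ih t) b) a

/-- Equality of matrices of numbers. -/
noncomputable def eqM (a : List (List ℕ)) : List (List ℕ) → Bool :=
  List.rec (fun b => List.rec true (fun _ _ _ => false) b)
    (fun x _ ih b => List.rec false (fun y t _ => eqR x y && ih t) b) a

theorem mapR_eq {α β : Type} (f : α → β) : ∀ l : List α, mapR f l = l.map f
  | [] => rfl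
  | a :: l => congrArg (f a :: ·) (mapR_eq f l)

theorem eqR_iff : ∀ a b : List ℕ, eqR a b = true ↔ a = b
  | [], [] => by simp [eqR]
  | [], _ :: _ => by simp [eqR]
  | _ :: _, [] => by simp [eqR]
  | x :: a, y :: b => by
    show (Nat.beq x y && eqR a b) = true ↔ _
    rw [Bool.and_eq_true, eqR_iff a b, List.cons.injEq]
    exact and_congr ⟨Nat.eq_of_beq_eq_true, fun h => h ▸ Nat.beq_refl x⟩ Iff.rfl

theorem eqM_iff : ∀ a b : List (List ℕ), eqM a b = true ↔ a = b
  | [], [] => by simp [eqM]
  | [], _ :: _ => by simp [eqM]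
  | _ :: _, [] => by simp [eqM]
  | x :: a, y :: b => by
    show (eqR x y && eqM a b) = true ↔ _
    rw [Bool.and_eq_true, eqR_iff, eqM_iff a b, List.cons.injEq]

theorem packR_cons (a : ℕ) (l : List ℕ) : packR (a :: l) = a + 2 ^ 32 * packR l := by
  show a + (packR l) <<< 32 = _
  rw [Nat.shiftLeft_eq, mul_comm]

theorem packR_add {ι : Type} (f g : ι → ℕ) (c : ℕ) : ∀ l : List ι,
    c * packR (l.map f) + packR (l.map g) = packR (l.map fun i => c * f i + g i)
  | [] => by simp [packR]
  | a :: l => by
    simp only [List.map_cons, packR_cons, ← packR_add f g c l]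
    ring

theorem dotR_pack (a : ℕ → ℕ) (B : ℕ → ℕ → ℕ) (J : List ℕ) : ∀ l : List ℕ,
    dotR (l.map a) (l.map fun k => packR (J.map (B k))) = packR (J.map fun j => (l.map fun k => a k * B k j).sum)
  | [] => by
    show 0 = _
    induction J with
    | nil => rfl
    | cons j J ih =>
      simp only [List.map_cons, packR_cons, List.map_nil, List.sum_nil] at ih ⊢
      rw [← ih, mul_zero, add_zero]
  | k :: l => by
    show a k * packR (J.map (B k)) + dotR (l.map a) (l.map fun k => packR (J.map (B k))) = _
    rw [dotR_pack a B J l, packR_add]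
    rfl

theorem dotR_eq (a b : ℕ → ℕ) : ∀ l : List ℕ, dotR (l.map a) (l.map b) = (l.map fun k => a k * b k).sum
  | [] => rfl
  | k :: l => by
    show a k * b k + dotR (l.map a) (l.map b) = _
    rw [dotR_eq a b l, List.map_cons, List.sum_cons]

theorem unpR_pack (M : ℕ) : ∀ l : List ℕ, (∀ x ∈ l, x < 2 ^ 32) → unpR M l.length (packR l) = l.map (· % M)
  | [], _ => rfl
  | a :: l, h => by
    have ha : a < 2 ^ 32 := h a List.mem_cons_self
    show Nat.mod (Nat.land (packR (a :: l)) 4294967295) M :: unpR M l.length (Nat.shiftRight (packR (a :: l)) 32) = _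
    have e1 : Nat.land (packR (a :: l)) 4294967295 = a := by
      show packR (a :: l) &&& (2 ^ 32 - 1) = a
      rw [Nat.and_two_pow_sub_one_eq_mod, packR_cons, Nat.add_mul_mod_self_left, Nat.mod_eq_of_lt ha]
    have e2 : Nat.shiftRight (packR (a :: l)) 32 = packR l := by
      show packR (a :: l) >>> 32 = _
      rw [Nat.shiftRight_eq_div_pow, packR_cons, Nat.add_mul_div_left _ _ (by norm_num),
        Nat.div_eq_of_lt ha, zero_add]
    rw [e1, e2, unpR_pack M l fun x hx => h x (List.mem_cons_of_mem _ hx)]
    rfl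

/-- An integer matrix reduced, as lists. -/
def encN (M : ℕ) (A : Matrix GolayPt GolayPt ℤ) : List (List ℕ) :=
  (List.range 24).map fun a => (List.range 24).map fun b => (A (Leech.ptOf a) (Leech.ptOf b) % M).toNat

/-- An integer vector reduced, as a list. -/
def encVN (M : ℕ) (x : GolayPt → ℤ) : List ℕ := (List.range 24).map fun a => (x (Leech.ptOf a) % M).toNat

/-- An integer list matrix reduced. -/
def toN (M : ℕ) (G : List (List ℤ)) : List (List ℕ) := G.map fun r => r.map fun a => (a % (M : ℤ)).toNat

theorem toN_encM (M : ℕ) (A : Matrix GolayPt GolayPt ℤ) : toN M (encM A) = encN M A := by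
  simp only [toN, encM, encN, List.map_map]
  refine List.map_congr_left fun a _ => ?_
  simp only [Function.comp_apply, List.map_map]
  exact List.map_congr_left fun b _ => rfl

theorem sum_mod_eq {M : ℕ} (hM : 0 < M) (f g : GolayPt → ℤ) :
    ((List.range 24).map fun k => (f (Leech.ptOf k) % M).toNat * (g (Leech.ptOf k) % M).toNat).sum % M =
      ((∑ p, f p * g p) % M).toNat := by
  have hnn : ∀ z : ℤ, ((z % M).toNat : ℤ) = z % M := fun z =>
    Int.toNat_of_nonneg (Int.emod_nonneg _ (by omega))
  apply Int.natCast_inj.1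
  rw [hnn, Int.natCast_mod, Nat.cast_list_sum, List.map_map, sum_range_eq fun p => f p * g p]
  induction List.range 24 with
  | nil => simp
  | cons k l ih =>
    simp only [List.map_cons, List.sum_cons, Function.comp_apply, Nat.cast_mul, hnn]
    rw [Int.add_emod, ← Int.mul_emod, ih, ← Int.add_emod]

theorem sum_lt_of_le : ∀ (l : List ℕ) (B : ℕ), (∀ x ∈ l, x ≤ B) → l.sum ≤ l.length * B
  | [], _, _ => by simp
  | a :: l, B, h => by
    have := sum_lt_of_le l B fun x hx => h x (List.mem_cons_of_mem _ hx)
    have := h a List.mem_cons_self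
    rw [List.sum_cons, List.length_cons, Nat.succ_mul]
    omega

theorem mulN_encN {M : ℕ} (hM : 0 < M) (hM' : M ≤ 4096) (A B : Matrix GolayPt GolayPt ℤ) :
    mulN M (encN M A) (encN M B) = encN M (A * B) := by
  simp only [mulN, mapR_eq, encN, List.map_map]
  refine List.map_congr_left fun a _ => ?_
  simp only [Function.comp_def]
  rw [dotR_pack (fun k => (A (Leech.ptOf a) (Leech.ptOf k) % M).toNat)
    (fun k j => (B (Leech.ptOf k) (Leech.ptOf j) % M).toNat) (List.range 24) (List.range 24)]
  have hb : ∀ z : ℤ, (z % M).toNat ≤ 4096 := fun z => by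
    have := Int.emod_lt_of_pos z (show (0 : ℤ) < M by omega)
    omega
  have h := unpR_pack M ((List.range 24).map fun j => ((List.range 24).map fun k =>
    (A (Leech.ptOf a) (Leech.ptOf k) % M).toNat * (B (Leech.ptOf k) (Leech.ptOf j) % M).toNat).sum) (by
    intro x hx
    obtain ⟨j, -, rfl⟩ := List.mem_map.1 hx
    refine lt_of_le_of_lt (sum_lt_of_le _ (4096 * 4096) fun y hy => ?_) ?_
    · obtain ⟨k, -, rfl⟩ := List.mem_map.1 hy
      exact Nat.mul_le_mul (hb _) (hb _)
    · rw [List.length_map, List.length_range]; norm_num)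
  rw [List.length_map, List.length_range, List.map_map] at h
  rw [h]
  refine List.map_congr_left fun j _ => ?_
  exact (sum_mod_eq hM (A (Leech.ptOf a)) fun p => B p (Leech.ptOf j)).trans (by rw [Matrix.mul_apply])

/-- A matrix applied to a vector. -/
noncomputable def appN (M : ℕ) (A : List (List ℕ)) (v : List ℕ) : List ℕ :=
  mapR (fun r => Nat.mod (dotR r v) M) A

theorem appN_encN {M : ℕ} (hM : 0 < M) (A : Matrix GolayPt GolayPt ℤ) (x : GolayPt → ℤ) :
    appN M (encN M A) (encVN M x) = encVN M (A *ᵥ x) := by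
  simp only [appN, mapR_eq, encN, encVN, List.map_map]
  refine List.map_congr_left fun a _ => ?_
  simp only [Function.comp_apply]
  rw [dotR_eq (fun k => (A (Leech.ptOf a) (Leech.ptOf k) % M).toNat) (fun k => (x (Leech.ptOf k) % M).toNat)]
  exact sum_mod_eq hM (A (Leech.ptOf a)) x

end Cfsg.Agent.Co1Mult
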