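import Mathlib
import Cfsg.Agent.Co1Mult.Pack

/-!
A fast check that an integer matrix gives an automorphism of the lattice.
-/

set_option autoImplicit false

namespace Cfsg.Agent.Co1Mult

open Cfsg Matrix

/-- The generators of the lattice modulo sixty-four. -/
def genVN : List (List ℕ) :=
  [[61, 1, 1, 1, 1, 1, 1, 1, 1, 1, 1, 1, 1, 1, 1, 1, 1, 1, 1, 1, 1, 1, 1, 1],
    [8, 0, 0, 0, 0, 0, 0, 0, 0, 0, 0, 0, 0, 0, 0, 0, 0, 0, 0, 0, 0, 0, 0, 0],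
    [0, 0, 0, 0, 0, 0, 0, 0, 0, 0, 0, 0, 0, 0, 0, 0, 0, 0, 0, 0, 0, 0, 0, 0],
    [4, 4, 0, 0, 0, 0, 0, 0, 0, 0, 0, 0, 0, 0, 0, 0, 0, 0, 0, 0, 0, 0, 0, 0],
    [60, 4, 0, 0, 0, 0, 0, 0, 0, 0, 0, 0, 0, 0, 0, 0, 0, 0, 0, 0, 0, 0, 0, 0],
    [4, 0, 4, 0, 0, 0, 0, 0, 0, 0, 0, 0, 0, 0, 0, 0, 0, 0, 0, 0, 0, 0, 0, 0],
    [60, 0, 4, 0, 0, 0, 0, 0, 0, 0, 0, 0, 0, 0, 0, 0, 0, 0, 0, 0, 0, 0, 0, 0],
    [4, 0, 0, 4, 0, 0, 0, 0, 0, 0, 0, 0, 0, 0, 0, 0, 0, 0, 0, 0, 0, 0, 0, 0],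
    [60, 0, 0, 4, 0, 0, 0, 0, 0, 0, 0, 0, 0, 0, 0, 0, 0, 0, 0, 0, 0, 0, 0, 0],
    [4, 0, 0, 0, 4, 0, 0, 0, 0, 0, 0, 0, 0, 0, 0, 0, 0, 0, 0, 0, 0, 0, 0, 0],
    [60, 0, 0, 0, 4, 0, 0, 0, 0, 0, 0, 0, 0, 0, 0, 0, 0, 0, 0, 0, 0, 0, 0, 0],
    [4, 0, 0, 0, 0, 4, 0, 0, 0, 0, 0, 0, 0, 0, 0, 0, 0, 0, 0, 0, 0, 0, 0, 0],
    [60, 0, 0, 0, 0, 4, 0, 0, 0, 0, 0, 0, 0, 0, 0, 0, 0, 0, 0, 0, 0, 0, 0, 0],
    [4, 0, 0, 0, 0, 0, 4, 0, 0, 0, 0, 0, 0, 0, 0, 0, 0, 0, 0, 0, 0, 0, 0, 0],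
    [60, 0, 0, 0, 0, 0, 4, 0, 0, 0, 0, 0, 0, 0, 0, 0, 0, 0, 0, 0, 0, 0, 0, 0],
    [4, 0, 0, 0, 0, 0, 0, 4, 0, 0, 0, 0, 0, 0, 0, 0, 0, 0, 0, 0, 0, 0, 0, 0],
    [60, 0, 0, 0, 0, 0, 0, 4, 0, 0, 0, 0, 0, 0, 0, 0, 0, 0, 0, 0, 0, 0, 0, 0],
    [4, 0, 0, 0, 0, 0, 0, 0, 4, 0, 0, 0, 0, 0, 0, 0, 0, 0, 0, 0, 0, 0, 0, 0],
    [60, 0, 0, 0, 0, 0, 0, 0, 4, 0, 0, 0, 0, 0, 0, 0, 0, 0, 0, 0, 0, 0, 0, 0],
    [4, 0, 0, 0, 0, 0, 0, 0, 0, 4, 0, 0, 0, 0, 0, 0, 0, 0, 0, 0, 0, 0, 0, 0],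
    [60, 0, 0, 0, 0, 0, 0, 0, 0, 4, 0, 0, 0, 0, 0, 0, 0, 0, 0, 0, 0, 0, 0, 0],
    [4, 0, 0, 0, 0, 0, 0, 0, 0, 0, 4, 0, 0, 0, 0, 0, 0, 0, 0, 0, 0, 0, 0, 0],
    [60, 0, 0, 0, 0, 0, 0, 0, 0, 0, 4, 0, 0, 0, 0, 0, 0, 0, 0, 0, 0, 0, 0, 0],
    [4, 0, 0, 0, 0, 0, 0, 0, 0, 0, 0, 4, 0, 0, 0, 0, 0, 0, 0, 0, 0, 0, 0, 0],
    [60, 0, 0, 0, 0, 0, 0, 0, 0, 0, 0, 4, 0, 0, 0, 0, 0, 0, 0, 0, 0, 0, 0, 0],
    [4, 0, 0, 0, 0, 0, 0, 0, 0, 0, 0, 0, 4, 0, 0, 0, 0, 0, 0, 0, 0, 0, 0, 0],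
    [60, 0, 0, 0, 0, 0, 0, 0, 0, 0, 0, 0, 4, 0, 0, 0, 0, 0, 0, 0, 0, 0, 0, 0],
    [4, 0, 0, 0, 0, 0, 0, 0, 0, 0, 0, 0, 0, 4, 0, 0, 0, 0, 0, 0, 0, 0, 0, 0],
    [60, 0, 0, 0, 0, 0, 0, 0, 0, 0, 0, 0, 0, 4, 0, 0, 0, 0, 0, 0, 0, 0, 0, 0],
    [4, 0, 0, 0, 0, 0, 0, 0, 0, 0, 0, 0, 0, 0, 4, 0, 0, 0, 0, 0, 0, 0, 0, 0],
    [60, 0, 0, 0, 0, 0, 0, 0, 0, 0, 0, 0, 0, 0, 4, 0, 0, 0, 0, 0, 0, 0, 0, 0],
    [4, 0, 0, 0, 0, 0, 0, 0, 0, 0, 0, 0, 0, 0, 0, 4, 0, 0, 0, 0, 0, 0, 0, 0],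
    [60, 0, 0, 0, 0, 0, 0, 0, 0, 0, 0, 0, 0, 0, 0, 4, 0, 0, 0, 0, 0, 0, 0, 0],
    [4, 0, 0, 0, 0, 0, 0, 0, 0, 0, 0, 0, 0, 0, 0, 0, 4, 0, 0, 0, 0, 0, 0, 0],
    [60, 0, 0, 0, 0, 0, 0, 0, 0, 0, 0, 0, 0, 0, 0, 0, 4, 0, 0, 0, 0, 0, 0, 0],
    [4, 0, 0, 0, 0, 0, 0, 0, 0, 0, 0, 0, 0, 0, 0, 0, 0, 4, 0, 0, 0, 0, 0, 0],
    [60, 0, 0, 0, 0, 0, 0, 0, 0, 0, 0, 0, 0, 0, 0, 0, 0, 4, 0, 0, 0, 0, 0, 0],
    [4, 0, 0, 0, 0, 0, 0, 0, 0, 0, 0, 0, 0, 0, 0, 0, 0, 0, 4, 0, 0, 0, 0, 0],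
    [60, 0, 0, 0, 0, 0, 0, 0, 0, 0, 0, 0, 0, 0, 0, 0, 0, 0, 4, 0, 0, 0, 0, 0],
    [4, 0, 0, 0, 0, 0, 0, 0, 0, 0, 0, 0, 0, 0, 0, 0, 0, 0, 0, 4, 0, 0, 0, 0],
    [60, 0, 0, 0, 0, 0, 0, 0, 0, 0, 0, 0, 0, 0, 0, 0, 0, 0, 0, 4, 0, 0, 0, 0],
    [4, 0, 0, 0, 0, 0, 0, 0, 0, 0, 0, 0, 0, 0, 0, 0, 0, 0, 0, 0, 4, 0, 0, 0],
    [60, 0, 0, 0, 0, 0, 0, 0, 0, 0, 0, 0, 0, 0, 0, 0, 0, 0, 0, 0, 4, 0, 0, 0],
    [4, 0, 0, 0, 0, 0, 0, 0, 0, 0, 0, 0, 0, 0, 0, 0, 0, 0, 0, 0, 0, 4, 0, 0],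
    [60, 0, 0, 0, 0, 0, 0, 0, 0, 0, 0, 0, 0, 0, 0, 0, 0, 0, 0, 0, 0, 4, 0, 0],
    [4, 0, 0, 0, 0, 0, 0, 0, 0, 0, 0, 0, 0, 0, 0, 0, 0, 0, 0, 0, 0, 0, 4, 0],
    [60, 0, 0, 0, 0, 0, 0, 0, 0, 0, 0, 0, 0, 0, 0, 0, 0, 0, 0, 0, 0, 0, 4, 0],
    [4, 0, 0, 0, 0, 0, 0, 0, 0, 0, 0, 0, 0, 0, 0, 0, 0, 0, 0, 0, 0, 0, 0, 4],
    [60, 0, 0, 0, 0, 0, 0, 0, 0, 0, 0, 0, 0, 0, 0, 0, 0, 0, 0, 0, 0, 0, 0, 4],
    [2, 0, 0, 0, 0, 0, 0, 0, 0, 0, 0, 0, 2, 0, 2, 0, 2, 2, 2, 0, 0, 0, 2, 2],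
    [0, 2, 0, 0, 0, 0, 0, 0, 0, 0, 0, 0, 2, 2, 2, 2, 2, 0, 0, 2, 0, 0, 2, 0],
    [0, 0, 2, 0, 0, 0, 0, 0, 0, 0, 0, 0, 0, 2, 2, 2, 2, 2, 0, 0, 2, 0, 0, 2],
    [0, 0, 0, 2, 0, 0, 0, 0, 0, 0, 0, 0, 2, 2, 0, 0, 0, 2, 2, 2, 0, 2, 2, 0],
    [0, 0, 0, 0, 2, 0, 0, 0, 0, 0, 0, 0, 0, 2, 2, 0, 0, 0, 2, 2, 2, 0, 2, 2],
    [0, 0, 0, 0, 0, 2, 0, 0, 0, 0, 0, 0, 2, 2, 0, 0, 2, 0, 0, 0, 2, 2, 2, 2],
    [0, 0, 0, 0, 0, 0, 2, 0, 0, 0, 0, 0, 2, 0, 0, 2, 2, 2, 0, 2, 0, 2, 0, 2],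
    [0, 0, 0, 0, 0, 0, 0, 2, 0, 0, 0, 0, 2, 0, 2, 2, 0, 2, 2, 2, 2, 0, 0, 0],
    [0, 0, 0, 0, 0, 0, 0, 0, 2, 0, 0, 0, 0, 2, 0, 2, 2, 0, 2, 2, 2, 2, 0, 0],
    [0, 0, 0, 0, 0, 0, 0, 0, 0, 2, 0, 0, 0, 0, 2, 0, 2, 2, 0, 2, 2, 2, 2, 0],
    [0, 0, 0, 0, 0, 0, 0, 0, 0, 0, 2, 0, 0, 0, 0, 2, 0, 2, 2, 0, 2, 2, 2, 2],
    [0, 0, 0, 0, 0, 0, 0, 0, 0, 0, 0, 2, 2, 2, 2, 2, 0, 0, 2, 0, 0, 2, 0, 2]]

/-- The transpose of a list matrix. -/
def transN (A : List (List ℕ)) : List (List ℕ) :=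
  (List.range 24).map fun a => (List.range 24).map fun b => (A.getD b []).getD a 0

/-- The scalar matrix as a list. -/
def scalN (c : ℕ) : List (List ℕ) :=
  (List.range 24).map fun a => (List.range 24).map fun b => if a = b then c else 0

/-- The word with the given digits. -/
noncomputable def maskR (l : List ℕ) : ℕ :=
  List.rec 0 (fun a _ w => Nat.add (Nat.mod a 2) (Nat.mul 2 w)) l

/-- The code word with the same pivot values. -/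
def decC (w : ℕ) : ℕ :=
  (List.finRange 12).foldl (fun acc i => if w.testBit i.val then acc ^^^ Leech.rowMask i else acc) 0

/-- Lattice membership from residues modulo eight. -/
noncomputable def inB (x : List ℕ) : Bool :=
  let m := x.headD 0 % 2
  x.all (fun a => Nat.beq (a % 2) m) && Nat.beq ((x.sum + 4 * m) % 8) 0 &&
    (fun w => Nat.beq (decC w) w) (maskR (mapR (fun a => (a - m) / 2) x))

/-- The image is in the lattice. -/
noncomputable def okN (G64 : List (List ℕ)) (v : List ℕ) : Bool :=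
  let d := appN 64 G64 v
  d.all (fun a => Nat.beq (a % 8) 0) && inB (mapR (fun a => a / 8) d)

/-- All conditions on the matrix. -/
noncomputable def fastB (G : List (List ℤ)) : Bool :=
  Nat.beq G.length 24 && G.all (fun r => Nat.beq r.length 24 && r.all fun a => Nat.ble a.natAbs 8) &&
  (fun g => eqM (mulN 4096 (transN g) g) (scalN 64)) (toN 4096 G) &&
  (fun g => genVN.all (okN g) && (fun t => genVN.all (okN t)) (transN g)) (toN 64 G)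

theorem transN_encN (M : ℕ) (A : Matrix GolayPt GolayPt ℤ) : transN (encN M A) = encN M Aᵀ := by
  refine List.map_congr_left fun a ha => List.map_congr_left fun b hb => ?_
  have ha' := List.mem_range.1 ha
  have hb' := List.mem_range.1 hb
  simp [encN, List.getD_eq_getElem?_getD, ha', hb']

theorem testBit_maskR : ∀ (l : List ℕ) (i : ℕ), (maskR l).testBit i = true ↔ l.getD i 0 % 2 = 1
  | [], i => by simp [maskR]
  | a :: l, 0 => by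
    show (a % 2 + 2 * maskR l).testBit 0 = true ↔ _
    rw [Nat.testBit_zero, decide_eq_true_eq, List.getD_cons_zero]; omega
  | a :: l, i + 1 => by
    show (a % 2 + 2 * maskR l).testBit (i + 1) = true ↔ _
    rw [Nat.testBit_succ, show (a % 2 + 2 * maskR l) / 2 = maskR l by omega, testBit_maskR l i,
      List.getD_cons_succ]

theorem decC_mem (w : ℕ) : Leech.bitWord (decC w) ∈ golayCode := by
  have key : ∀ (l : List (Fin 12)) (acc : ℕ), Leech.bitWord acc ∈ golayCode → Leech.bitWord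
      (l.foldl (fun acc i => if w.testBit i.val then acc ^^^ Leech.rowMask i else acc) acc) ∈ golayCode := by
    intro l
    induction l with
    | nil => exact fun acc h => h
    | cons i l ih =>
      intro acc h
      refine ih _ ?_
      show Leech.bitWord (if w.testBit i.val then acc ^^^ Leech.rowMask i else acc) ∈ golayCode
      split_ifs
      · rw [Leech.bitWord_xor]; exact add_mem h (Leech.row_mem i)
      · exact h
  exact key _ 0 (by rw [Leech.bitWord_zero]; exact zero_mem _)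

theorem inB_sound (y : GolayPt → ℤ) (h : inB ((List.range 24).map fun a => (y (Leech.ptOf a) % 8).toNat) = true) :
    let m := y none % 2
    (∀ i, y i = m + 2 * ((y i - m) / 2)) ∧ (8 : ℤ) ∣ (∑ i, y i) - 4 * m ∧
      Leech.dec (Leech.red2 fun i => (y i - m) / 2) = Leech.red2 fun i => (y i - m) / 2 := by
  have hh : ((List.range 24).map fun a => (y (Leech.ptOf a) % 8).toNat).headD 0 = (y none % 8).toNat := rfl
  simp only [inB, Bool.and_eq_true, List.all_eq_true, List.mem_map, forall_exists_index, and_imp,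
    forall_apply_eq_imp_iff₂, List.mem_range, mapR_eq, List.map_map, hh] at h
  obtain ⟨⟨h1, h2⟩, h3⟩ := h
  have hpar : ∀ i, ((y i % 8).toNat) % 2 = (y none % 8).toNat % 2 := fun i => by
    have := Nat.eq_of_beq_eq_true (h1 (Leech.idx i) (Leech.idx_lt i))
    rwa [Leech.ptOf_idx] at this
  refine ⟨fun i => ?_, ?_, ?_⟩
  · have := hpar i
    omega
  · have h4 := Nat.eq_of_beq_eq_true h2
    rw [sum_range_eq]
    have e : ∀ l : List ℕ, ((l.map fun a => y (Leech.ptOf a)).sum -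
        ((l.map fun a => (y (Leech.ptOf a) % 8).toNat).sum : ℕ)) % 8 = 0 := by
      intro l
      induction l with
      | nil => simp
      | cons a l ih =>
        simp only [List.map_cons, List.sum_cons, Nat.cast_add]
        omega
    have := e (List.range 24)
    omega
  · refine (Leech.mem_iff _).1 ?_
    set w := maskR ((List.range 24).map ((fun a => (a - (y none % 8).toNat % 2) / 2) ∘
      fun a => (y (Leech.ptOf a) % 8).toNat)) with hw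
    have hd : decC w = w := Nat.eq_of_beq_eq_true h3
    have e : Leech.bitWord w = Leech.red2 fun i => (y i - y none % 2) / 2 := by
      funext p
      have ht := testBit_maskR ((List.range 24).map ((fun a => (a - (y none % 8).toNat % 2) / 2) ∘
        fun a => (y (Leech.ptOf a) % 8).toNat)) (Leech.idx p)
      simp only [List.getD_eq_getElem?_getD, List.getElem?_map, List.getElem?_range (Leech.idx_lt p),
        Option.map_some, Option.getD_some, Function.comp_apply, Leech.ptOf_idx, ← hw] at ht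
      have hp := hpar p
      simp only [Leech.bitWord, Leech.red2]
      have h2' := ZMod.intCast_eq_intCast_iff' ((y p - y none % 2) / 2)
      by_cases hb : w.testBit (Leech.idx p) = true
      · rw [if_pos hb]
        refine Eq.trans (by simp) ((h2' 1 2).2 ?_).symm
        have := ht.1 hb
        omega
      · rw [if_neg hb]
        refine Eq.trans (by simp) ((h2' 0 2).2 ?_).symm
        have : ¬ _ := fun q => hb (ht.2 q)
        omega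
    rw [← e, ← hd]
    exact decC_mem w

theorem okN_sound (A : Matrix GolayPt GolayPt ℤ) (x : GolayPt → ℤ) (h : okN (encN 64 A) (encVN 64 x) = true) :
    okV (encM A) x := by
  simp only [okN, appN_encN (show 0 < 64 by norm_num)] at h
  simp only [encVN, Bool.and_eq_true, List.all_eq_true, List.mem_map,
    forall_exists_index, and_imp, forall_apply_eq_imp_iff₂, List.mem_range, mapR_eq, List.map_map] at h
  obtain ⟨h1, h2⟩ := h
  have h8 : ∀ p, (8 : ℤ) ∣ (A *ᵥ x) p := fun p => by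
    have := Nat.eq_of_beq_eq_true (h1 (Leech.idx p) (Leech.idx_lt p))
    rw [Leech.ptOf_idx] at this
    omega
  refine ⟨?_, ?_⟩
  · rw [imgL_encM]
    simp only [List.all_eq_true, Leech.toL, List.mem_map, forall_exists_index, and_imp, forall_apply_eq_imp_iff₂,
      decide_eq_true_eq]
    exact fun a _ => h8 _
  · have e : Leech.ofL ((imgL (encM A) x).map (· / 8)) = fun p => (A *ᵥ x) p / 8 := by
      funext p
      rw [imgL_encM]
      simp [Leech.ofL, Leech.toL, List.getD_eq_getElem?_getD, Leech.idx_lt, Leech.ptOf_idx]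
    rw [e]
    refine inB_sound _ ?_
    convert h2 using 3
    funext a
    have := h8 (Leech.ptOf a)
    simp only [Function.comp_apply]
    omega

theorem genVN_eq : genVN = ([Leech.vecOdd] ++
    ((List.range 24).flatMap fun a => [(Pi.single (Leech.ptOf a) 4 + Pi.single none 4 : GolayPt → ℤ),
      Pi.single (Leech.ptOf a) 4 - Pi.single none 4]) ++
    (List.finRange 12).map fun i => fun p => 2 * Leech.valVec (Leech.row i) p).map (encVN 64) := by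
  decide +kernel

theorem mok_of_fast {G : List (List ℤ)} (h : fastB G = true) : MOK G := by
  simp only [fastB, Bool.and_eq_true, List.all_eq_true] at h
  obtain ⟨⟨⟨hl, hr⟩, horth⟩, hv, hv'⟩ := h
  have hl' := Nat.eq_of_beq_eq_true hl
  have hshape : shapeOK G := by
    refine List.ext_getElem (by simp [hl']) fun a ha _ => ?_
    have h2 := Nat.eq_of_beq_eq_true (hr _ (List.getElem_mem ha)).1
    simp only [List.getElem_map, List.getElem_range]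
    refine List.ext_getElem (by simp [h2]) fun b hb _ => ?_
    simp [List.getD_eq_getElem?_getD, ha, hb]
  set A := decM G with hA
  have he : G = encM A := (encM_decM hshape).symm
  have hbound : ∀ p q, |A p q| ≤ 8 := by
    intro p q
    have hp : Leech.idx p < G.length := by rw [hl']; exact Leech.idx_lt p
    obtain ⟨h2, h3⟩ := hr _ (List.getElem_mem hp)
    have hq : Leech.idx q < (G[Leech.idx p]).length := by rw [Nat.eq_of_beq_eq_true h2]; exact Leech.idx_lt q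
    have := Nat.le_of_ble_eq_true (h3 _ (List.getElem_mem hq))
    have e : A p q = (G[Leech.idx p])[Leech.idx q] := by
      simp [hA, decM, List.getD_eq_getElem?_getD, hp, hq]
    rw [e, Int.abs_eq_natAbs]
    omega
  have horth' : mulL (transL G) G = encM (64 : Matrix GolayPt GolayPt ℤ) := by
    rw [he, transL_encM, mulL_encM]
    refine congrArg encM (Matrix.ext fun p q => ?_)
    have h1 := (eqM_iff _ _).1 horth
    rw [he, toN_encM, transN_encN, mulN_encN (by norm_num) le_rfl] at h1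
    have h2 := congrArg (fun l : List (List ℕ) => (l.getD (Leech.idx p) []).getD (Leech.idx q) 0) h1
    have hi : Leech.idx p = Leech.idx q ↔ p = q :=
      ⟨fun e => by rw [← Leech.ptOf_idx p, e, Leech.ptOf_idx], fun e => by rw [e]⟩
    simp [encN, scalN, List.getD_eq_getElem?_getD, Leech.idx_lt, Leech.ptOf_idx, hi] at h2
    have hb : |(Aᵀ * A) p q| ≤ 1536 := by
      rw [Matrix.mul_apply]
      refine (Finset.abs_sum_le_sum_abs _ _).trans ((Finset.sum_le_card_nsmul _ _ 64 fun x _ => ?_).trans ?_)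
      · rw [abs_mul]
        exact (mul_le_mul (hbound _ _) (hbound _ _) (abs_nonneg _) (by norm_num)).trans (by norm_num)
      · simp
    rw [abs_le] at hb
    rw [show (64 : Matrix GolayPt GolayPt ℤ) = Matrix.diagonal fun _ => 64 from (Matrix.diagonal_ofNat 64).symm,
      Matrix.diagonal_apply]
    split_ifs with hpq
    · rw [if_pos hpq] at h2
      omega
    · rw [if_neg hpq] at h2
      omega
  have mem : ∀ (B : Matrix GolayPt GolayPt ℤ), (∀ v ∈ genVN, okN (encN 64 B) v = true) →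
      okV (encM B) Leech.vecOdd ∧
      (∀ i : GolayPt, okV (encM B) (Pi.single i 4 + Pi.single none 4) ∧
        okV (encM B) (Pi.single i 4 - Pi.single none 4)) ∧
      ∀ i : Fin 12, okV (encM B) fun p => 2 * Leech.valVec (Leech.row i) p := by
    intro B hB
    rw [genVN_eq] at hB
    have hB' := fun x hx => okN_sound B x (hB _ (List.mem_map_of_mem hx))
    refine ⟨hB' _ (by simp), fun i => ?_, fun i => hB' _ (List.mem_append_right _ (List.mem_map.2 ⟨i, List.mem_finRange i, rfl⟩))⟩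
    have hi : Leech.idx i ∈ List.range 24 := List.mem_range.2 (Leech.idx_lt i)
    constructor
    · refine hB' _ (List.mem_append_left _ (List.mem_append_right _ (List.mem_flatMap.2 ⟨_, hi, ?_⟩)))
      rw [Leech.ptOf_idx]; simp
    · refine hB' _ (List.mem_append_left _ (List.mem_append_right _ (List.mem_flatMap.2 ⟨_, hi, ?_⟩)))
      rw [Leech.ptOf_idx]; simp
  have hA64 : toN 64 G = encN 64 A := by rw [he, toN_encM]
  have hT64 : transN (toN 64 G) = encN 64 Aᵀ := by rw [he, toN_encM, transN_encN]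
  obtain ⟨o1, o2, o3⟩ := mem A (hA64 ▸ hv)
  obtain ⟨t1, t2, t3⟩ := mem Aᵀ (hT64 ▸ hv')
  have het : transL G = encM Aᵀ := by rw [he, transL_encM]
  exact ⟨hshape, horth', he ▸ o1, he ▸ o2, he ▸ o3, het ▸ t1, het ▸ t2, het ▸ t3⟩

end Cfsg.Agent.Co1Mult
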