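import Mathlib
import Cfsg.Agent.Co1Mult.Fast

/-!
Equality of words in matrix elements of `Co₁`, and independence through the orbit of a vector.
-/

set_option autoImplicit false

namespace Cfsg.Agent.Co1Mult

open Cfsg Matrix
open Cfsg.Agent.Co1Out (toC toC_eq_iff)

/-- A matrix over `ZMod 13` as lists of numbers. -/
def enc13 (X : Matrix GolayPt GolayPt (ZMod 13)) : List (List ℕ) := encN 13 (X.map fun a => (a.val : ℤ))

/-- A vector over `ZMod 13` as a list of numbers. -/
def encV (x : GolayPt → ZMod 13) : List ℕ := encVN 13 fun p => ((x p).val : ℤ)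

theorem encN_eq (A : Matrix GolayPt GolayPt ℤ) : encN 13 A = enc13 (A.map fun a : ℤ => (a : ZMod 13)) := by
  simp only [enc13, encN]
  refine List.map_congr_left fun a _ => List.map_congr_left fun b _ => ?_
  simp only [Matrix.map_apply, ZMod.val_intCast, Nat.cast_ofNat]
  omega

theorem encVN_eq (x : GolayPt → ℤ) : encVN 13 x = encV fun p => ((x p : ℤ) : ZMod 13) := by
  simp only [encV, encVN]
  refine List.map_congr_left fun a _ => ?_
  simp only [Matrix.map_apply, ZMod.val_intCast, Nat.cast_ofNat]
  omega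

theorem val_entry : ∀ a b : ZMod 13, ((a.val : ℤ) % 13).toNat = ((b.val : ℤ) % 13).toNat → a = b := by decide

theorem enc13_injective : Function.Injective enc13 := fun X Y h => by
  refine Matrix.ext fun p q => ?_
  have := congrArg (fun l => (List.getD l (Leech.idx p) []).getD (Leech.idx q) 0) h
  simp only [enc13, encN, List.getD_eq_getElem?_getD, List.getElem?_map, List.getElem?_range (Leech.idx_lt _),
    Option.map_some, Option.getD_some, Leech.ptOf_idx, Matrix.map_apply] at this
  exact val_entry _ _ this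

theorem lift_map (X : Matrix GolayPt GolayPt (ZMod 13)) :
    (X.map fun a => (a.val : ℤ)).map (fun a : ℤ => (a : ZMod 13)) = X := by
  ext p q; simp

theorem map_cast_mul (A B : Matrix GolayPt GolayPt ℤ) :
    (A * B).map (Int.castRingHom (ZMod 13)) = A.map (Int.castRingHom (ZMod 13)) * B.map (Int.castRingHom (ZMod 13)) :=
  Matrix.map_mul

theorem cast_mulVec (A : Matrix GolayPt GolayPt ℤ) (v : GolayPt → ℤ) (p : GolayPt) :
    (((A *ᵥ v) p : ℤ) : ZMod 13) = (A.map (Int.castRingHom (ZMod 13)) *ᵥ fun q => ((v q : ℤ) : ZMod 13)) p :=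
  RingHom.map_mulVec (Int.castRingHom (ZMod 13)) A v p

theorem mulN_enc13 (X Y : Matrix GolayPt GolayPt (ZMod 13)) : mulN 13 (enc13 X) (enc13 Y) = enc13 (X * Y) := by
  have h := mulN_encN (M := 13) (by norm_num) (by norm_num) (X.map fun a => (a.val : ℤ)) (Y.map fun a => (a.val : ℤ))
  have e : ((X.map fun a => (a.val : ℤ)) * Y.map fun a => (a.val : ℤ)).map (fun a : ℤ => (a : ZMod 13)) = X * Y :=
    (map_cast_mul _ _).trans (congrArg₂ (· * ·) (lift_map X) (lift_map Y))
  exact (h.trans (encN_eq _)).trans (congrArg enc13 e)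

theorem appN_enc13 (X : Matrix GolayPt GolayPt (ZMod 13)) (x : GolayPt → ZMod 13) :
    appN 13 (enc13 X) (encV x) = encV (X *ᵥ x) := by
  have h := appN_encN (M := 13) (by norm_num) (X.map fun a => (a.val : ℤ)) (fun p => ((x p).val : ℤ))
  refine (h.trans (encVN_eq _)).trans (congrArg encV (funext fun p => (cast_mulVec _ _ p).trans ?_))
  have e : (fun q => (((x q).val : ℤ) : ZMod 13)) = x := funext fun q => by simp
  rw [e]
  exact congrFun (congrArg (· *ᵥ x) (lift_map X)) p

/-- The negative. -/
noncomputable def negN (A : List (List ℕ)) : List (List ℕ) := mapR (mapR fun a => Nat.mod (Nat.sub 13 a) 13) A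

theorem neg_entry : ∀ a : ZMod 13, Nat.mod (Nat.sub 13 ((a.val : ℤ) % 13).toNat) 13 = (((-a).val : ℤ) % 13).toNat := by
  decide

theorem negN_enc13 (X : Matrix GolayPt GolayPt (ZMod 13)) : negN (enc13 X) = enc13 (-X) := by
  simp only [negN, mapR_eq, enc13, encN, List.map_map]
  refine List.map_congr_left fun a _ => ?_
  simp only [Function.comp_apply, mapR_eq, List.map_map]
  refine List.map_congr_left fun b _ => ?_
  exact neg_entry (X (Leech.ptOf a) (Leech.ptOf b))

/-- The product of a word. -/
noncomputable def wordN {n : ℕ} (Gs : Fin n → List (List ℕ)) : List (Fin n) → List (List ℕ)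
  | [] => scalN 1
  | [i] => Gs i
  | i :: j :: w => mulN 13 (Gs i) (wordN Gs (j :: w))

/-- Two words agree modulo the centre. -/
noncomputable def chk {n : ℕ} (Gs : Fin n → List (List ℕ)) (a b : List (Fin n)) : Bool :=
  (fun A B => eqM A B || eqM A (negN B)) (wordN Gs a) (wordN Gs b)

theorem mat13_zneg : Leech.mat13 Leech.zneg = -1 := Leech.mat13_ext fun v => by
  rw [Leech.mat13_mulVec, Leech.zneg_smul, Matrix.neg_mulVec, Matrix.one_mulVec]
  funext q
  simp [Leech.red13]

theorem mat13_injective : Function.Injective Leech.mat13 := fun g h e => by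
  have e1 : Leech.mat13 (g * h⁻¹) = 1 := by
    rw [Leech.mat13_mul, e, ← Leech.mat13_mul, mul_inv_cancel, Leech.mat13_one]
  exact mul_inv_eq_one.1 (Leech.eq_one_of_mat13 e1)

theorem scalN_one : scalN 1 = enc13 1 := by decide +kernel

theorem wordN_eq {n : ℕ} (g : Fin n → ↥Co0) (Gs : Fin n → List (List ℕ))
    (h : ∀ i, Gs i = enc13 (Leech.mat13 (g i))) :
    ∀ w : List (Fin n), wordN Gs w = enc13 (Leech.mat13 (w.map g).prod)
  | [] => by rw [List.map_nil, List.prod_nil, Leech.mat13_one]; exact scalN_one
  | [i] => by rw [List.map_cons, List.map_nil, List.prod_singleton]; exact h i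
  | i :: j :: w => by
    rw [wordN, h i, wordN_eq g Gs h (j :: w), mulN_enc13, ← Leech.mat13_mul]
    rfl

theorem chk_spec {n : ℕ} (g : Fin n → ↥Co0) (Gs : Fin n → List (List ℕ))
    (h : ∀ i, Gs i = enc13 (Leech.mat13 (g i))) (a b : List (Fin n)) :
    chk Gs a b = true ↔ (a.map fun i => toC (g i)).prod = (b.map fun i => toC (g i)).prod := by
  have e : ∀ w : List (Fin n), (w.map fun i => toC (g i)).prod = toC (w.map g).prod := fun w => by
    rw [map_list_prod, List.map_map]; rfl
  rw [e, e, toC_eq_iff, chk]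
  simp only [Bool.or_eq_true, eqM_iff, wordN_eq g Gs h, negN_enc13, enc13_injective.eq_iff]
  constructor
  · rintro (h1 | h1)
    · exact Or.inl (mat13_injective h1).symm
    · refine Or.inr (mat13_injective ?_)
      rw [Leech.mat13_mul, mat13_zneg, h1]
      simp
  · rintro (h1 | h1)
    · exact Or.inl (by rw [h1])
    · refine Or.inr ?_
      rw [h1, Leech.mat13_mul, mat13_zneg]
      simp

/-- All products of powers, with at least one nonzero exponent, move the vector off its line. -/
noncomputable def freeB (p : ℕ) (v : List ℕ) : List (List (List ℕ)) → List ℕ → Bool → Bool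
  | [], u, flag => !flag || !(eqR u v || eqR u (mapR (fun a => Nat.mod (Nat.sub 13 a) 13) v))
  | A :: As, u, flag =>
    (List.range p).all fun k => freeB p v As ((appN 13 A)^[k] u) (flag || !(Nat.beq k 0))

theorem appN_iterate (g : ↥Co0) (x : GolayPt → ZMod 13) : ∀ k : ℕ,
    (appN 13 (enc13 (Leech.mat13 g)))^[k] (encV x) = encV (Leech.mat13 (g ^ k) *ᵥ x)
  | 0 => by rw [pow_zero, Leech.mat13_one, Matrix.one_mulVec, Function.iterate_zero_apply]
  | k + 1 => by
    rw [Function.iterate_succ_apply', appN_iterate g x k, appN_enc13, Matrix.mulVec_mulVec, ← Leech.mat13_mul,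
      pow_succ']

/-- The product of powers, the first applied first. -/
def revProd {G : Type*} [Monoid G] : List (G × ℕ) → G
  | [] => 1
  | x :: l => revProd l * x.1 ^ x.2

theorem freeB_spec (p : ℕ) (x : GolayPt → ZMod 13) : ∀ (l : List (↥Co0 × ℕ)) (h : ↥Co0) (flag : Bool),
    (∀ y ∈ l, y.2 < p) →
    freeB p (encV x) (l.map fun y => enc13 (Leech.mat13 y.1)) (encV (Leech.mat13 h *ᵥ x)) flag = true →
    (flag = true ∨ ∃ y ∈ l, y.2 ≠ 0) → toC (revProd l * h) ≠ 1
  | [], h, flag, _, hf, hflag => fun he => by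
    obtain rfl : flag = true := by simpa using hflag
    simp only [revProd, one_mul] at he
    have he' : h = 1 ∨ h = Leech.zneg := by
      rcases (toC_eq_iff (a := (1 : ↥Co0)) (b := h)).1 (by rw [map_one, he]) with e | e
      · exact Or.inl e
      · exact Or.inr (by rw [e, one_mul])
    simp only [List.map_nil, freeB, Bool.not_true, Bool.false_or, Bool.not_eq_true',
      ← Bool.not_eq_true, Bool.or_eq_true, not_or, eqR_iff] at hf
    rcases he' with rfl | rfl
    · exact hf.1 (by rw [Leech.mat13_one, Matrix.one_mulVec])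
    · refine hf.2 ?_
      rw [mat13_zneg, Matrix.neg_mulVec, Matrix.one_mulVec]
      simp only [encV, encVN, mapR_eq, List.map_map]
      exact List.map_congr_left fun a _ => (neg_entry (x (Leech.ptOf a))).symm
  | y :: l, h, flag, hlt, hf, hflag => by
    simp only [List.map_cons, freeB, List.all_eq_true, List.mem_range] at hf
    have h1 := hf y.2 (hlt y List.mem_cons_self)
    rw [appN_iterate, Matrix.mulVec_mulVec, ← Leech.mat13_mul] at h1
    show toC (revProd l * y.1 ^ y.2 * h) ≠ 1
    rw [mul_assoc]
    refine freeB_spec p x l (y.1 ^ y.2 * h) _ (fun z hz => hlt z (List.mem_cons_of_mem _ hz)) h1 ?_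
    rcases hflag with hfl | ⟨z, hz, hz0⟩
    · exact Or.inl (by rw [hfl]; rfl)
    · rcases List.mem_cons.1 hz with rfl | hz
      · exact Or.inl (by
          rw [Bool.or_eq_true, Bool.not_eq_true']
          refine Or.inr ?_
          rw [← Bool.not_eq_true]
          exact fun e => hz0 (Nat.eq_of_beq_eq_true e))
      · exact Or.inr ⟨z, hz, hz0⟩

end Cfsg.Agent.Co1Mult
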