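import Mathlib
import Cfsg.Agent.Co1Mult.Pairing
import Cfsg.Agent.Co1Mult.Words

/-!
One layer of an abelian series described by relations between generators, and the resulting bound
on the killed exponent.
-/

set_option autoImplicit false

namespace Cfsg.Agent.Co1Mult

open Cfsg
open scoped IsMulCommutative

/-- Killed by `n`, with `n * p ^ e` dividing the order. -/
def Bnd (Q : Type*) [Group Q] (p e : ℕ) : Prop := ∃ n, Killed Q n ∧ n * p ^ e ∣ Nat.card Q

theorem bnd_zero {Q : Type*} [Group Q] [Finite Q] (p : ℕ) : Bnd Q p 0 :=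
  ⟨Nat.card Q, killed_card, by rw [pow_zero, mul_one]⟩

theorem bnd_subgroup {Q : Type*} [Group Q] {p e : ℕ} (H : Subgroup Q) (h : Bnd H p e) : Bnd Q p e := by
  obtain ⟨n, hn, hd⟩ := h
  exact ⟨_, killed_subgroup H hn, by rw [← H.index_mul_card, mul_assoc]; exact Nat.mul_dvd_mul_left _ hd⟩

/-- The data of a layer: its generators, the scalar element, exponents and lower parts. -/
structure LData (n : ℕ) where
  r : ℕ
  idx : Fin r → Fin n
  s : Fin n
  l : ℕ
  killed : List (Fin n)
  E : Fin n → Fin r → Fin r → ℕ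
  F : Fin n → Fin r → ℕ
  comLo : Fin r → Fin r → List (Fin n)
  expLo : Fin r → List (Fin n)
  conjLo : Fin n → Fin r → List (Fin n)
  sLo : Fin r → List (Fin n)
  cenLo : Fin n → List (Fin n)

variable {n : ℕ}

/-- The word of a product of powers. -/
def powWord {r : ℕ} (idx : Fin r → Fin n) (e : Fin r → ℕ) : List (Fin n) :=
  (List.ofFn fun j => List.replicate (e j) (idx j)).flatten

/-- The letters of the lower parts are killed. -/
def lowsB (D : LData n) : Bool :=
  let ok := fun w : List (Fin n) => w.all fun i => D.killed.contains i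
  (List.finRange D.r).all (fun i => (List.finRange D.r).all fun j => ok (D.comLo i j)) &&
  (List.finRange D.r).all (fun i => ok (D.expLo i)) &&
  (List.finRange n).all (fun m => (List.finRange D.r).all fun j => ok (D.conjLo m j)) &&
  (List.finRange D.r).all (fun i => ok (D.sLo i)) &&
  (List.finRange n).all (fun m => ok (D.cenLo m))

variable (Gs : Fin n → List (List ℕ))

/-- Commutation of the layer. -/
noncomputable def comB (D : LData n) : Bool :=
  (List.finRange D.r).all fun i => (List.finRange D.r).all fun j =>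
    decide (j ≤ i) || chk Gs [D.idx i, D.idx j] (D.comLo i j ++ [D.idx j, D.idx i])

/-- Exponents of the layer. -/
noncomputable def expB (p : ℕ) (D : LData n) : Bool :=
  (List.finRange D.r).all fun i => chk Gs (List.replicate p (D.idx i)) (D.expLo i)

/-- Conjugation. -/
noncomputable def conjB (D : LData n) : Bool :=
  (List.finRange n).all fun m => (List.finRange D.r).all fun j =>
    chk Gs [m, D.idx j] (D.conjLo m j ++ (powWord D.idx (D.E m j) ++ [m]))

/-- The scalar element. -/
noncomputable def scalB (D : LData n) : Bool :=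
  (List.finRange D.r).all fun j =>
    chk Gs [D.s, D.idx j] (D.sLo j ++ (List.replicate (D.l + 1) (D.idx j) ++ [D.s]))

/-- The scalar element is central above. -/
noncomputable def cenB (D : LData n) : Bool :=
  (List.finRange n).all fun m => chk Gs [m, D.s] (D.cenLo m ++ (powWord D.idx (D.F m) ++ [D.s, m]))

/-- All checks of a layer. -/
def LOK (p : ℕ) (D : LData n) : Prop :=
  lowsB D = true ∧ comB Gs D = true ∧ expB Gs p D = true ∧ conjB Gs D = true ∧ scalB Gs D = true ∧
    cenB Gs D = true ∧ D.l.Coprime p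

theorem bnd_layer {p : ℕ} [Fact p.Prime] (hp : Nat.Coprime 2 p) (D : LData n) (hok : LOK Gs p D)
    {Q : Type*} [Group Q] [Finite Q] (u : Fin n → Q) (hgen : Subgroup.closure (Set.range u) = ⊤)
    (hrel : ∀ a b, chk Gs a b = true → (a.map u).prod = (b.map u).prod)
    (hkill : ∀ i ∈ D.killed, u i = 1) (cs : Fin D.r → Fin D.r → List (Fin n × Fin D.r × Fin D.r × ZMod p))
    (hcert : certOK D.E cs)
    (hind : ∀ e : Fin D.r → Fin p, (List.ofFn fun j => u (D.idx j) ^ (e j : ℕ)).prod = 1 → ∀ j, (e j : ℕ) = 0)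
    {e' : ℕ}
    (next : ∀ (A : Subgroup Q) [A.Normal], A = Subgroup.closure (Set.range fun j => u (D.idx j)) →
      (∀ j, (QuotientGroup.mk (u (D.idx j)) : Q ⧸ A) = 1) → Bnd (Q ⧸ A) p e') :
    Bnd Q p (D.r + e') := by
  obtain ⟨hlow, hcom, hexp, hconj, hscal, hcen, hl⟩ := hok
  simp only [lowsB, Bool.and_eq_true, List.all_eq_true, List.mem_finRange, true_implies,
    List.contains_iff_mem] at hlow
  obtain ⟨⟨⟨⟨low1, low2⟩, low3⟩, low4⟩, low5⟩ := hlow
  have hlo : ∀ w : List (Fin n), (∀ i ∈ w, i ∈ D.killed) → (w.map u).prod = 1 := fun w hw =>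
    List.prod_eq_one fun x hx => by
      obtain ⟨i, hi, rfl⟩ := List.mem_map.1 hx
      exact hkill i (hw i hi)
  set t : Fin D.r → Q := fun j => u (D.idx j) with ht
  have hpw : ∀ e : Fin D.r → ℕ, ((powWord D.idx e).map u).prod = (List.ofFn fun j => t j ^ e j).prod := fun e => by
    simp only [powWord, List.map_flatten, List.prod_flatten, List.map_ofFn, Function.comp_def,
      List.map_replicate, List.prod_replicate, ht]
  have htc : ∀ i j, t i * t j = t j * t i := by
    intro i j
    rcases lt_trichotomy i j with h | h | h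
    · simp only [comB, List.all_eq_true, List.mem_finRange, true_implies, Bool.or_eq_true, decide_eq_true_eq] at hcom
      have := hrel _ _ ((hcom i j).resolve_left (not_le.2 h))
      simpa [hlo _ (low1 i j), ht] using this
    · rw [h]
    · simp only [comB, List.all_eq_true, List.mem_finRange, true_implies, Bool.or_eq_true, decide_eq_true_eq] at hcom
      have := hrel _ _ ((hcom j i).resolve_left (not_le.2 h))
      simpa [hlo _ (low1 j i), ht] using this.symm
  have htp : ∀ i, t i ^ p = 1 := fun i => by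
    simp only [expB, List.all_eq_true, List.mem_finRange, true_implies] at hexp
    have := hrel _ _ (hexp i)
    simpa [hlo _ (low2 i), ht] using this
  have hW : ∀ m j, u m * t j * (u m)⁻¹ = (List.ofFn fun q => t q ^ D.E m j q).prod := fun m j => by
    simp only [conjB, List.all_eq_true, List.mem_finRange, true_implies] at hconj
    have := hrel _ _ (hconj m j)
    simp only [List.map_append, List.prod_append, hlo _ (low3 m j), hpw, one_mul] at this
    rw [mul_inv_eq_iff_eq_mul]
    simpa [ht] using this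
  set T := Set.range t with hT
  have hTc : ∀ a ∈ T, ∀ b ∈ T, a * b = b * a := by
    rintro _ ⟨i, rfl⟩ _ ⟨j, rfl⟩; exact htc i j
  have hprod : ∀ e : Fin D.r → ℕ, (List.ofFn fun q => t q ^ e q).prod ∈ Subgroup.closure T := fun e =>
    list_prod_mem fun x hx => by
      obtain ⟨q, rfl⟩ := List.mem_ofFn.1 hx
      exact pow_mem (Subgroup.subset_closure (k := T) (Set.mem_range_self q)) _
  have hnorm : (Subgroup.closure T).Normal := normal_of_gens (Set.range u) hgen T (by
    rintro _ ⟨m, rfl⟩ _ ⟨j, rfl⟩
    rw [hW]; exact hprod _)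
  have hs : ∀ a ∈ Subgroup.closure T, u D.s * a * (u D.s)⁻¹ = a ^ (D.l + 1) :=
    conj_eq_pow_of_gens hTc _ _ (by
      rintro _ ⟨j, rfl⟩
      simp only [scalB, List.all_eq_true, List.mem_finRange, true_implies] at hscal
      have := hrel _ _ (hscal j)
      simp only [List.map_append, List.prod_append, hlo _ (low4 j), one_mul, List.map_replicate,
        List.prod_replicate] at this
      rw [mul_inv_eq_iff_eq_mul]
      simpa [ht] using this)
  have hcs : ∀ g : Q, g * u D.s * g⁻¹ * (u D.s)⁻¹ ∈ Subgroup.closure T :=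
    central_mod_of_gens _ (Set.range u) hgen _ (by
      rintro _ ⟨m, rfl⟩
      simp only [cenB, List.all_eq_true, List.mem_finRange, true_implies] at hcen
      have := hrel _ _ (hcen m)
      simp only [List.map_append, List.prod_append, hlo _ (low5 m), one_mul, hpw] at this
      simp only [List.map_cons, List.map_nil, List.prod_cons, List.prod_nil, mul_one] at this
      rw [this]
      simpa [mul_assoc] using hprod (D.F m))
  have hcl : CommLift (Subgroup.closure T) := commLift_cert hp t htc htp u D.E hW cs hcert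
  obtain ⟨N, hN, hNd⟩ := next (Subgroup.closure T) rfl
    (fun j => (QuotientGroup.eq_one_iff _).2 (Subgroup.subset_closure ⟨j, rfl⟩))
  refine ⟨N, killed_step _ hcl (pow_eq_one_of_gens hTc p (by rintro _ ⟨i, rfl⟩; exact htp i))
    (u D.s) hl hs hcs hN, ?_⟩
  rw [Subgroup.card_eq_card_quotient_mul_card_subgroup (Subgroup.closure T), pow_add,
    show N * (p ^ D.r * p ^ e') = N * p ^ e' * p ^ D.r by ring]
  refine Nat.mul_dvd_mul hNd ?_
  have hA := Subgroup.isMulCommutative_closure (k := T) hTc
  let A := Subgroup.closure T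
  have hP : IsPGroup p A := fun a => ⟨1, Subtype.ext (by
    rw [pow_one, Subgroup.coe_pow, Subgroup.coe_one]
    exact pow_eq_one_of_gens hTc p (by rintro _ ⟨i, rfl⟩; exact htp i) _ a.2)⟩
  obtain ⟨k, hk⟩ := IsPGroup.iff_card.1 hP
  rw [hk]
  let τ : Fin D.r → A := fun q => ⟨t q, Subgroup.subset_closure ⟨q, rfl⟩⟩
  let φ : (Fin D.r → Fin p) → A := fun e => ∏ q, τ q ^ (e q : ℕ)
  have hφ : ∀ e : Fin D.r → Fin p, ((φ e : A) : Q) = (List.ofFn fun q => t q ^ (e q : ℕ)).prod := fun e => by
    show (A.subtype (∏ q, τ q ^ (e q : ℕ))) = _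
    rw [← List.prod_ofFn, map_list_prod, List.map_ofFn]
    exact congrArg List.prod (congrArg List.ofFn (funext fun q => rfl))
  have hτ : ∀ q, τ q ^ p = 1 := fun q => Subtype.ext (by rw [Subgroup.coe_pow]; exact htp q)
  have hinj : Function.Injective φ := by
    intro e f hef
    have hp0 : 0 < p := (Fact.out : p.Prime).pos
    let d : Fin D.r → Fin p := fun q => ⟨((e q : ℕ) + (p - (f q : ℕ))) % p, Nat.mod_lt _ hp0⟩
    have h1 : φ d * φ f = φ e := by
      simp only [φ, ← Finset.prod_mul_distrib]
      refine Finset.prod_congr rfl fun q _ => ?_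
      show τ q ^ (((e q : ℕ) + (p - (f q : ℕ))) % p) * τ q ^ (f q : ℕ) = _
      rw [← pow_eq_pow_mod _ (hτ q), ← pow_add, show (e q : ℕ) + (p - (f q : ℕ)) + f q = e q + p by omega,
        pow_add, hτ, mul_one]
    rw [hef, mul_eq_right] at h1
    have h2 := hind d (by rw [← hφ, h1]; rfl)
    refine funext fun q => Fin.ext ?_
    have h3 : ((e q : ℕ) + (p - (f q : ℕ))) % p = 0 := h2 q
    obtain ⟨c, hc⟩ := Nat.dvd_of_mod_eq_zero h3
    have := (e q).isLt
    have := (f q).isLt
    rcases c with _ | _ | c
    · omega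
    · omega
    · have : p * 2 ≤ p * (c + 1 + 1) := Nat.mul_le_mul_left _ (by omega)
      omega
  have := Nat.card_le_card_of_injective φ hinj
  rw [Nat.card_fun, Nat.card_fin, Nat.card_fin, hk] at this
  exact pow_dvd_pow _ ((Nat.pow_le_pow_iff_right (Fact.out : p.Prime).one_lt).1 this)

theorem bnd_pow {K : Type} [Group K] [Finite K] {Q : Type*} [Group Q] [Finite Q] {p e M : ℕ}
    (h : Bnd Q p e) (hp : 0 < p) (hM : M * p ^ e = Nat.card Q) (π : K →* Q) (hs : Function.Surjective π)
    (hc : π.ker ≤ Subgroup.center K) (k : K) (hk : k ∈ π.ker) (hk' : k ∈ commutator K) : k ^ M = 1 := by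
  obtain ⟨n, hn, hd⟩ := h
  rw [← hM] at hd
  obtain ⟨j, rfl⟩ := Nat.dvd_of_mul_dvd_mul_right (pow_pos hp e) hd
  rw [pow_mul, hn K π hs hc k hk hk', one_pow]

end Cfsg.Agent.Co1Mult
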