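import Mathlib
import Cfsg.Agent.Co1Mult.Layer

/-!
Matrix elements generating a subgroup of `Co₁`: relations in the subgroup and in its quotients, and
independence of the bottom layer.
-/

set_option autoImplicit false

namespace Cfsg.Agent.Co1Mult

open Cfsg
open Cfsg.Agent.Co1Out (toC toC_eq_iff)

variable {n : ℕ} {mats : Fin n → List (List ℤ)}

/-- The generators in `Co₁`. -/
noncomputable def vC (h : ∀ i, MOK (mats i)) (i : Fin n) : Spor.Co1 := toC (elem (h i))

/-- The subgroup generated. -/
noncomputable def HG (h : ∀ i, MOK (mats i)) : Subgroup Spor.Co1 := Subgroup.closure (Set.range (vC h))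

/-- The generators in the subgroup. -/
noncomputable def vH (h : ∀ i, MOK (mats i)) (i : Fin n) : HG h := ⟨vC h i, Subgroup.subset_closure ⟨i, rfl⟩⟩

theorem closure_vH (h : ∀ i, MOK (mats i)) : Subgroup.closure (Set.range (vH h)) = ⊤ := by
  refine Subgroup.map_injective (HG h).subtype_injective ?_
  rw [MonoidHom.map_closure, ← Set.range_comp, ← MonoidHom.range_eq_map, Subgroup.range_subtype]
  rfl

theorem closure_image {H Q : Type*} [Group H] [Group Q] {u : Fin n → H}
    (hu : Subgroup.closure (Set.range u) = ⊤) (f : H →* Q) (hf : Function.Surjective f) :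
    Subgroup.closure (Set.range fun i => f (u i)) = ⊤ := by
  rw [Set.range_comp' f u, ← MonoidHom.map_closure, hu, Subgroup.map_top_of_surjective f hf]

/-- The reduced matrices. -/
def redMats (mats : Fin n → List (List ℤ)) (i : Fin n) : List (List ℕ) :=
  toN 13 ((mats i).map fun r => r.map fun a => 5 * a)

theorem redMats_eq (h : ∀ i, MOK (mats i)) (i : Fin n) : redMats mats i = enc13 (Leech.mat13 (elem (h i))) := by
  have e := encM_mat13 (h i)
  have hm : mats i = encM (decM (mats i)) := (encM_decM (h i).shape).symm
  have e1 : ∀ A : Matrix GolayPt GolayPt ℤ,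
      (encM A).map (fun r => r.map fun a => 5 * a) = encM (A.map fun a => 5 * a) := by
    intro A
    simp only [encM, List.map_map]
    refine List.map_congr_left fun a _ => ?_
    simp only [Function.comp_apply, List.map_map]
    exact List.map_congr_left fun b _ => rfl
  have e2 : ∀ A : Matrix GolayPt GolayPt ℤ,
      red (encM A) = encM ((A.map fun a => 5 * a).map fun a : ℤ => (a : ZMod 13)) := by
    intro A
    simp only [red, encM, List.map_map]
    refine List.map_congr_left fun a _ => ?_
    simp only [Function.comp_apply, List.map_map]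
    exact List.map_congr_left fun b _ => by simp
  have e3 : redMats mats i = enc13 (((decM (mats i)).map fun a => 5 * a).map fun a : ℤ => (a : ZMod 13)) := by
    rw [redMats]
    conv_lhs => rw [hm, e1, toN_encM, encN_eq]
  rw [e3]
  exact congrArg enc13 (encM_injective ((e.trans (congrArg red hm)).trans (e2 _))).symm

theorem rel_vH (h : ∀ i, MOK (mats i)) (a b : List (Fin n)) :
    chk (redMats mats) a b = true ↔ (a.map (vH h)).prod = (b.map (vH h)).prod := by
  rw [chk_spec (fun i => elem (h i)) (redMats mats) (redMats_eq h),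
    ← (HG h).subtype_injective.eq_iff, map_list_prod, map_list_prod, List.map_map, List.map_map]
  rfl

theorem rel_map (h : ∀ i, MOK (mats i)) {Q : Type*} [Group Q] (f : HG h →* Q) (a b : List (Fin n))
    (hab : chk (redMats mats) a b = true) :
    (a.map fun i => f (vH h i)).prod = (b.map fun i => f (vH h i)).prod := by
  have := congrArg f ((rel_vH h a b).1 hab)
  simpa [map_list_prod, List.map_map, Function.comp_def] using this

theorem revProd_eq {G : Type*} [CommMonoid G] : ∀ l : List (G × ℕ), revProd l = (l.map fun y => y.1 ^ y.2).prod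
  | [] => rfl
  | y :: l => by rw [revProd, revProd_eq l, List.map_cons, List.prod_cons, mul_comm]

theorem bottom_indep (h : ∀ i, MOK (mats i)) {r p : ℕ} (idx : Fin r → Fin n)
    (hcom : ∀ a b, (Commute (vH h (idx a)) (vH h (idx b)))) (x : GolayPt → ZMod 13) (vL : List ℕ)
    (hv : encV x = vL)
    (hfree : freeB p vL (List.ofFn fun j => redMats mats (idx j)) vL false = true)
    (e : Fin r → Fin p) (he : (List.ofFn fun j => vH h (idx j) ^ (e j : ℕ)).prod = 1) :
    ∀ j, (e j : ℕ) = 0 := by
  by_contra hne
  rw [not_forall] at hne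
  obtain ⟨j, hj⟩ := hne
  let l : List (↥Co0 × ℕ) := List.ofFn fun j => (elem (h (idx j)), (e j : ℕ))
  have key := freeB_spec p x l 1 false (fun y hy => by
      obtain ⟨q, rfl⟩ := List.mem_ofFn.1 hy
      exact (e q).isLt) (by
      rw [List.map_ofFn, Leech.mat13_one, Matrix.one_mulVec, hv]
      convert hfree using 3
      exact funext fun q => (redMats_eq h _).symm) (Or.inr ⟨_, List.mem_ofFn.2 ⟨j, rfl⟩, hj⟩)
  refine key ?_
  rw [mul_one]
  have hrev : ∀ l : List (↥Co0 × ℕ), toC (revProd l) = revProd (l.map fun y => (toC y.1, y.2)) := by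
    intro l
    induction l with
    | nil => exact map_one _
    | cons y l ih => rw [List.map_cons, revProd, revProd, map_mul, map_pow, ih]
  rw [hrev]
  let S : Subgroup (HG h) := Subgroup.closure (Set.range fun a => vH h (idx a))
  have hS : IsMulCommutative S := Subgroup.isMulCommutative_closure (by
    rintro _ ⟨a, rfl⟩ _ ⟨b, rfl⟩; exact hcom a b)
  let l' : List (S × ℕ) := List.ofFn fun a => (⟨vH h (idx a), Subgroup.subset_closure ⟨a, rfl⟩⟩, (e a : ℕ))
  have h2 : ∀ l : List (S × ℕ), revProd (l.map fun y => ((y.1.1 : Spor.Co1), y.2)) =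
      (((revProd l : S) : HG h) : Spor.Co1) := by
    intro l
    induction l with
    | nil => rfl
    | cons y l ih => rw [List.map_cons, revProd, revProd, ih]; rfl
  have e1 : (l.map fun y => (toC y.1, y.2)) = l'.map fun y => ((y.1.1 : Spor.Co1), y.2) := by
    simp only [l, l', List.map_ofFn]; rfl
  let _ : CommGroup S := { (inferInstance : Group S) with mul_comm := fun a b => Subtype.ext (setLike_mul_comm a.2 b.2) }
  rw [e1, h2, revProd_eq]
  have e2 : (((l'.map fun y => y.1 ^ y.2).prod : S) : HG h) = (List.ofFn fun j => vH h (idx j) ^ (e j : ℕ)).prod := by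
    rw [SubmonoidClass.coe_list_prod, List.map_map]
    simp only [l', List.map_ofFn]; rfl
  rw [e2, he]
  rfl

/-- Some nonzero product of the layer is detected by failing to commute. -/
def detB {r : ℕ} (p : ℕ) (idx : Fin r → Fin n) (low : List (Fin n)) (Gs : Fin n → List (List ℕ)) : Prop :=
  ∀ e : Fin r → Fin p, (∀ j, (e j : ℕ) = 0) ∨
    ∃ k ∈ low, chk Gs (powWord idx (fun j => e j) ++ [k]) (k :: powWord idx (fun j => e j)) = false

theorem layer_indep (h : ∀ i, MOK (mats i)) {r p : ℕ} (idx : Fin r → Fin n) (low : List (Fin n))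
    (hdet : detB p idx low (redMats mats)) {Q : Type*} [Group Q] (f : HG h →* Q) (A : Subgroup (HG h))
    (hker : f.ker ≤ A) (hA : ∀ a ∈ A, ∀ k ∈ low, a * vH h k = vH h k * a)
    (e : Fin r → Fin p) (he : (List.ofFn fun j => f (vH h (idx j)) ^ (e j : ℕ)).prod = 1) :
    ∀ j, (e j : ℕ) = 0 := by
  refine (hdet e).resolve_right ?_
  rintro ⟨k, hk, hc⟩
  have hw : ((powWord idx fun j => (e j : ℕ)).map (vH h)).prod = (List.ofFn fun j => vH h (idx j) ^ (e j : ℕ)).prod := by
    simp only [powWord, List.map_flatten, List.prod_flatten, List.map_ofFn, Function.comp_def,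
      List.map_replicate, List.prod_replicate]
  have hmem : (List.ofFn fun j => vH h (idx j) ^ (e j : ℕ)).prod ∈ A := hker (by
    rw [MonoidHom.mem_ker, map_list_prod, List.map_ofFn]
    simpa [Function.comp_def] using he)
  have := (rel_vH h (powWord idx (fun j => (e j : ℕ)) ++ [k]) (k :: powWord idx fun j => (e j : ℕ))).2 (by
    simp only [List.map_append, List.prod_append, List.map_cons, List.prod_cons, List.map_nil, List.prod_nil,
      mul_one, hw]
    exact hA _ hmem k hk)
  rw [hc] at this
  cases this

end Cfsg.Agent.Co1Mult
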