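import Cfsg.Agent.Co1Mult.DataSeven
import Cfsg.Agent.Co1Mult.Model

/-!
Verification of the data at the prime seven.
-/

set_option autoImplicit false
set_option maxRecDepth 100000
set_option maxHeartbeats 0

namespace Cfsg.Agent.Co1Mult.Seven

open Cfsg

theorem mok (i : Fin 3) : MOK (mats i) := mok_of_fast (by revert i; decide +kernel)

theorem ok1 : LOK (redMats mats) 7 L1 := by
  refine ⟨?_, ?_, ?_, ?_, ?_, ?_, ?_⟩ <;> decide +kernel

theorem cert1 : certOK L1.E L1Cert := by
  unfold certOK comb; decide +kernel

theorem free1 : freeB 7 vL (List.ofFn fun j => redMats mats (L1.idx j)) vL false = true := by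
  decide +kernel

theorem shape1 : encV (fun q => ((vL.getD (Leech.idx q) 0 : ℕ) : ZMod 13)) = vL := by decide +kernel

end Cfsg.Agent.Co1Mult.Seven
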