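import Cfsg.Agent.Co1Mult.DataThree
import Cfsg.Agent.Co1Mult.Model

/-!
Verification of the data at the prime three.
-/

set_option autoImplicit false
set_option maxRecDepth 100000
set_option maxHeartbeats 0

namespace Cfsg.Agent.Co1Mult.Three

open Cfsg

theorem mok (i : Fin 12) : MOK (mats i) := mok_of_fast (by revert i; decide +kernel)

theorem ok1 : LOK (redMats mats) 3 L1 := by
  refine ⟨?_, ?_, ?_, ?_, ?_, ?_, ?_⟩ <;> decide +kernel

theorem cert1 : certOK L1.E L1Cert := by
  unfold certOK comb; decide +kernel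

theorem ok2 : LOK (redMats mats) 3 L2 := by
  refine ⟨?_, ?_, ?_, ?_, ?_, ?_, ?_⟩ <;> decide +kernel

theorem cert2 : certOK L2.E L2Cert := by
  unfold certOK comb; decide +kernel

theorem ok3 : LOK (redMats mats) 3 L3 := by
  refine ⟨?_, ?_, ?_, ?_, ?_, ?_, ?_⟩ <;> decide +kernel

theorem cert3 : certOK L3.E L3Cert := by
  unfold certOK comb; decide +kernel

theorem free1 : freeB 3 vL (List.ofFn fun j => redMats mats (L1.idx j)) vL false = true := by
  decide +kernel

theorem shape1 : encV (fun q => ((vL.getD (Leech.idx q) 0 : ℕ) : ZMod 13)) = vL := by decide +kernel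

theorem det2 : detB 3 L2.idx [0, 1, 2, 3, 4, 5] (redMats mats) := by
  unfold detB; decide +kernel

/-- The conjugate of the second element by the third differs from it in the middle quotient. -/
theorem move3 : (L2.E 8 ⟨1, Nat.one_lt_two⟩ ⟨0, Nat.zero_lt_two⟩, L2.E 8 ⟨1, Nat.one_lt_two⟩ ⟨1, Nat.one_lt_two⟩) ≠ (0, 1) := by
  decide +kernel

end Cfsg.Agent.Co1Mult.Three
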