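import Cfsg.Agent.Co1Mult.Layer

/-!
Generators and relations around the Sylow 5-subgroups of `Co₁`.
-/

set_option autoImplicit false

namespace Cfsg.Agent.Co1Mult.Five

/-- The matrices, scaled by eight. -/
def mats : Fin 6 → List (List ℤ) :=
  ![
    [[0, 0, 2, 2, 0, -4, 0, 4, -2, 0, 0, 0, -2, -2, -2, 0, 0, 0, 0, 0, 0, 0, -2, -2],
     [2, 2, 0, 0, -2, -2, 2, -2, 0, -2, -2, -2, 0, 0, 0, -2, 2, 2, 2, -2, 2, 2, 0, 0],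
     [0, 0, 2, 2, 0, 4, 0, -4, -2, 0, 0, 0, -2, -2, -2, 0, 0, 0, 0, 0, 0, 0, -2, -2],
     [0, 0, 2, 2, 0, 0, 0, 0, 2, 0, 0, 0, -2, -2, 2, 0, 0, -4, 0, 0, 4, 0, 2, 2],
     [0, 0, 2, -2, 4, 0, 0, 0, 2, 0, 0, 0, 2, -2, -2, 0, 0, 0, 0, 0, 0, 4, 2, -2],
     [0, 0, -2, -2, 0, 0, 0, 0, -2, 0, -4, 4, -2, -2, 2, 0, 0, 0, 0, 0, 0, 0, 2, -2],
     [0, 4, -2, 2, 0, 0, 0, 0, 2, 0, 0, 0, 2, -2, 2, 0, 0, 0, 0, 4, 0, 0, -2, -2],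
     [2, -2, 0, 0, 2, 2, 2, 2, 0, -2, 2, 2, 0, 0, 0, -2, 2, 2, 2, 2, 2, -2, 0, 0],
     [0, 0, -2, -2, 0, 0, -4, 0, 2, 0, 0, 0, -2, -2, -2, 0, 0, 0, 4, 0, 0, 0, -2, 2],
     [-2, -2, 0, 0, -2, -2, -2, -2, 0, 2, 2, 2, 0, 0, 0, -2, 2, 2, -2, 2, 2, 2, 0, 0],
     [0, 0, -2, -2, 0, 0, 0, 0, -2, 0, 4, -4, -2, -2, 2, 0, 0, 0, 0, 0, 0, 0, 2, -2],
     [0, 0, -2, 2, 4, 0, 0, 0, -2, 0, 0, 0, -2, 2, 2, 0, 0, 0, 0, 0, 0, 4, -2, 2],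
     [0, 0, -2, -2, 0, 0, 0, 0, -2, 0, 0, 0, 2, 2, -2, 0, 0, -4, 0, 0, 4, 0, -2, -2],
     [-2, -2, 0, 0, 2, -2, 2, -2, 0, 2, -2, -2, 0, 0, 0, 2, -2, 2, 2, 2, 2, -2, 0, 0],
     [2, -2, 0, 0, -2, -2, 2, -2, 0, -2, 2, 2, 0, 0, 0, 2, -2, -2, 2, 2, -2, 2, 0, 0],
     [0, 0, 2, 2, 0, 0, -4, 0, -2, 0, 0, 0, 2, 2, 2, 0, 0, 0, 4, 0, 0, 0, 2, -2],
     [4, 0, -2, 2, 0, 0, 0, 0, -2, 4, 0, 0, 2, -2, -2, 0, 0, 0, 0, 0, 0, 0, 2, 2],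
     [0, 0, -2, 2, 0, 0, 0, 0, 2, 0, 0, 0, -2, 2, -2, -4, -4, 0, 0, 0, 0, 0, 2, -2],
     [-2, 2, 0, 0, -2, 2, 2, 2, 0, 2, 2, 2, 0, 0, 0, 2, -2, 2, 2, -2, 2, 2, 0, 0],
     [-2, -2, 0, 0, -2, 2, 2, 2, 0, 2, -2, -2, 0, 0, 0, -2, 2, -2, 2, 2, -2, 2, 0, 0],
     [-4, 0, -2, 2, 0, 0, 0, 0, -2, -4, 0, 0, 2, -2, -2, 0, 0, 0, 0, 0, 0, 0, 2, 2],
     [2, -2, 0, 0, -2, 2, -2, 2, 0, -2, -2, -2, 0, 0, 0, 2, -2, 2, -2, 2, 2, 2, 0, 0],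
     [0, 0, -2, 2, 0, 0, 0, 0, 2, 0, 0, 0, -2, 2, -2, 4, 4, 0, 0, 0, 0, 0, 2, -2],
     [0, 4, 2, -2, 0, 0, 0, 0, -2, 0, 0, 0, -2, 2, -2, 0, 0, 0, 0, 4, 0, 0, 2, 2]],
    [[-2, -2, 2, 0, 2, -4, 0, 2, -2, 2, 0, 0, -2, 0, 0, 0, -2, 0, 0, 2, -2, 0, 0, -2],
     [2, -2, 2, 0, -2, 0, 0, 2, -2, -2, 0, 0, -2, 0, 4, 0, 2, 0, 0, 2, 2, 0, 0, 2],
     [-2, -2, -2, 0, -2, 0, 0, -2, 2, -2, 4, 0, -2, 0, 0, 0, -2, 0, 0, 2, 2, 0, 0, -2],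
     [0, 0, 0, -2, 0, 2, 2, 0, 0, 4, 2, -2, 0, -2, 2, -2, 0, -2, 2, 0, 0, -2, -2, 0],
     [-2, -2, 2, 0, -2, 0, -4, -2, -2, 2, 0, 0, 2, 0, 0, 0, -2, 0, 0, -2, 2, 0, 0, 2],
     [0, 0, -4, -2, 0, -2, -2, 0, 0, 0, -2, -2, 0, -2, 2, 2, 0, -2, -2, 0, 0, -2, 2, 0],
     [0, 0, 0, 2, 0, 2, -2, 4, 0, 0, 2, 2, 0, -2, -2, 2, 0, -2, -2, 0, 0, -2, -2, 0],
     [2, -2, 2, 0, 2, 0, 0, -2, 2, 2, 0, 0, 2, 0, 0, 0, 2, 0, -4, 2, 2, 0, 0, -2],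
     [-2, 2, -2, 0, 2, 0, 0, -2, -2, 2, 0, 4, -2, 0, 0, 0, 2, 0, 0, 2, 2, 0, 0, 2],
     [-2, 2, 2, -4, 2, 0, 0, 2, 2, -2, 0, 0, 2, 0, 0, 0, -2, 0, 0, 2, 2, 0, 0, 2],
     [0, 0, 0, -2, 0, 2, -2, 0, 0, 0, -2, -2, -4, -2, -2, -2, 0, 2, -2, 0, 0, 2, -2, 0],
     [0, 0, 0, -2, 0, -2, -2, 0, 0, 0, 2, -2, 0, 2, -2, 2, 4, -2, 2, 0, 0, 2, -2, 0],
     [2, 2, 2, 0, 2, 0, 0, -2, -2, -2, 0, 0, -2, 0, 0, 0, -2, -4, 0, -2, 2, 0, 0, -2],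
     [0, 0, 0, 2, 0, -2, 2, 0, 0, 0, -2, -2, 0, -2, -2, 2, 0, 2, 2, 0, 4, -2, -2, 0],
     [4, 0, 0, -2, 0, -2, -2, 0, 0, 0, 2, 2, 0, -2, -2, -2, 0, 2, 2, 0, 0, -2, 2, 0],
     [0, 4, 0, 2, 0, -2, -2, 0, 0, 0, 2, -2, 0, 2, 2, -2, 0, 2, -2, 0, 0, -2, -2, 0],
     [2, -2, -2, 0, 2, 0, 0, -2, -2, -2, 0, 0, 2, 0, 0, 0, -2, 0, 0, 2, -2, 0, -4, 2],
     [0, 0, 0, 2, 0, 2, -2, 0, 0, 0, -2, -2, 0, 2, -2, -2, 0, -2, 2, 4, 0, -2, 2, 0],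
     [0, 0, 0, 2, 0, -2, 2, 0, 0, 0, 2, -2, 0, -2, -2, -2, 0, -2, -2, 0, 0, 2, 2, 4],
     [-2, -2, -2, 0, 2, 0, 0, 2, -2, -2, 0, 0, 2, 0, 0, -4, 2, 0, 0, -2, 2, 0, 0, -2],
     [-2, 2, 2, 0, -2, 0, 0, -2, -2, -2, 0, 0, 2, -4, 0, 0, 2, 0, 0, 2, -2, 0, 0, -2],
     [0, 0, 0, -2, 0, 2, 2, 0, -4, 0, 2, -2, 0, 2, -2, 2, 0, 2, -2, 0, 0, -2, 2, 0],
     [0, 0, 0, -2, -4, -2, 2, 0, 0, 0, -2, 2, 0, 2, -2, -2, 0, -2, -2, 0, 0, -2, -2, 0],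
     [2, 2, -2, 0, -2, 0, 0, 2, -2, 2, 0, 0, 2, 0, 0, 0, -2, 0, 0, 2, 2, 4, 0, -2]],
    [[1, -1, 1, 1, -1, 3, 1, -3, 1, 1, -1, -1, -1, 1, -1, -1, -3, 3, -1, 1, 3, -1, 1, 1],
     [-1, 1, 3, -1, 1, 1, -1, -1, -1, 3, 1, 1, 1, -1, -3, 1, -1, 1, -3, -1, -3, 1, -1, -1],
     [-3, -1, 1, -3, -1, 3, 1, 1, 1, 1, -1, 3, -1, 1, 3, -1, 1, -1, -1, 1, -1, -1, 1, 1],
     [-1, -3, -1, 3, 1, 1, -1, -1, 3, -1, -3, 1, 1, -1, 1, 1, -1, 1, 1, -1, -3, 1, -1, -1],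
     [1, 3, 1, 1, -1, 3, 1, 1, 1, 1, -1, -1, -1, -3, -1, -1, 1, -1, 3, 1, -1, -1, -3, 1],
     [3, 1, -1, -1, 1, 1, 3, -1, -1, -1, 1, 1, 1, 3, 1, 1, -1, 1, 1, -1, -3, 1, -1, 3],
     [1, -1, 1, -3, -1, -1, 1, -3, 1, 1, -1, -1, -1, 1, -1, -1, 1, -1, 3, -3, -1, -1, 1, -3],
     [-3, 3, 1, 1, -1, -1, 1, 1, 1, -3, -1, -1, -1, 1, -1, -1, -3, -1, -1, -3, -1, -1, 1, 1],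
     [1, -1, 1, 1, -1, -1, 1, 1, 1, 1, -1, 3, 3, 1, -1, -1, 1, -1, -1, -3, 3, -1, -3, 1],
     [-1, 1, -1, 3, 1, 1, 3, -1, -1, 3, 1, 1, 1, -1, 1, 1, -1, -3, 1, -1, 1, 1, 3, -1],
     [-1, 1, -1, -1, 1, 1, -1, -1, 3, -1, 1, 1, 1, -1, -3, 1, 3, 1, 1, -1, 1, 1, 3, 3],
     [-1, 1, 3, -1, 1, -3, 3, -1, 3, -1, 1, 1, 1, -1, 1, 1, -1, 1, 1, 3, 1, 1, -1, -1],
     [1, -1, 1, 1, -1, -1, 1, 1, 1, 1, 3, -1, -1, -3, 3, -1, 1, 3, -1, -3, -1, -1, 1, 1],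
     [1, -1, 1, 1, -1, 3, 1, 1, 1, -3, 3, -1, 3, 1, -1, -1, 1, -1, -1, 1, -1, -1, 1, -3],
     [-1, 1, -1, -1, 1, 1, -1, 3, 3, 3, 1, -3, 1, 3, 1, 1, -1, 1, 1, -1, 1, 1, -1, -1],
     [-1, -3, -1, -1, 1, 1, 3, 3, -1, -1, 1, 1, -3, -1, -3, 1, -1, 1, 1, -1, 1, 1, -1, -1],
     [-1, 1, 3, 3, 1, 1, -1, -1, -1, -1, 1, 1, -3, 3, 1, 1, 3, 1, 1, -1, 1, 1, -1, -1],
     [-1, 1, -1, -1, 1, 1, 3, -1, -1, -1, -3, -3, 1, -1, 1, 1, 3, 1, -3, -1, 1, 1, -1, -1],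
     [-1, 1, -1, -1, 5, 1, -1, -1, -1, -1, 1, 1, 1, -1, 1, -3, -1, 1, 1, -1, 1, -3, -1, -1],
     [-1, 1, -1, -1, -3, 1, -1, -1, -1, -1, 1, 1, 1, -1, 1, 5, -1, 1, 1, -1, 1, -3, -1, -1],
     [3, 1, -1, -1, 1, 1, -1, -1, 3, -1, 1, 1, -3, -1, 1, 1, -1, -3, -3, -1, 1, 1, -1, -1],
     [-1, 1, -1, -1, -3, 1, -1, -1, -1, -1, 1, 1, 1, -1, 1, -3, -1, 1, 1, -1, 1, 5, -1, -1],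
     [3, 1, 3, -1, 1, 1, -1, 3, -1, -1, -3, 1, 1, -1, 1, 1, -1, 1, 1, -1, 1, 1, 3, -1],
     [-1, -3, 3, -1, 1, 1, -1, -1, -1, -1, 1, -3, 1, -1, 1, 1, -1, -3, 1, -1, 1, 1, -1, 3]],
    [[0, -2, 0, -2, 2, 0, -2, 0, 4, 0, 0, 0, -2, 2, 0, 0, 0, 0, 0, 0, -2, 0, -2, 4],
     [2, 0, -2, 0, 0, 2, 0, -2, -2, -2, 2, -2, 0, 0, -2, -2, 2, -2, -2, -2, 0, 2, 0, 2],
     [0, 2, 0, -2, 2, 0, 2, 4, 0, 0, 0, 0, 2, 2, 0, 0, 4, 0, 0, 0, -2, 0, 2, 0],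
     [-2, 0, 2, 0, 0, 2, 0, -2, -2, -2, -2, 2, 0, 0, 2, 2, 2, 2, 2, -2, 0, 2, 0, 2],
     [0, -2, 0, 2, 2, 0, 2, 0, 0, 0, 0, 0, -2, 2, 0, 0, 0, 0, 0, -4, 2, -4, 2, 0],
     [-2, 0, -2, 0, 0, -2, 0, -2, 2, 2, -2, -2, 0, 0, -2, -2, 2, 2, 2, -2, 0, 2, 0, -2],
     [0, 2, 0, -2, 2, 0, -2, 0, 0, 0, 0, 4, -2, -2, 0, -4, 0, 0, 0, 0, 2, 0, 2, 0],
     [0, -2, 0, -2, 2, 0, 2, 0, 0, 0, 0, 0, 2, -2, 0, 0, 0, -4, 4, 0, 2, 0, -2, 0],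
     [0, -2, 0, 2, 2, 0, 2, 0, 0, 0, 0, 0, -2, 2, 0, 0, 0, 0, 0, 4, 2, 4, 2, 0],
     [0, -2, 4, 2, 2, 0, -2, 0, 0, 0, 0, 0, 2, -2, -4, 0, 0, 0, 0, 0, -2, 0, 2, 0],
     [2, 0, -2, 0, 0, -2, 0, -2, -2, 2, 2, 2, 0, 0, -2, 2, 2, 2, 2, 2, 0, -2, 0, 2],
     [0, -2, 0, 2, -2, 0, -2, 4, 0, 0, 0, 0, -2, -2, 0, 0, 4, 0, 0, 0, 2, 0, -2, 0],
     [-2, 0, -2, 0, 0, 2, 0, -2, 2, -2, -2, 2, 0, 0, -2, 2, 2, -2, -2, 2, 0, -2, 0, -2],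
     [-2, 0, -2, 0, 0, 2, 0, 2, -2, -2, -2, -2, 0, 0, -2, -2, -2, 2, 2, 2, 0, -2, 0, 2],
     [-2, 0, -2, 0, 0, -2, 0, 2, -2, 2, -2, 2, 0, 0, -2, 2, -2, -2, -2, -2, 0, 2, 0, 2],
     [0, -2, 0, -2, -2, -4, 2, 0, 0, -4, 0, 0, -2, -2, 0, 0, 0, 0, 0, 0, -2, 0, 2, 0],
     [0, 2, 0, 2, -2, 0, 2, 0, 4, 0, 0, 0, 2, -2, 0, 0, 0, 0, 0, 0, 2, 0, 2, 4],
     [0, 2, 4, -2, -2, 0, 2, 0, 0, 0, 0, 0, -2, 2, -4, 0, 0, 0, 0, 0, 2, 0, -2, 0],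
     [0, 2, 0, -2, 2, 0, -2, 0, 0, 0, 0, -4, -2, -2, 0, 4, 0, 0, 0, 0, 2, 0, 2, 0],
     [-4, 2, 0, 2, 2, 0, 2, 0, 0, 0, 4, 0, -2, -2, 0, 0, 0, 0, 0, 0, -2, 0, -2, 0],
     [0, -2, 0, -2, -2, 4, 2, 0, 0, 4, 0, 0, -2, -2, 0, 0, 0, 0, 0, 0, -2, 0, 2, 0],
     [-2, 0, 2, 0, 0, -2, 0, -2, -2, 2, -2, -2, 0, 0, 2, -2, 2, -2, -2, 2, 0, -2, 0, 2],
     [0, -2, 0, -2, 2, 0, 2, 0, 0, 0, 0, 0, 2, -2, 0, 0, 0, 4, -4, 0, 2, 0, -2, 0],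
     [-4, -2, 0, -2, -2, 0, -2, 0, 0, 0, 4, 0, 2, 2, 0, 0, 0, 0, 0, 0, 2, 0, 2, 0]],
    [[2, -4, 2, 0, 0, 0, 2, 0, -2, 0, -4, 0, 0, 0, 0, 2, 0, 2, 0, 0, 0, 0, 2, -2],
     [2, 0, 2, 0, 4, 0, -2, 0, -2, 0, 0, 0, 0, 0, 0, -2, 0, 2, 0, -4, 0, 0, -2, 2],
     [0, -2, 0, 2, 2, 2, 0, 2, 0, -2, 2, 2, 2, -2, -2, 0, 2, 0, 2, 2, -2, -2, 0, 0],
     [0, 2, 0, 2, 2, -2, 0, 2, 0, 2, -2, 2, 2, -2, -2, 0, -2, 0, -2, 2, 2, 2, 0, 0],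
     [-2, 0, -2, 0, 0, 0, -2, 0, -2, 0, 0, 0, 4, 0, 4, 2, 0, 2, 0, 0, 0, 0, -2, -2],
     [2, 0, -2, 4, 0, 0, 2, 0, -2, 0, 0, 0, 0, 4, 0, -2, 0, -2, 0, 0, 0, 0, -2, -2],
     [0, 2, 0, 2, 2, 2, 0, -2, 0, -2, -2, -2, -2, -2, 2, 0, -2, 0, -2, 2, -2, -2, 0, 0],
     [-2, 0, 2, 0, 0, 0, 2, -4, -2, 0, 0, 4, 0, 0, 0, 2, 0, -2, 0, 0, 0, 0, -2, 2],
     [-2, 0, 2, 0, 0, -4, -2, 0, -2, 0, 0, 0, 0, 0, 0, -2, 0, -2, 0, 0, 0, -4, 2, -2],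
     [-2, 0, -2, 0, 0, 0, 2, 0, -2, 4, 0, 0, 0, 0, 0, -2, 0, 2, 0, 0, -4, 0, 2, 2],
     [-2, 0, 2, 4, 0, 0, -2, 0, 2, 0, 0, 0, 0, 4, 0, 2, 0, 2, 0, 0, 0, 0, 2, 2],
     [-2, 0, 2, 0, 0, 0, 2, 4, -2, 0, 0, -4, 0, 0, 0, 2, 0, -2, 0, 0, 0, 0, -2, 2],
     [-2, 0, 2, 0, 0, 0, 2, 0, 2, 0, 0, 0, 0, 0, 0, -2, -4, 2, 4, 0, 0, 0, -2, -2],
     [2, 0, -2, 0, 0, -4, 2, 0, 2, 0, 0, 0, 0, 0, 0, 2, 0, 2, 0, 0, 0, -4, -2, 2],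
     [0, 2, 0, 2, -2, 2, 0, 2, 0, 2, -2, 2, -2, -2, 2, 0, 2, 0, 2, -2, 2, -2, 0, 0],
     [-2, 0, -2, 0, 0, 0, 2, 0, -2, -4, 0, 0, 0, 0, 0, -2, 0, 2, 0, 0, 4, 0, 2, 2],
     [-2, -4, -2, 0, 0, 0, -2, 0, 2, 0, -4, 0, 0, 0, 0, -2, 0, -2, 0, 0, 0, 0, -2, 2],
     [0, -2, 0, 2, -2, 2, 0, -2, 0, 2, 2, -2, 2, -2, -2, 0, -2, 0, -2, -2, 2, -2, 0, 0],
     [0, 2, 0, 2, -2, -2, 0, -2, 0, -2, -2, -2, 2, -2, -2, 0, 2, 0, 2, -2, -2, 2, 0, 0],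
     [2, 0, 2, 0, -4, 0, -2, 0, -2, 0, 0, 0, 0, 0, 0, -2, 0, 2, 0, 4, 0, 0, -2, 2],
     [0, 2, 0, -2, -2, 2, 0, 2, 0, -2, -2, 2, 2, 2, -2, 0, -2, 0, -2, -2, -2, -2, 0, 0],
     [2, 0, 2, 0, 0, 0, 2, 0, 2, 0, 0, 0, 4, 0, 4, -2, 0, -2, 0, 0, 0, 0, 2, 2],
     [0, 2, 0, -2, 2, 2, 0, -2, 0, 2, -2, -2, 2, 2, -2, 0, 2, 0, 2, 2, 2, -2, 0, 0],
     [-2, 0, 2, 0, 0, 0, 2, 0, 2, 0, 0, 0, 0, 0, 0, -2, 4, 2, -4, 0, 0, 0, -2, -2]],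
    [[1, -1, 1, -1, -1, 3, -1, -1, 1, -1, -3, 1, -1, -3, 1, -1, 1, -3, -1, 1, 1, 1, -1, 3],
     [1, -1, 1, -1, -1, -1, 3, -1, 1, -1, 1, 1, -1, 1, 1, -1, 1, -3, 3, -3, 1, -3, -1, -1],
     [1, -1, 1, -1, -1, -1, -1, -1, 1, -1, 1, -3, -1, -3, -3, -1, -3, 1, -1, 1, 1, -3, -1, -1],
     [-1, -3, -1, 1, 5, 1, 1, 1, -1, 1, -1, -1, 1, -1, -1, 1, -1, -1, 1, -1, 3, -1, 1, 1],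
     [1, -1, 1, -1, -1, 3, -1, -1, -3, -1, 1, 1, -1, 1, 1, -1, -3, 1, -1, -3, 1, 1, 3, -1],
     [3, 1, 3, 1, 1, -3, 1, 1, -1, 1, -1, -1, -3, -1, -1, 1, -1, -1, 1, -1, -1, 3, 1, 1],
     [-1, 1, 3, 1, 1, 1, 1, 1, -1, 1, 3, 3, 1, -1, -1, 1, -1, -1, -3, -1, -1, -1, -3, 1],
     [-1, 1, -1, -3, 1, 1, 1, 1, 3, 1, 3, -1, 1, -1, -1, -3, -1, -1, 1, -1, -1, 3, 1, 1],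
     [1, -1, 1, -1, -1, -1, -1, -1, 1, 3, -3, 1, 3, 1, -3, -1, 1, 1, -1, -3, 1, 1, -1, -1],
     [-1, 1, -1, 1, 1, 1, 1, -3, -1, -3, -1, -1, 1, -1, -1, 1, -1, -1, 1, -1, -1, 3, -3, -3],
     [-3, -1, 1, 3, -1, -1, -1, -1, 1, -1, 1, -3, -1, 1, 1, -1, 1, 1, -1, -3, 1, 1, -1, 3],
     [-1, 1, -1, -3, 1, -3, 1, -3, -1, 1, -1, -1, 1, -1, 3, 1, -1, -1, -3, -1, -1, -1, 1, 1],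
     [-1, 1, 3, -3, 1, 1, 1, 1, -1, -3, -1, -1, 1, -1, -1, 1, 3, 3, 1, -1, -1, -1, 1, 1],
     [-1, 1, -1, 1, 1, 1, 1, 1, -1, 1, -1, -1, -3, -1, -1, -3, 3, -1, -3, -1, -1, -1, 1, -3],
     [-1, 1, -1, 1, 1, -3, -3, 1, -1, -3, -1, 3, 1, -1, -1, -3, -1, -1, 1, -1, -1, -1, 1, 1],
     [-1, -3, -1, 1, -3, 1, 1, 1, -1, 1, -1, -1, 1, -1, -1, 1, -1, -1, 1, -1, -5, -1, 1, 1],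
     [3, 1, -1, 1, 1, 1, -3, -3, -1, 1, 3, -1, 1, -1, -1, 1, 3, -1, 1, -1, -1, -1, 1, 1],
     [1, -1, 1, 3, -1, -1, 3, -1, 1, -1, 1, 1, 3, -3, 1, -1, 1, 1, -1, 1, 1, 1, 3, -1],
     [-1, 1, 3, 1, 1, 1, -3, 1, 3, 1, -1, -1, 1, -1, 3, 1, -1, -1, 1, -1, -1, -1, 1, -3],
     [-3, -1, 1, -1, -1, -1, -1, -1, -3, 3, 1, 1, -1, -3, 1, -1, 1, 1, 3, 1, 1, 1, -1, -1],
     [-1, 1, 3, 1, 1, 1, 1, -3, -1, 1, -1, -1, 1, 3, -1, -3, -1, -1, 1, 3, -1, -1, 1, 1],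
     [-1, 5, -1, 1, -3, 1, 1, 1, -1, 1, -1, -1, 1, -1, -1, 1, -1, -1, 1, -1, 3, -1, 1, 1],
     [3, 1, -1, 1, 1, 1, 1, 1, -1, 1, -1, -1, 1, -1, 3, -3, -1, 3, 1, -1, -1, -1, -3, 1],
     [-1, 1, -1, 1, 1, 1, 1, -3, 3, 1, -1, 3, -3, -1, -1, 1, -1, 3, 1, -1, -1, -1, 1, 1]]]

/-- A vector moved by the whole bottom layer. -/
def vL : List ℕ := [12, 12, 1, 1, 1, 1, 12, 12, 1, 12, 1, 12, 12, 1, 12, 1, 1, 10, 12, 1, 1, 12, 12, 12]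

/-- A layer. -/
def L1 : LData 6 where
  r := 3
  idx := ![0, 1, 2]
  s := 4
  l := 1
  killed := []
  E := ![![![1, 0, 0], ![0, 1, 0], ![0, 0, 1]], ![![1, 0, 0], ![0, 1, 0], ![0, 0, 1]], ![![1, 0, 0], ![0, 1, 0], ![0, 0, 1]], ![![0, 0, 3], ![2, 0, 3], ![3, 1, 3]], ![![2, 0, 0], ![0, 2, 0], ![0, 0, 2]], ![![0, 0, 2], ![2, 4, 4], ![3, 0, 0]]]
  F := ![![4, 0, 0], ![0, 4, 0], ![0, 0, 4], ![1, 0, 0], ![0, 0, 0], ![0, 0, 4]]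
  comLo := ![![[], [], []], ![[], [], []], ![[], [], []]]
  expLo := ![[], [], []]
  conjLo := ![![[], [], []], ![[], [], []], ![[], [], []], ![[], [], []], ![[], [], []], ![[], [], []]]
  sLo := ![[], [], []]
  cenLo := ![[], [], [], [], [], []]

/-- The certificate of the pairing. -/
def L1Cert : Fin 3 → Fin 3 → List (Fin 6 × Fin 3 × Fin 3 × ZMod 5) :=
  ![![[], [(4, 0, 1, 2)], [(4, 0, 1, 3), (3, 0, 1, 4)]],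
    ![[], [], [(3, 0, 2, 3)]],
    ![[], [], []]]

/-- A layer. -/
def L2 : LData 6 where
  r := 1
  idx := ![3]
  s := 5
  l := 3
  killed := [0, 1, 2]
  E := ![![![1]], ![![1]], ![![1]], ![![1]], ![![1]], ![![4]]]
  F := ![![0], ![0], ![0], ![2], ![0], ![0]]
  comLo := ![![[]]]
  expLo := ![[]]
  conjLo := ![![[0, 2, 2]], ![[0, 0, 0, 1, 2, 2]], ![[0, 0, 1, 1, 1, 1, 2, 2, 2]], ![[]], ![[0, 0, 0, 0]], ![[0, 1, 1, 2, 2, 2, 2]]]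
  sLo := ![[0, 1, 1, 2, 2, 2, 2]]
  cenLo := ![[0, 2, 2, 2], [0, 0, 0, 1, 1, 2], [0, 0, 2], [0, 0, 0, 0, 1, 1, 1, 1, 2, 2], [2], []]

/-- The certificate of the pairing. -/
def L2Cert : Fin 1 → Fin 1 → List (Fin 6 × Fin 1 × Fin 1 × ZMod 5) :=
  ![![[]]]

end Cfsg.Agent.Co1Mult.Five
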