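import Cfsg.Agent.Co1Mult.Layer

/-!
Generators and relations around the Sylow 7-subgroups of `Co₁`.
-/

set_option autoImplicit false

namespace Cfsg.Agent.Co1Mult.Seven

/-- The matrices, scaled by eight. -/
def mats : Fin 3 → List (List ℤ) :=
  ![
    [[-4, 0, 2, 2, 0, -2, 0, 2, 2, 2, -2, 0, -2, 0, 2, 0, 0, 2, 0, 0, 0, -2, 0, -2],
     [0, 0, -2, -2, 4, -2, 0, 2, -2, -2, -2, 0, -2, 0, 2, 0, 0, 2, 0, 0, 0, 2, 0, 2],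
     [0, 0, -2, 2, 0, 2, 0, -2, 2, -2, -2, 0, 2, 0, 2, 0, 0, 2, 0, 0, 0, -2, -4, 2],
     [-2, 2, 0, 0, -2, 0, -2, 0, -4, 0, 0, -2, 0, 2, 0, 2, -2, 0, 2, -2, 2, 0, -2, 0],
     [-2, -2, -4, 0, -2, 0, 2, 0, 0, 0, 0, -2, 0, -2, 0, 2, -2, 0, -2, 2, 2, 0, 2, 0],
     [-2, 2, 0, 0, 2, 0, 2, 0, 0, 0, 4, 2, 0, -2, 0, 2, -2, 0, 2, 2, -2, 0, -2, 0],
     [0, 0, -2, -2, 0, -2, 0, -2, 2, 2, -2, 0, 2, 0, -2, 0, 0, 2, 4, 0, 0, 2, 0, -2],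
     [0, 0, -2, 2, 0, 2, 0, -2, -2, 2, -2, 4, -2, 0, 2, 0, 0, -2, 0, 0, 0, 2, 0, -2],
     [0, 0, 2, 2, 0, 2, 4, 2, -2, 2, -2, 0, 2, 0, -2, 0, 0, 2, 0, 0, 0, 2, 0, 2],
     [2, 2, 0, 0, -2, 0, -2, 0, 0, 0, 0, 2, 0, 2, 0, 2, -2, 4, -2, 2, -2, 0, 2, 0],
     [0, 0, 2, -2, 0, -2, 0, -2, -2, 2, -2, 0, 2, 0, 2, 0, 0, -2, 0, 4, 0, -2, 0, 2],
     [2, 2, 0, 4, 2, 0, -2, 0, 0, 0, 0, -2, 0, -2, 0, -2, -2, 0, 2, 2, 2, 0, 2, 0],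
     [2, -2, 0, 0, -2, 0, -2, 4, 0, 0, 0, 2, 0, -2, 0, 2, 2, 0, 2, 2, 2, 0, -2, 0],
     [0, 0, 2, -2, 0, 2, 0, 2, 2, -2, -2, 0, 2, 0, 2, 0, -4, -2, 0, 0, 0, 2, 0, -2],
     [2, -2, 0, 0, -2, 0, 2, 0, 0, 0, 0, -2, -4, 2, 0, -2, -2, 0, 2, 2, -2, 0, -2, 0],
     [2, 2, 0, 0, -2, -4, 2, 0, 0, 0, 0, 2, 0, -2, 0, -2, -2, 0, -2, -2, 2, 0, -2, 0],
     [0, 0, -2, 2, 0, -2, 0, 2, 2, 2, 2, 0, 2, 4, 2, 0, 0, -2, 0, 0, 0, 2, 0, 2],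
     [0, 0, -2, 2, 0, -2, 0, 2, -2, -2, -2, 0, 2, 0, -2, 0, 0, -2, 0, 0, -4, -2, 0, -2],
     [-2, -2, 0, 0, 2, 0, -2, 0, 0, 0, 0, 2, 0, 2, -4, -2, -2, 0, -2, 2, 2, 0, -2, 0],
     [2, -2, 0, 0, 2, 0, -2, 0, 0, 4, 0, -2, 0, -2, 0, 2, -2, 0, -2, -2, -2, 0, -2, 0],
     [-2, 2, 0, 0, -2, 0, -2, 0, 0, 0, 0, -2, 0, -2, 0, -2, 2, 0, -2, 2, -2, 4, -2, 0],
     [0, 0, -2, -2, 0, 2, 0, 2, -2, 2, 2, 0, 2, 0, 2, -4, 0, 2, 0, 0, 0, -2, 0, -2],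
     [0, -4, 2, 2, 0, -2, 0, -2, -2, -2, 2, 0, 2, 0, 2, 0, 0, 2, 0, 0, 0, 2, 0, -2],
     [2, 2, 0, 0, 2, 0, 2, 0, 0, 0, 0, -2, 0, 2, 0, 2, 2, 0, -2, 2, 2, 0, -2, -4]],
    [[-2, 0, 0, -2, 0, -2, 0, 0, 0, 0, 0, 4, -2, 0, 2, 0, 0, 0, -4, 2, -2, 0, -2, 0],
     [-2, 0, -4, -2, 0, -2, 0, 0, 0, 4, 0, 0, 2, 0, -2, 0, 0, 0, 0, -2, -2, 0, 2, 0],
     [2, 0, 0, -2, 0, 2, 0, -4, 0, 0, 0, 0, -2, 0, -2, 0, 0, 0, 0, -2, -2, 0, -2, 4],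
     [-2, 0, 0, 2, 4, 2, 4, 0, 0, 0, 0, 0, -2, 0, 2, 0, 0, 0, 0, -2, -2, 0, 2, 0],
     [2, 0, 0, 2, 0, 2, 0, 0, 0, 0, 0, 4, 2, 0, -2, 0, 0, 0, -4, -2, 2, 0, 2, 0],
     [-2, 0, 0, 2, 0, 2, 0, 0, 4, 0, 0, 0, 2, 0, -2, 0, 0, 4, 0, 2, -2, 0, -2, 0],
     [2, 0, 0, 2, 0, -2, 0, 0, 0, 0, 0, 0, 2, 0, 2, 4, 4, 0, 0, -2, -2, 0, -2, 0],
     [2, 0, 0, -2, 0, 2, 0, 0, 0, 0, -4, 0, 2, 0, 2, 0, 0, 0, 0, 2, -2, 4, 2, 0],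
     [0, 2, 2, 0, -2, 0, 2, 2, 2, 2, -2, -2, 0, -2, 0, -2, 2, -2, -2, 0, 0, -2, 0, 2],
     [2, 0, -4, 2, 0, 2, 0, 0, 0, 4, 0, 0, -2, 0, 2, 0, 0, 0, 0, 2, 2, 0, -2, 0],
     [-2, 0, 0, 2, 0, 2, 0, 0, -4, 0, 0, 0, 2, 0, -2, 0, 0, -4, 0, 2, -2, 0, -2, 0],
     [2, 0, 0, -2, 0, 2, 0, 4, 0, 0, 0, 0, -2, 0, -2, 0, 0, 0, 0, -2, -2, 0, -2, -4],
     [-2, 4, 0, -2, 0, 2, 0, 0, 0, 0, 0, 0, 2, 4, 2, 0, 0, 0, 0, -2, 2, 0, -2, 0],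
     [0, -2, 2, 0, -2, 0, 2, -2, 2, 2, 2, -2, 0, 2, 0, 2, -2, -2, -2, 0, 0, 2, 0, -2],
     [2, 0, 0, -2, 0, 2, 0, 0, 0, 0, 4, 0, 2, 0, 2, 0, 0, 0, 0, 2, -2, -4, 2, 0],
     [0, 2, -2, 0, -2, 0, 2, 2, -2, -2, 2, -2, 0, -2, 0, 2, -2, 2, -2, 0, 0, 2, 0, 2],
     [0, -2, -2, 0, 2, 0, -2, 2, 2, -2, 2, -2, 0, 2, 0, -2, 2, -2, -2, 0, 0, 2, 0, 2],
     [2, 4, 0, 2, 0, -2, 0, 0, 0, 0, 0, 0, -2, 4, -2, 0, 0, 0, 0, 2, -2, 0, 2, 0],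
     [0, -2, -2, 0, -2, 0, 2, 2, 2, -2, -2, 2, 0, 2, 0, 2, -2, -2, 2, 0, 0, -2, 0, 2],
     [0, 2, 2, 0, 2, 0, -2, 2, 2, 2, 2, 2, 0, -2, 0, 2, -2, -2, 2, 0, 0, 2, 0, 2],
     [0, 2, -2, 0, -2, 0, 2, -2, 2, -2, 2, 2, 0, -2, 0, -2, 2, -2, 2, 0, 0, 2, 0, -2],
     [0, -2, 2, 0, -2, 0, 2, 2, -2, 2, 2, 2, 0, 2, 0, -2, 2, 2, 2, 0, 0, 2, 0, 2],
     [-2, 0, 0, 2, -4, 2, -4, 0, 0, 0, 0, 0, -2, 0, 2, 0, 0, 0, 0, -2, -2, 0, 2, 0],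
     [-2, 0, 0, -2, 0, 2, 0, 0, 0, 0, 0, 0, -2, 0, -2, 4, 4, 0, 0, 2, 2, 0, 2, 0]],
    [[-2, 2, 0, 2, 2, 2, 0, 2, 2, -2, -2, 2, 0, 0, 0, -2, -2, 2, 2, 0, 0, 0, 2, -2],
     [-2, -2, 0, 2, 2, -2, 0, 2, 2, 2, -2, 2, 0, 0, 0, 2, 2, -2, 2, 0, 0, 0, -2, 2],
     [0, 0, 2, 0, 0, -4, 2, 0, 0, 0, 0, 0, 2, -2, 2, 0, 0, 4, 0, -2, -2, -2, 0, 0],
     [2, -2, 0, 2, 2, 2, 0, 2, -2, -2, 2, 2, 0, 0, 0, 2, 2, 2, -2, 0, 0, 0, -2, -2],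
     [0, 0, 2, 0, 0, 0, 2, 0, 0, 4, 0, 0, -2, 2, -2, 0, 0, 0, 0, 2, -2, -2, 0, -4],
     [0, 0, -2, 0, 0, 0, 2, 0, 0, 0, 0, 0, -2, -2, -2, -4, 0, 0, 0, -2, -2, 2, -4, 0],
     [0, 0, -2, 0, 0, -4, -2, 0, 0, 0, 0, 0, -2, 2, -2, 0, 0, 4, 0, 2, 2, 2, 0, 0],
     [2, -2, 0, 2, -2, -2, 0, 2, 2, -2, -2, -2, 0, 0, 0, -2, 2, -2, -2, 0, 0, 0, 2, -2],
     [0, 0, 2, 0, 0, 0, -2, 0, 0, 0, 0, 0, 2, 2, 2, -4, 0, 0, 0, 2, 2, -2, -4, 0],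
     [2, -2, 0, -2, 2, 2, 0, -2, 2, 2, -2, 2, 0, 0, 0, -2, 2, 2, -2, 0, 0, 0, 2, 2],
     [0, 0, 2, 0, -4, 0, -2, 0, 0, 0, 0, 4, -2, 2, 2, 0, 0, 0, 0, -2, -2, 2, 0, 0],
     [-4, 0, -2, 0, 0, 0, -2, 0, 0, 0, 0, 0, -2, -2, 2, 0, 0, 0, -4, 2, -2, -2, 0, 0],
     [0, 0, 2, -4, 0, 0, -2, 4, 0, 0, 0, 0, 2, -2, -2, 0, 0, 0, 0, 2, -2, 2, 0, 0],
     [0, 0, 2, 0, 0, 0, 2, 0, -4, 0, -4, 0, -2, -2, 2, 0, 0, 0, 0, 2, 2, 2, 0, 0],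
     [0, 0, 2, 0, 0, 0, 2, 0, 4, 0, 4, 0, -2, -2, 2, 0, 0, 0, 0, 2, 2, 2, 0, 0],
     [0, 0, 2, 0, 0, 0, 2, 0, 0, -4, 0, 0, -2, 2, -2, 0, 0, 0, 0, 2, -2, -2, 0, 4],
     [2, 2, 0, -2, 2, -2, 0, -2, 2, -2, -2, 2, 0, 0, 0, 2, -2, -2, -2, 0, 0, 0, -2, -2],
     [0, 0, 2, 0, 4, 0, -2, 0, 0, 0, 0, -4, -2, 2, 2, 0, 0, 0, 0, -2, -2, 2, 0, 0],
     [-2, -2, 0, -2, -2, 2, 0, -2, 2, -2, -2, -2, 0, 0, 0, 2, 2, 2, 2, 0, 0, 0, -2, -2],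
     [0, 4, 2, 0, 0, 0, -2, 0, 0, 0, 0, 0, -2, -2, -2, 0, 4, 0, 0, -2, 2, -2, 0, 0],
     [0, 0, -2, -4, 0, 0, 2, 4, 0, 0, 0, 0, -2, 2, 2, 0, 0, 0, 0, -2, 2, -2, 0, 0],
     [0, -4, 2, 0, 0, 0, -2, 0, 0, 0, 0, 0, -2, -2, -2, 0, -4, 0, 0, -2, 2, -2, 0, 0],
     [-4, 0, 2, 0, 0, 0, 2, 0, 0, 0, 0, 0, 2, 2, -2, 0, 0, 0, -4, -2, 2, 2, 0, 0],
     [-2, -2, 0, -2, 2, -2, 0, -2, -2, -2, 2, 2, 0, 0, 0, -2, 2, -2, 2, 0, 0, 0, 2, -2]]]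

/-- A vector moved by the whole bottom layer. -/
def vL : List ℕ := [12, 12, 1, 1, 1, 1, 12, 12, 1, 12, 1, 12, 12, 1, 12, 1, 1, 10, 12, 1, 1, 12, 12, 12]

/-- A layer. -/
def L1 : LData 3 where
  r := 2
  idx := ![0, 1]
  s := 2
  l := 1
  killed := []
  E := ![![![1, 0], ![0, 1]], ![![1, 0], ![0, 1]], ![![2, 0], ![0, 2]]]
  F := ![![6, 0], ![0, 6], ![0, 0]]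
  comLo := ![![[], []], ![[], []]]
  expLo := ![[], []]
  conjLo := ![![[], []], ![[], []], ![[], []]]
  sLo := ![[], []]
  cenLo := ![[], [], []]

/-- The certificate of the pairing. -/
def L1Cert : Fin 2 → Fin 2 → List (Fin 3 × Fin 2 × Fin 2 × ZMod 7) :=
  ![![[], [(2, 0, 1, 5)]],
    ![[], []]]

end Cfsg.Agent.Co1Mult.Seven
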