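import Cfsg.Agent.Co1Mult.Layer

/-!
Generators and relations around the Sylow 3-subgroups of `Co₁`.
-/

set_option autoImplicit false

namespace Cfsg.Agent.Co1Mult.Three

/-- The matrices, scaled by eight. -/
def mats : Fin 12 → List (List ℤ) :=
  ![
    [[6, 0, 0, 0, 0, 0, 0, 0, 0, -2, 0, -2, 0, 2, -2, -2, 0, 0, 0, 2, -2, 0, 0, 0],
     [0, 2, 2, -2, -2, 2, -2, -2, -2, 0, -2, 0, -2, 0, 0, 0, 2, 2, -2, 0, 0, 2, -2, -2],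
     [2, 0, 0, 0, 0, 0, 0, 0, 0, 2, 0, 2, 0, -2, -6, 2, 0, 0, 0, -2, 2, 0, 0, 0],
     [0, 2, 2, 2, 2, 2, 2, 2, -2, 0, -2, 0, 2, 0, 0, 0, -2, -2, 2, 0, 0, 2, -2, -2],
     [0, -2, -2, -2, 2, 2, -2, 2, 2, 0, -2, 0, -2, 0, 0, 0, -2, 2, 2, 0, 0, -2, -2, -2],
     [0, -2, 2, 2, -2, 2, 2, 2, -2, 0, 2, 0, -2, 0, 0, 0, 2, 2, 2, 0, 0, -2, 2, -2],
     [0, -2, -2, 2, -2, 2, 2, -2, 2, 0, -2, 0, 2, 0, 0, 0, 2, -2, -2, 0, 0, -2, -2, -2],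
     [-2, 0, 0, 0, 0, 0, 0, 0, 0, -2, 0, 6, 0, 2, -2, -2, 0, 0, 0, 2, -2, 0, 0, 0],
     [2, 0, 0, 0, 0, 0, 0, 0, 0, 2, 0, 2, 0, -2, 2, 2, 0, 0, 0, -2, -6, 0, 0, 0],
     [-2, 0, 0, 0, 0, 0, 0, 0, 0, 6, 0, -2, 0, 2, -2, -2, 0, 0, 0, 2, -2, 0, 0, 0],
     [0, 2, 2, -2, 2, 2, 2, 2, 2, 0, 2, 0, -2, 0, 0, 0, 2, -2, -2, 0, 0, -2, -2, 2],
     [0, -2, -2, 2, 2, 2, -2, 2, -2, 0, 2, 0, 2, 0, 0, 0, 2, 2, -2, 0, 0, 2, -2, 2],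
     [0, -2, 2, -2, -2, 2, 2, 2, 2, 0, -2, 0, 2, 0, 0, 0, -2, 2, -2, 0, 0, 2, 2, 2],
     [0, -2, 2, 2, 2, 2, -2, -2, 2, 0, -2, 0, -2, 0, 0, 0, 2, -2, 2, 0, 0, 2, 2, 2],
     [0, -2, -2, -2, 2, -2, 2, 2, -2, 0, -2, 0, -2, 0, 0, 0, 2, -2, -2, 0, 0, 2, 2, -2],
     [-2, 0, 0, 0, 0, 0, 0, 0, 0, -2, 0, -2, 0, 2, -2, 6, 0, 0, 0, 2, -2, 0, 0, 0],
     [0, 2, -2, -2, -2, 2, -2, 2, 2, 0, 2, 0, 2, 0, 0, 0, 2, -2, 2, 0, 0, 2, 2, -2],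
     [0, 2, 2, 2, 2, -2, -2, 2, 2, 0, -2, 0, 2, 0, 0, 0, 2, 2, -2, 0, 0, -2, 2, -2],
     [2, 0, 0, 0, 0, 0, 0, 0, 0, 2, 0, 2, 0, 6, 2, 2, 0, 0, 0, -2, 2, 0, 0, 0],
     [2, 0, 0, 0, 0, 0, 0, 0, 0, 2, 0, 2, 0, -2, 2, 2, 0, 0, 0, 6, 2, 0, 0, 0],
     [0, 2, -2, 2, -2, 2, -2, 2, -2, 0, -2, 0, -2, 0, 0, 0, -2, -2, -2, 0, 0, -2, 2, 2],
     [0, 2, -2, 2, -2, -2, 2, 2, 2, 0, -2, 0, -2, 0, 0, 0, 2, 2, 2, 0, 0, 2, -2, 2],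
     [0, 2, -2, -2, 2, 2, 2, -2, -2, 0, -2, 0, 2, 0, 0, 0, 2, 2, 2, 0, 0, -2, 2, 2],
     [0, -2, 2, -2, -2, -2, -2, 2, -2, 0, -2, 0, 2, 0, 0, 0, 2, -2, 2, 0, 0, -2, -2, 2]],
    [[6, 0, 2, 0, 0, 0, 0, 0, 0, -2, 0, -2, 0, 0, 0, 0, -2, -2, 0, 2, 0, 0, 0, -2],
     [0, 2, 0, 2, 2, -2, -2, -2, -2, 0, -2, 0, -2, -2, 2, -2, 0, 0, -2, 0, -2, 2, 2, 0],
     [0, -2, 0, 2, 2, -2, -2, -2, 2, 0, -2, 0, 2, -2, -2, -2, 0, 0, 2, 0, 2, -2, -2, 0],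
     [0, -2, 0, 2, 2, 2, 2, 2, 2, 0, -2, 0, -2, 2, 2, -2, 0, 0, -2, 0, 2, -2, 2, 0],
     [0, 2, 0, 2, 2, 2, -2, 2, 2, 0, 2, 0, -2, -2, -2, 2, 0, 0, 2, 0, -2, -2, 2, 0],
     [0, 2, 0, 2, 2, 2, 2, 2, -2, 0, -2, 0, 2, 2, -2, -2, 0, 0, 2, 0, -2, 2, -2, 0],
     [0, -2, 0, 2, -2, 2, 2, -2, 2, 0, 2, 0, 2, -2, 2, -2, 0, 0, 2, 0, -2, 2, 2, 0],
     [-2, 0, 2, 0, 0, 0, 0, 0, 0, -2, 0, 6, 0, 0, 0, 0, -2, -2, 0, 2, 0, 0, 0, -2],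
     [0, 2, 0, 2, 2, -2, 2, -2, 2, 0, 2, 0, 2, 2, 2, 2, 0, 0, -2, 0, -2, -2, -2, 0],
     [-2, 0, 2, 0, 0, 0, 0, 0, 0, 6, 0, -2, 0, 0, 0, 0, -2, -2, 0, 2, 0, 0, 0, -2],
     [0, -2, 0, 2, -2, -2, -2, 2, 2, 0, 2, 0, -2, 2, -2, -2, 0, 0, -2, 0, -2, 2, -2, 0],
     [0, -2, 0, 2, 2, 2, -2, 2, -2, 0, 2, 0, 2, -2, 2, 2, 0, 0, -2, 0, 2, 2, -2, 0],
     [0, -2, 0, 2, -2, -2, 2, 2, -2, 0, -2, 0, 2, -2, -2, 2, 0, 0, -2, 0, -2, -2, 2, 0],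
     [0, -2, 0, 2, 2, -2, 2, -2, -2, 0, 2, 0, -2, 2, -2, 2, 0, 0, 2, 0, 2, 2, 2, 0],
     [-2, 0, 2, 0, 0, 0, 0, 0, 0, -2, 0, -2, 0, 0, 0, 0, 6, -2, 0, 2, 0, 0, 0, -2],
     [-2, 0, 2, 0, 0, 0, 0, 0, 0, -2, 0, -2, 0, 0, 0, 0, -2, -2, 0, -6, 0, 0, 0, -2],
     [0, 2, 0, 2, -2, -2, 2, 2, 2, 0, -2, 0, -2, -2, 2, 2, 0, 0, 2, 0, 2, 2, -2, 0],
     [-2, 0, 2, 0, 0, 0, 0, 0, 0, -2, 0, -2, 0, 0, 0, 0, -2, 6, 0, 2, 0, 0, 0, -2],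
     [0, -2, 0, 2, -2, 2, -2, -2, -2, 0, -2, 0, -2, 2, 2, 2, 0, 0, 2, 0, -2, -2, -2, 0],
     [0, 2, 0, 2, -2, 2, 2, -2, -2, 0, 2, 0, -2, -2, -2, -2, 0, 0, -2, 0, 2, -2, -2, 0],
     [0, 2, 0, 2, -2, -2, -2, 2, -2, 0, 2, 0, 2, 2, 2, -2, 0, 0, 2, 0, 2, -2, 2, 0],
     [-2, 0, -6, 0, 0, 0, 0, 0, 0, -2, 0, -2, 0, 0, 0, 0, -2, -2, 0, 2, 0, 0, 0, -2],
     [0, 2, 0, 2, -2, 2, -2, -2, 2, 0, -2, 0, 2, 2, -2, 2, 0, 0, -2, 0, 2, 2, 2, 0],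
     [-2, 0, 2, 0, 0, 0, 0, 0, 0, -2, 0, -2, 0, 0, 0, 0, -2, -2, 0, 2, 0, 0, 0, 6]],
    [[4, 0, 2, 0, 2, 0, 0, 0, 0, 2, 0, 0, 0, 0, -2, -2, -4, 0, 2, 0, -2, -2, 0, 0],
     [-4, 0, 2, 0, 2, 0, 0, 0, 0, 2, 0, 0, 0, 0, -2, -2, 4, 0, 2, 0, -2, -2, 0, 0],
     [2, -2, 0, 2, 0, 2, -2, -2, 2, 0, 2, 2, 2, -2, 0, 0, 2, -2, 0, -2, 0, 0, 2, 2],
     [2, 2, 0, 2, 0, 2, 2, 2, 2, 0, -2, 2, -2, 2, 0, 0, 2, 2, 0, 2, 0, 0, 2, 2],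
     [0, 0, -2, 4, 2, 0, 0, 0, 0, -2, 0, 0, 0, 0, 2, 2, 0, 0, 2, 0, -2, -2, -4, 0],
     [0, 0, 2, 0, -2, 4, 0, 0, 0, -2, 0, 0, 0, 0, 2, -2, 0, 0, 2, 0, 2, -2, 0, -4],
     [2, 2, 0, 2, 0, -2, 2, -2, -2, 0, 2, -2, 2, -2, 0, 0, 2, 2, 0, 2, 0, 0, 2, -2],
     [0, 0, 2, 0, 2, 0, 0, 0, -4, -2, 0, 4, 0, 0, 2, -2, 0, 0, -2, 0, -2, 2, 0, 0],
     [0, 0, 2, 0, 2, 0, 0, 0, 4, -2, 0, -4, 0, 0, 2, -2, 0, 0, -2, 0, -2, 2, 0, 0],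
     [0, 0, -2, 0, -2, 0, 4, 0, 0, 2, 0, 0, 0, 0, 2, -2, 0, -4, 2, 0, -2, 2, 0, 0],
     [0, 0, -2, 0, -2, 0, 0, 0, 0, -2, 4, 0, -4, 0, -2, -2, 0, 0, -2, 0, -2, -2, 0, 0],
     [0, 0, -2, 0, 2, 0, 0, 4, 0, -2, 0, 0, 0, -4, -2, -2, 0, 0, 2, 0, 2, 2, 0, 0],
     [0, 0, -2, 0, -2, 0, 0, 0, 0, -2, -4, 0, 4, 0, -2, -2, 0, 0, -2, 0, -2, -2, 0, 0],
     [0, 0, -2, 0, 2, 0, 0, -4, 0, -2, 0, 0, 0, 4, -2, -2, 0, 0, 2, 0, 2, 2, 0, 0],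
     [-2, 2, 0, 2, 0, -2, -2, -2, 2, 0, -2, 2, -2, -2, 0, 0, -2, -2, 0, 2, 0, 0, 2, -2],
     [0, 0, -2, -4, 2, 0, 0, 0, 0, -2, 0, 0, 0, 0, 2, 2, 0, 0, 2, 0, -2, -2, 4, 0],
     [0, 4, -2, 0, 2, 0, 0, 0, 0, 2, 0, 0, 0, 0, 2, -2, 0, 0, -2, -4, 2, -2, 0, 0],
     [-2, -2, 0, 2, 0, -2, 2, 2, 2, 0, 2, 2, 2, 2, 0, 0, -2, 2, 0, -2, 0, 0, 2, -2],
     [2, -2, 0, 2, 0, -2, -2, 2, -2, 0, -2, -2, -2, 2, 0, 0, 2, -2, 0, -2, 0, 0, 2, -2],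
     [0, -4, -2, 0, 2, 0, 0, 0, 0, 2, 0, 0, 0, 0, 2, -2, 0, 0, -2, 4, 2, -2, 0, 0],
     [-2, 2, 0, 2, 0, 2, -2, 2, -2, 0, 2, -2, 2, 2, 0, 0, -2, -2, 0, 2, 0, 0, 2, 2],
     [0, 0, -2, 0, -2, 0, -4, 0, 0, 2, 0, 0, 0, 0, 2, -2, 0, 4, 2, 0, -2, 2, 0, 0],
     [-2, -2, 0, 2, 0, 2, 2, -2, -2, 0, -2, -2, -2, -2, 0, 0, -2, 2, 0, -2, 0, 0, 2, 2],
     [0, 0, 2, 0, -2, -4, 0, 0, 0, -2, 0, 0, 0, 0, 2, -2, 0, 0, 2, 0, 2, -2, 0, 4]],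
    [[5, 1, 1, 1, -1, 1, 1, 1, -1, -3, -3, 1, 1, 1, -1, -1, -1, 1, 1, 1, 1, -1, -1, -1],
     [-1, 3, 3, -1, 1, -1, -1, -1, 1, -1, -1, -1, -1, -1, 1, -3, 1, -1, -1, -1, 3, 1, 1, -3],
     [1, 1, 1, 1, 3, 1, 1, -3, -1, 1, 1, 1, 1, -3, -1, -1, -1, 1, 1, -3, 1, -1, -1, 3],
     [-1, -1, -1, 3, 1, -1, -1, -1, 1, -1, -1, -1, -1, 3, 1, -3, 1, -1, 3, -1, -1, -3, 1, 1],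
     [1, 1, 1, 1, 3, 1, -3, 1, 3, 1, 1, 1, 1, 1, 3, 3, -1, 1, 1, 1, 1, -1, -1, -1],
     [1, 1, 1, 1, -1, 1, 1, 1, -1, 1, 1, 1, -3, 1, -1, 3, -1, -3, 1, -3, 1, -1, 3, -1],
     [-1, -1, -1, -1, 1, 3, 3, -1, 1, -1, -1, -1, 3, 3, 1, 1, 1, -1, -1, -1, 3, 1, 1, 1],
     [-1, -1, 3, -1, 1, -1, -1, -1, -3, -1, -1, 3, -1, 3, 1, 1, 1, -1, -1, -1, -1, 1, -3, 1],
     [-1, -1, 3, 3, 1, -1, 3, 3, 1, -1, -1, -1, -1, -1, 1, 1, 1, 3, -1, -1, -1, 1, 1, 1],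
     [-3, 1, 1, 1, -1, 1, 1, 1, -1, 5, -3, 1, 1, 1, -1, -1, -1, 1, 1, 1, 1, -1, -1, -1],
     [-3, 1, 1, 1, -1, 1, 1, 1, -1, -3, 5, 1, 1, 1, -1, -1, -1, 1, 1, 1, 1, -1, -1, -1],
     [-1, -1, -1, -1, 1, -1, -1, 3, 1, -1, -1, -1, -1, -1, -3, 1, 1, -1, 3, -1, 3, 1, -3, 1],
     [-1, -1, 3, -1, -3, -1, -1, -1, 1, -1, -1, -1, 3, -1, 1, 1, -3, -1, 3, -1, -1, 1, 1, 1],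
     [1, -3, 1, 1, -1, 1, 1, -3, 3, 1, 1, 1, -3, 1, -1, -1, -1, 1, 1, 1, 1, 3, -1, -1],
     [-1, 3, -1, -1, 1, -1, 3, -1, 1, -1, -1, 3, -1, -1, 1, 1, 1, -1, 3, 3, -1, 1, 1, 1],
     [-1, -1, -1, -1, 1, -1, 3, -1, 1, -1, -1, -1, -1, -1, 1, 1, -3, -1, -1, -1, -1, -3, -3, -3],
     [-1, 3, -1, 3, -3, 3, -1, -1, 1, -1, -1, -1, -1, -1, 1, 1, 1, -1, -1, -1, -1, 1, -3, 1],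
     [-1, 3, -1, -1, 1, -1, -1, -1, 1, -1, -1, -1, -1, 3, -3, 1, -3, 3, -1, -1, -1, 1, 1, 1],
     [1, 1, 1, 1, 3, 1, 1, 1, -1, 1, 1, -3, 1, 1, -1, -1, -1, -3, 1, 1, -3, 3, -1, -1],
     [-1, -1, -1, 3, 1, -1, -1, -1, -3, -1, -1, -1, -1, -1, 1, 1, -3, -1, -1, 3, 3, 1, 1, 1],
     [1, 1, 1, -3, -1, 1, 1, 1, -1, 1, 1, -3, -3, 1, 3, -1, -1, 1, 1, 1, 1, -1, -1, 3],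
     [1, 1, -3, 1, -1, -3, 1, 1, -1, 1, 1, 1, 1, 1, 3, -1, -1, 1, 1, -3, 1, 3, -1, -1],
     [1, 1, 1, 1, -1, -3, 1, -3, -1, 1, 1, -3, 1, 1, -1, 3, 3, 1, 1, 1, 1, -1, -1, -1],
     [1, 1, 1, 1, -1, -3, 1, 1, 3, 1, 1, 1, 1, 1, -1, -1, -1, -3, -3, 1, 1, -1, -1, 3]],
    [[5, -1, 1, -1, -1, -1, -1, -1, 1, -3, -1, -1, 1, -1, 1, -1, -1, 1, -1, -1, -3, -1, -1, -1],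
     [1, 3, 1, -1, -1, -1, -1, -1, 1, 1, -1, 3, -3, -1, 1, -1, 3, 1, -1, -1, 1, -1, 3, -1],
     [1, -1, 1, -1, 3, 3, -1, -1, 1, 1, -1, -1, 1, -1, -3, -1, 3, 1, -1, -1, 1, -1, -1, 3],
     [-1, 1, 3, 1, 1, 1, 1, 1, 3, -1, 1, 1, 3, 1, 3, 1, 1, 3, 1, 1, -1, 1, 1, 1],
     [1, -1, 1, 3, 3, -1, -1, 3, 1, 1, -1, -1, -3, -1, 1, 3, -1, 1, -1, -1, 1, -1, -1, -1],
     [-1, 1, -1, 1, 1, 1, 1, 1, -1, -1, 1, 1, 3, 1, -1, 1, 1, -1, -3, -3, -1, -3, 1, -3],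
     [-1, -3, -1, 1, -3, 1, 1, 1, 3, -1, 1, 1, -1, -3, -1, 1, 1, -1, -3, 1, -1, 1, 1, 1],
     [-1, -3, 3, 1, 1, 1, 1, 1, -1, -1, -3, 1, -1, 1, -1, -3, 1, -1, 1, 1, -1, 1, 1, -3],
     [-1, 1, -1, 1, 1, -3, 1, 1, 3, -1, 1, 1, -1, 1, -1, -3, 1, -1, 1, 1, -1, -3, -3, 1],
     [-3, -1, 1, -1, -1, -1, -1, -1, 1, 5, -1, -1, 1, -1, 1, -1, -1, 1, -1, -1, -3, -1, -1, -1],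
     [1, -1, 1, -1, -1, 3, 3, -1, 1, 1, 3, -1, -3, 3, 1, -1, -1, 1, -1, -1, 1, -1, -1, -1],
     [1, -1, -3, 3, -1, 3, -1, -1, 1, 1, -1, 3, 1, -1, 1, -1, -1, 1, 3, -1, 1, -1, -1, -1],
     [1, -1, 1, -1, -1, -1, 3, 3, -3, 1, -1, 3, 1, -1, 1, -1, -1, 1, -1, -1, 1, -1, -1, 3],
     [-1, -3, -1, 1, 1, -3, 1, -3, -1, -1, 1, 1, -1, 1, -1, 1, 1, 3, 1, -3, -1, 1, 1, 1],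
     [-1, 1, -1, 1, 1, 1, 1, -3, -1, -1, -3, 1, -1, 1, 3, 1, 1, -1, -3, 1, -1, 1, -3, 1],
     [-1, -3, -1, -3, 1, 1, -3, 1, -1, -1, 1, 1, -1, 1, 3, 1, 1, -1, 1, 1, -1, -3, 1, 1],
     [-1, 1, -1, 1, 1, 1, 1, 1, -1, -1, 1, -3, -1, -3, 3, -3, 1, -1, 1, -3, -1, 1, 1, 1],
     [-1, 1, -1, 1, 1, 1, -3, 1, -1, -1, 1, 1, -1, 1, -1, -3, -3, 3, -3, 1, -1, 1, 1, 1],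
     [-1, 1, -1, -3, 1, 1, 1, 1, 3, -1, -3, 1, -1, 1, -1, 1, -3, -1, 1, -3, -1, 1, 1, 1],
     [1, -1, -3, -1, 3, -1, 3, -1, 1, 1, -1, -1, 1, -1, 1, -1, -1, 1, -1, 3, 1, -1, 3, -1],
     [-1, 1, -1, 1, -3, 1, 1, 1, -1, -1, -3, -3, -1, 1, -1, 1, 1, 3, 1, 1, -1, -3, 1, 1],
     [1, -1, -3, -1, -1, -1, -1, 3, 1, 1, -1, -1, 1, 3, 1, -1, 3, 1, -1, -1, 1, 3, -1, -1],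
     [-3, -1, 1, -1, -1, -1, -1, -1, 1, -3, -1, -1, 1, -1, 1, -1, -1, 1, -1, -1, 5, -1, -1, -1],
     [1, -1, 1, 3, -1, -1, -1, -1, 1, 1, -1, -1, 1, 3, 1, -1, -1, -3, -1, -1, 1, -1, 3, 3]],
    [[2, 2, -2, 0, -4, 0, 0, -2, 0, 2, -2, -2, 0, -2, 0, -2, 0, -2, 0, 2, 0, 2, 0, 0],
     [2, 2, 2, 0, 0, 0, 0, 2, 0, -2, -2, -2, -4, -2, 0, -2, 0, 2, 0, -2, 0, -2, 0, 0],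
     [-2, 2, 2, 0, 0, 0, 0, -2, 0, 2, -2, 2, 0, 2, 0, -2, 0, -2, -4, -2, 0, -2, 0, 0],
     [0, 0, 0, 2, 2, 2, 2, 0, 2, 0, 0, 0, 2, 0, 2, -4, -2, 0, 2, 0, 2, 0, 2, 2],
     [2, -2, 2, 0, 0, 0, 0, -2, 0, 2, -2, 2, 0, -2, 0, 2, 0, 2, 0, 2, 0, -2, 0, 4],
     [0, 0, 0, 2, -2, 2, 2, 0, -2, 0, 0, 0, 2, 0, -2, 0, 2, 0, 2, 0, 2, -4, -2, -2],
     [0, -4, 0, 2, -2, 2, 2, 0, 2, 0, 0, 0, -2, 0, 2, 0, 2, 0, -2, 0, -2, 0, 2, -2],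
     [0, 0, 0, 2, -2, 2, -2, 4, -2, 0, 0, 0, 2, 0, 2, 0, -2, 0, -2, 0, -2, 0, -2, 2],
     [0, 0, 0, 2, 2, -2, 2, 0, 2, 0, 0, -4, 2, 0, -2, 0, 2, 0, -2, 0, -2, 0, -2, 2],
     [0, 0, 0, 2, 2, 2, -2, 0, 2, 4, 0, 0, -2, 0, -2, 0, -2, 0, 2, 0, -2, 0, -2, -2],
     [0, 0, 0, -2, -2, 2, 2, 0, 2, 0, 4, 0, -2, 0, -2, 0, -2, 0, -2, 0, 2, 0, -2, 2],
     [-2, -2, 2, 0, 0, 0, 0, 2, 0, -2, -2, 2, 0, -2, -4, -2, 0, -2, 0, 2, 0, 2, 0, 0],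
     [-2, 2, -2, 0, 0, 0, 4, 2, 0, 2, -2, 2, 0, -2, 0, 2, 0, 2, 0, -2, 0, 2, 0, 0],
     [0, 0, 0, 2, -2, -2, 2, 0, -2, 0, 0, 0, -2, 4, -2, 0, -2, 0, 2, 0, -2, 0, 2, 2],
     [2, 2, -2, 0, 0, 0, 0, 2, 4, -2, -2, 2, 0, 2, 0, 2, 0, -2, 0, 2, 0, -2, 0, 0],
     [-2, -2, -2, 0, 0, 0, 0, -2, 0, -2, -2, -2, 0, -2, 0, 2, -4, -2, 0, -2, 0, -2, 0, 0],
     [2, 2, 2, 4, 0, 0, 0, -2, 0, -2, 2, 2, 0, -2, 0, 2, 0, -2, 0, -2, 0, 2, 0, 0],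
     [0, 0, 0, 2, -2, -2, -2, 0, 2, 0, 0, 0, 2, 0, -2, 0, -2, 4, -2, 0, 2, 0, 2, -2],
     [2, -2, 2, 0, 0, 0, 0, 2, 0, 2, -2, -2, 0, 2, 0, 2, 0, -2, 0, -2, 4, 2, 0, 0],
     [0, 0, 0, 2, 2, -2, 2, 0, -2, 0, 0, 0, -2, 0, 2, 0, -2, 0, -2, 4, 2, 0, -2, -2],
     [0, 0, -4, 2, 2, 2, -2, 0, -2, 0, 0, 0, -2, 0, -2, 0, 2, 0, -2, 0, 2, 0, 2, 2],
     [2, -2, -2, 0, 0, 0, 0, -2, 0, -2, -2, 2, 0, 2, 0, -2, 0, 2, 0, -2, 0, 2, -4, 0],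
     [-2, 2, 2, 0, 0, 4, 0, -2, 0, -2, -2, -2, 0, 2, 0, 2, 0, 2, 0, 2, 0, 2, 0, 0],
     [-4, 0, 0, 2, -2, -2, -2, 0, 2, 0, 0, 0, -2, 0, 2, 0, 2, 0, 2, 0, 2, 0, -2, 2]],
    [[0, 2, 0, -2, -2, -2, 0, 0, 0, 2, 2, 0, 2, 0, 2, 0, 2, -2, -2, 4, 0, 0, 0, 2],
     [2, 0, 2, 0, 0, 0, -2, 2, 2, 0, 0, -2, 0, 2, 0, 2, 0, 4, 0, 2, 2, 2, -2, 0],
     [0, 2, -4, 2, -2, -2, 0, 0, 0, 2, -2, 0, -2, 0, -2, 0, -2, 2, -2, 0, 0, 0, 0, 2],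
     [2, 0, -2, 0, 0, 0, -2, 2, -2, 0, 0, 2, 4, -2, 0, -2, 0, 0, 0, -2, 2, 2, -2, 0],
     [0, -2, 0, 2, -2, 2, 0, 0, 0, -2, 2, -4, 2, 0, -2, 0, -2, -2, -2, 0, 0, 0, 0, 2],
     [-2, 0, 2, 0, 0, 0, -2, 2, 2, 0, 0, 2, 0, -2, 0, -2, -4, 0, 0, 2, 2, -2, 2, 0],
     [0, -2, 0, 2, 2, 2, 0, 0, 0, 2, 2, 0, -2, 0, 2, -4, 2, 2, -2, 0, 0, 0, 0, 2],
     [0, 2, 0, -2, 2, 2, 4, 0, 0, -2, -2, 0, 2, 0, 2, 0, -2, 2, -2, 0, 0, 0, 0, 2],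
     [2, 0, -2, 0, 0, 0, 2, -2, 2, 0, 0, -2, 0, -2, 0, -2, 0, 0, 4, 2, 2, -2, -2, 0],
     [0, 2, 0, 2, 2, -2, 0, 0, 0, -2, 2, 0, -2, 0, 2, 0, -2, -2, -2, 0, 0, 0, -4, -2],
     [0, -2, 0, -2, 2, -2, 0, -4, 0, 2, 2, 0, 2, 0, -2, 0, -2, 2, -2, 0, 0, 0, 0, -2],
     [0, -2, 0, 2, -2, -2, 0, 0, 0, -2, -2, 0, 2, 0, 2, 0, 2, 2, -2, 0, 0, -4, 0, -2],
     [-2, 0, -2, 0, 0, 0, 2, 2, -2, 0, 0, -2, 0, 2, 0, -2, 0, 0, 0, 2, 2, 2, 2, -4],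
     [0, -2, 0, -2, 2, -2, 0, 0, 0, -2, -2, 0, -2, 0, -2, 0, 2, -2, -2, 0, 4, 0, 0, 2],
     [2, 0, -2, 0, 0, 0, 2, 2, 2, 0, 4, 2, 0, 2, 0, 2, 0, 0, 0, -2, 2, -2, 2, 0],
     [0, -2, 0, 2, 2, -2, 0, 0, 0, 2, -2, 0, 2, 4, 2, 0, -2, -2, 2, 0, 0, 0, 0, 2],
     [2, 0, -2, 0, 4, 0, -2, 2, -2, 0, 0, -2, 0, -2, 0, 2, 0, 0, 0, 2, -2, -2, 2, 0],
     [2, 0, 2, 4, 0, 0, 2, -2, -2, 0, 0, 2, 0, -2, 0, 2, 0, 0, 0, 2, 2, 2, 2, 0],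
     [0, -2, 0, -2, -2, -2, 0, 0, -4, -2, 2, 0, -2, 0, 2, 0, -2, 2, 2, 0, 0, 0, 0, 2],
     [-2, -4, -2, 0, 0, 0, 2, 2, 2, 0, 0, 2, 0, -2, 0, 2, 0, 0, 0, 2, -2, 2, -2, 0],
     [-4, 2, 0, 2, 2, -2, 0, 0, 0, -2, 2, 0, 2, 0, -2, 0, 2, 2, 2, 0, 0, 0, 0, 2],
     [2, 0, -2, 0, 0, 0, -2, -2, 2, -4, 0, 2, 0, 2, 0, -2, 0, 0, 0, 2, -2, 2, 2, 0],
     [-2, 0, -2, 0, 0, 4, -2, -2, -2, 0, 0, 2, 0, 2, 0, 2, 0, 0, 0, 2, 2, -2, -2, 0],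
     [-2, 0, -2, 0, 0, 0, -2, -2, 2, 0, 0, -2, 0, -2, 4, 2, 0, 0, 0, -2, 2, 2, 2, 0]],
    [[-1, 1, 1, -1, -3, -3, -1, -1, -3, 1, 1, 1, 1, -1, 1, 1, 1, -3, -1, -1, 3, 1, 1, 1],
     [1, -1, 3, 1, -1, -1, 1, 1, 3, -1, -1, 3, -1, 1, 3, -1, -1, -1, 1, -3, 1, -1, -1, -1],
     [-1, -3, -3, -1, -3, 1, -1, -1, 1, 1, 1, 1, 1, -1, 1, -3, 1, 1, 3, -1, -1, 1, 1, 1],
     [-1, -3, 1, -1, 1, 1, -1, -1, 1, 1, 1, 1, 1, -1, 1, 1, -3, -3, -1, 3, -1, 1, -3, 1],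
     [1, -1, 3, 1, -1, -1, 1, 1, -1, -1, -1, -1, 3, 1, -1, -1, 3, -1, 1, 1, -3, -1, -1, 3],
     [1, 3, -1, 1, -1, -1, 1, 1, 3, -1, 3, -1, -1, -3, -1, -1, -1, -1, 1, 1, 1, -1, -1, 3],
     [-1, 1, 1, -1, 1, 1, -1, -1, 1, 1, 1, 1, -3, 3, -3, -3, 1, -3, -1, -1, -1, 1, 1, 1],
     [1, -1, -1, 1, -1, -1, 1, -3, -1, -1, -1, -1, -1, -3, -1, -1, -1, -1, -3, -3, -3, -1, -1, -1],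
     [1, -1, -1, 1, -1, 3, 1, 1, -1, 3, -1, -1, -1, 1, -1, 3, -1, -1, 1, -3, 1, -1, -1, 3],
     [-1, 1, 1, -1, 1, 1, -1, -1, -3, -3, 1, 1, -3, -1, 1, 1, 1, 1, 3, -1, -1, 1, -3, 1],
     [-1, 1, 1, -1, 1, -3, -1, -1, 1, 1, -3, 1, 1, -1, -3, 1, -3, 1, 3, -1, -1, 1, 1, 1],
     [3, 1, 1, -5, 1, 1, 3, -1, 1, 1, 1, 1, 1, -1, 1, 1, 1, 1, -1, -1, -1, 1, 1, 1],
     [1, 3, -1, 1, -1, -1, 1, 1, -1, 3, -1, -1, -1, 1, 3, -1, -1, -1, 1, 1, -3, 3, -1, -1],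
     [-1, 1, 1, -1, 1, 1, -1, 3, -3, 1, 1, 1, 1, -1, 1, -3, -3, 1, -1, -1, -1, -3, 1, 1],
     [1, -1, -1, 1, 3, -1, 1, 1, -1, -1, 3, -1, 3, 1, -1, -1, -1, -1, 1, -3, 1, 3, -1, -1],
     [1, -1, 3, 1, -1, 3, 1, 1, -1, -1, -1, -1, -1, -3, -1, -1, -1, -1, 1, 1, 1, 3, 3, -1],
     [1, -1, -1, 1, -1, -1, 1, 1, -1, -1, 3, 3, -1, 1, -1, 3, -1, -1, 1, 1, -3, -1, 3, -1],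
     [1, -1, 3, 1, -1, -1, 1, -3, -1, 3, 3, -1, -1, 1, -1, -1, -1, 3, 1, 1, 1, -1, -1, -1],
     [1, -1, -1, 1, -1, -1, 1, 1, -1, -1, -1, 3, -1, 1, -1, -1, -1, 3, -3, 1, 1, 3, -1, 3],
     [-1, -3, 1, -1, 1, -3, -1, 3, 1, 1, 1, -3, -3, -1, 1, 1, 1, 1, -1, -1, -1, 1, 1, 1],
     [-1, 1, 1, -1, -3, 1, -1, 3, 1, 1, 1, 1, 1, -1, -3, 1, 1, 1, -1, -1, -1, 1, -3, -3],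
     [3, 1, 1, 3, 1, 1, -5, -1, 1, 1, 1, 1, 1, -1, 1, 1, 1, 1, -1, -1, -1, 1, 1, 1],
     [1, -1, -1, 1, 3, -1, 1, 1, -1, 3, -1, 3, -1, -3, -1, -1, 3, -1, 1, 1, 1, -1, -1, -1],
     [-5, 1, 1, 3, 1, 1, 3, -1, 1, 1, 1, 1, 1, -1, 1, 1, 1, 1, -1, -1, -1, 1, 1, 1]],
    [[0, 2, -2, 2, 0, 2, 0, 2, -2, -2, -2, 0, 0, 2, 0, -2, 2, 2, 0, 2, 0, 2, 2, -2],
     [2, 4, 0, 0, -2, 0, -2, 0, 4, 0, 0, -2, -2, 0, -2, 0, 0, 0, -2, 0, 2, 0, 0, 0],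
     [0, 2, 2, 2, 0, 2, 0, 2, -2, 2, -2, 0, 0, -2, 0, 2, 2, 2, 0, -2, 0, -2, -2, 2],
     [-2, 0, 0, 0, 2, 0, 2, 0, 0, 0, 0, 2, -2, 0, -2, 0, 0, 0, -2, 0, 2, 4, -4, 0],
     [0, -2, -2, -2, 0, 2, 0, 2, 2, 2, -2, 0, 0, -2, 0, -2, -2, 2, 0, 2, 0, -2, -2, -2],
     [-2, 0, 0, 0, -2, 4, -2, 0, 0, 0, 4, 2, -2, 0, 2, 0, 0, 0, -2, 0, -2, 0, 0, 0],
     [-2, 0, 0, 0, -2, 0, 2, 4, 0, 0, 0, -2, -2, 0, 2, 0, 0, -4, 2, 0, 2, 0, 0, 0],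
     [0, -2, 2, 2, 0, -2, 0, 2, 2, -2, 2, 0, 0, 2, 0, -2, 2, 2, 0, 2, 0, -2, -2, 2],
     [2, 0, 0, 0, -2, 0, 2, 0, 0, 4, 0, 2, 2, 4, 2, 0, 0, 0, -2, 0, 2, 0, 0, 0],
     [-2, 0, 0, 0, 2, 0, -2, 0, 0, 4, 0, -2, -2, 4, -2, 0, 0, 0, 2, 0, -2, 0, 0, 0],
     [2, 0, 0, 0, 2, 4, 2, 0, 0, 0, 4, -2, 2, 0, -2, 0, 0, 0, 2, 0, 2, 0, 0, 0],
     [2, 0, 0, 0, 2, 0, -2, 4, 0, 0, 0, 2, 2, 0, -2, 0, 0, -4, -2, 0, -2, 0, 0, 0],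
     [-2, 0, -4, 0, -2, 0, -2, 0, 0, 0, 0, 2, 2, 0, -2, 0, 0, 0, 2, 0, 2, 0, 0, 4],
     [-2, 4, 0, 0, 2, 0, 2, 0, 4, 0, 0, 2, 2, 0, 2, 0, 0, 0, 2, 0, -2, 0, 0, 0],
     [2, 0, -4, 0, 2, 0, 2, 0, 0, 0, 0, -2, -2, 0, 2, 0, 0, 0, -2, 0, -2, 0, 0, 4],
     [-2, 0, 0, 0, -2, 0, 2, 0, 0, 0, 0, -2, 2, 0, -2, 4, 0, 0, -2, 4, -2, 0, 0, 0],
     [2, 0, 0, -4, -2, 0, 2, 0, 0, 0, 0, 2, -2, 0, -2, 0, 4, 0, 2, 0, -2, 0, 0, 0],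
     [0, 2, 2, -2, 0, -2, 0, 2, -2, 2, 2, 0, 0, -2, 0, -2, -2, 2, 0, 2, 0, 2, 2, 2],
     [0, -2, -2, 2, 0, -2, 0, 2, 2, 2, 2, 0, 0, -2, 0, 2, 2, 2, 0, -2, 0, 2, 2, -2],
     [2, 0, 0, 0, 2, 0, -2, 0, 0, 0, 0, 2, -2, 0, 2, 4, 0, 0, 2, 4, 2, 0, 0, 0],
     [0, 2, -2, -2, 0, -2, 0, 2, -2, -2, 2, 0, 0, 2, 0, 2, -2, 2, 0, -2, 0, -2, -2, -2],
     [2, 0, 0, 0, -2, 0, -2, 0, 0, 0, 0, -2, 2, 0, 2, 0, 0, 0, 2, 0, -2, 4, -4, 0],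
     [-2, 0, 0, -4, 2, 0, -2, 0, 0, 0, 0, -2, 2, 0, 2, 0, 4, 0, -2, 0, 2, 0, 0, 0],
     [0, -2, 2, -2, 0, 2, 0, 2, 2, -2, -2, 0, 0, 2, 0, 2, -2, 2, 0, -2, 0, 2, 2, 2]],
    [[-1, 1, -3, -1, 1, 1, 1, -1, -1, -1, -1, -1, -3, 3, 1, 1, 3, -1, 1, 1, 1, 3, 1, -1],
     [1, -1, -1, 1, -1, -1, 3, 1, 1, -3, 1, 1, -1, 1, -1, -1, 1, -3, -1, -1, -1, -3, 3, 1],
     [-3, -1, -1, 1, -1, 3, -1, 1, 1, 1, 1, -3, -1, 1, 3, -1, 1, 1, -1, -1, -1, -3, -1, 1],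
     [-1, 1, 1, 3, 5, 1, 1, -1, -1, -1, -1, -1, 1, -1, 1, -3, -1, -1, 1, 1, 1, -1, 1, -1],
     [1, -1, -1, 5, 3, -1, -1, 1, 1, 1, 1, 1, -1, 1, -1, 3, 1, 1, -1, -1, -1, 1, -1, 1],
     [1, -1, 3, 1, -1, 3, -1, 1, 1, 1, 1, 1, -1, 1, -1, -1, 1, 1, -1, -1, 3, 1, 3, -3],
     [1, 3, -1, 1, -1, -1, -1, 1, -3, 1, -3, 1, -1, 1, -1, -1, 1, 1, -1, -1, 3, -3, -1, 1],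
     [-1, 1, 1, -1, 1, 1, 1, -1, -1, -1, -1, 3, 1, 3, 1, 1, -1, 3, -3, 1, -3, -1, 1, -1],
     [-1, 1, 1, -1, 1, 1, -3, -1, 3, -1, -1, 3, -3, -1, 1, 1, -1, -1, 1, 1, 1, -1, 1, 3],
     [-1, -3, 1, -1, 1, 1, 1, -1, -1, 3, -1, -1, 1, 3, -3, 1, -1, -1, 1, 1, 1, -1, 1, 3],
     [-1, 1, 1, -1, 1, 1, -3, -1, -1, -1, -1, -1, 1, -1, -3, 1, 3, -1, 1, -3, -3, -1, 1, -1],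
     [-1, 1, -3, -1, 1, 1, 1, 3, 3, -1, -1, -1, 1, -1, -3, 1, -1, 3, 1, 1, 1, -1, 1, -1],
     [-3, -1, -1, 1, -1, -1, -1, 1, -3, 1, 1, 1, -1, -3, -1, -1, 1, 1, -1, 3, -1, 1, 3, 1],
     [3, 1, 1, -1, 1, 1, 1, 3, -1, 3, -1, -1, -3, -1, 1, 1, -1, -1, 1, 1, -3, -1, 1, -1],
     [1, -1, 3, 1, -1, -1, -1, 1, 1, -3, -3, -3, -1, 1, -1, -1, 1, 1, -1, 3, -1, 1, -1, 1],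
     [1, -1, -1, -3, 3, -1, -1, 1, 1, 1, 1, 1, -1, 1, -1, -5, 1, 1, -1, -1, -1, 1, -1, 1],
     [3, 1, 1, -1, 1, 1, 1, -1, -1, -1, 3, -1, 1, -1, 1, 1, 3, 3, 1, 1, 1, -1, 1, 3],
     [-1, -3, 1, -1, 1, 1, 1, 3, -1, -1, -1, 3, 1, -1, 1, 1, 3, -1, 1, 1, 1, -1, -3, -1],
     [1, -1, -1, 1, -1, -1, -1, -3, 1, 1, 1, 1, -1, 1, -1, -1, 1, 1, 3, 3, -1, -3, -1, -3],
     [1, -1, -1, 1, -1, -1, -1, 1, 1, 1, -3, 1, 3, 1, 3, -1, 1, 1, 3, -1, -1, 1, 3, 1],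
     [1, -1, -1, 1, -1, 3, 3, -3, 1, 1, -3, 1, -1, -3, -1, -1, 1, 1, -1, -1, -1, 1, -1, 1],
     [3, -3, -3, -1, 1, 1, -3, -1, -1, -1, -1, -1, 1, -1, 1, 1, -1, -1, -3, 1, 1, -1, 1, -1],
     [1, 3, -1, 1, -1, 3, -1, 1, 1, 1, 1, 1, 3, 1, -1, -1, 1, -3, -1, 3, -1, 1, -1, 1],
     [-1, 1, 1, -1, 1, -3, 1, -1, 3, 3, -1, -1, 1, -1, 1, 1, 3, -1, -3, 1, 1, -1, 1, -1]],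
    [[1, -1, 1, -1, 1, -1, -3, 1, -1, -1, 1, 1, -1, 1, -3, 1, -3, 1, 1, 1, -1, -3, 1, 3],
     [-3, -1, 1, -1, 1, -1, 1, 1, -1, 3, -3, 1, -1, 1, -3, 1, 1, 1, 1, 1, -1, 1, -3, -1],
     [1, -1, 1, 3, 1, -1, 1, 1, -1, -1, 1, -3, 3, 1, 1, 1, 1, 1, 1, 1, -1, 1, -3, 3],
     [1, -1, 1, -1, -3, -1, -3, 1, 3, -1, 1, 1, -1, 1, 1, -3, 1, 1, 1, 1, -1, 1, -3, -1],
     [1, -1, -3, -1, 1, 3, 1, 1, -1, -1, 1, 1, -1, 1, 1, 1, 1, 1, 1, -3, -1, -3, -3, -1],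
     [1, 3, 1, -1, 1, -1, 1, 1, -1, -1, 1, 1, -1, -3, 1, 1, -3, -3, 1, 1, -1, 1, -3, -1],
     [3, 1, -1, 1, -1, -3, -1, -1, -3, 1, -1, -1, -3, -1, -1, -1, 3, -1, -1, -1, 1, -1, -1, 1],
     [1, -1, -3, -1, 1, -1, 1, 1, 3, -1, 1, -3, -1, -3, -3, 1, 1, 1, 1, 1, -1, 1, 1, -1],
     [1, -1, 1, -1, 1, -1, 1, -3, -1, -1, 1, 1, -1, 1, 1, 1, 1, 1, 5, 1, 3, 1, 1, -1],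
     [-3, -1, -3, -1, -3, -1, 1, 1, -1, -1, 1, 1, -1, 1, 1, 1, 1, -3, 1, 1, -1, 1, 1, 3],
     [-1, 1, -1, 1, -1, -3, -1, -1, 1, -3, -1, -1, 1, 3, -1, 3, -1, -1, -1, -1, 1, -1, -1, -3],
     [1, -1, 1, -1, 1, -1, 1, -3, -1, -1, 1, 1, -1, 1, 1, 1, 1, 1, -3, 1, -5, 1, 1, -1],
     [3, 1, -1, -3, -1, 1, 3, -1, 1, 1, -1, -1, 1, 3, -1, -1, -1, -1, -1, 3, 1, -1, -1, 1],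
     [1, -1, 1, -1, 1, -1, 1, 5, -1, -1, 1, 1, -1, 1, 1, 1, 1, 1, -3, 1, 3, 1, 1, -1],
     [-3, 3, 1, -1, 1, -1, 1, 1, -1, -1, 1, -3, -1, 1, 1, -3, 1, 1, 1, 1, -1, -3, 1, -1],
     [1, -1, -3, 3, 1, -1, 1, 1, -1, -1, -3, 1, -1, 1, 1, -3, -3, 1, 1, 1, -1, 1, 1, -1],
     [-1, 1, -1, 1, -1, 1, -1, -1, 1, 1, -1, -1, -3, -1, 3, 3, -1, 3, -1, 3, 1, -1, -1, 1],
     [1, -1, 1, 3, 1, -1, 1, 1, 3, 3, 1, 1, -1, 1, 1, 1, 1, -3, 1, 1, -1, -3, 1, -1],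
     [-1, 1, -1, 1, 3, 1, -1, -1, 1, -3, -1, 3, 1, -1, -1, -1, 3, -1, -1, 3, 1, -1, -1, 1],
     [-1, -3, -1, -3, 3, -3, -1, -1, 1, 1, -1, -1, 1, -1, 3, -1, -1, -1, -1, -1, 1, -1, -1, 1],
     [-1, 1, -1, 1, -1, -3, 3, -1, 1, 1, 3, 3, 1, -1, -1, -1, -1, 3, -1, -1, 1, -1, -1, 1],
     [1, 3, -3, -1, 1, -1, -3, 1, -1, 3, 1, 1, 3, 1, 1, 1, 1, 1, 1, 1, -1, 1, 1, -1],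
     [-1, -3, -1, 1, -1, 1, -1, -1, -3, 1, 3, -1, 1, -1, -1, -1, -1, -1, -1, 3, 1, -1, -1, -3],
     [1, -1, 1, -1, -3, -1, 1, 1, -1, -1, -3, 1, 3, -3, 1, 1, 1, 1, 1, 1, -1, -3, 1, -1]],
    [[-6, 0, 0, 0, 0, 0, 0, 2, 0, 2, 0, 0, 0, 0, 2, 2, 0, 2, 0, 0, 0, 2, 0, 2],
     [0, -2, 2, 2, -2, -2, 2, 0, -2, 0, 2, 2, 2, 2, 0, 0, -2, 0, 2, -2, -2, 0, -2, 0],
     [0, 2, -2, 2, -2, -2, 2, 0, 2, 0, -2, 2, -2, -2, 0, 0, 2, 0, 2, -2, 2, 0, -2, 0],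
     [0, 2, -2, 2, 2, -2, 2, 0, -2, 0, -2, -2, 2, 2, 0, 0, -2, 0, -2, -2, 2, 0, 2, 0],
     [0, -2, -2, -2, -2, -2, 2, 0, -2, 0, 2, -2, 2, -2, 0, 0, 2, 0, 2, 2, 2, 0, 2, 0],
     [0, 2, 2, 2, -2, 2, -2, 0, -2, 0, -2, -2, 2, -2, 0, 0, 2, 0, 2, -2, -2, 0, 2, 0],
     [-2, 0, 0, 0, 0, 0, 0, -2, 0, -2, 0, 0, 0, 0, -2, -2, 0, 6, 0, 0, 0, -2, 0, -2],
     [2, 0, 0, 0, 0, 0, 0, -6, 0, 2, 0, 0, 0, 0, 2, 2, 0, 2, 0, 0, 0, 2, 0, 2],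
     [0, 2, 2, -2, 2, -2, 2, 0, -2, 0, -2, 2, 2, -2, 0, 0, 2, 0, -2, 2, -2, 0, -2, 0],
     [2, 0, 0, 0, 0, 0, 0, 2, 0, -6, 0, 0, 0, 0, 2, 2, 0, 2, 0, 0, 0, 2, 0, 2],
     [0, 2, 2, -2, -2, -2, -2, 0, 2, 0, 2, -2, 2, 2, 0, 0, 2, 0, -2, -2, 2, 0, -2, 0],
     [0, 2, 2, -2, -2, -2, 2, 0, 2, 0, -2, -2, -2, 2, 0, 0, -2, 0, 2, 2, -2, 0, 2, 0],
     [2, 0, 0, 0, 0, 0, 0, 2, 0, 2, 0, 0, 0, 0, 2, 2, 0, 2, 0, 0, 0, 2, 0, -6],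
     [0, 2, -2, -2, -2, 2, -2, 0, -2, 0, -2, 2, 2, 2, 0, 0, -2, 0, 2, 2, 2, 0, -2, 0],
     [2, 0, 0, 0, 0, 0, 0, 2, 0, 2, 0, 0, 0, 0, 2, 2, 0, 2, 0, 0, 0, -6, 0, 2],
     [0, 2, 2, 2, -2, 2, 2, 0, -2, 0, 2, -2, -2, -2, 0, 0, -2, 0, -2, 2, 2, 0, -2, 0],
     [2, 0, 0, 0, 0, 0, 0, 2, 0, 2, 0, 0, 0, 0, -6, 2, 0, 2, 0, 0, 0, 2, 0, 2],
     [0, -2, -2, 2, -2, 2, 2, 0, 2, 0, -2, -2, 2, 2, 0, 0, 2, 0, -2, 2, -2, 0, -2, 0],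
     [0, -2, 2, 2, -2, -2, -2, 0, -2, 0, -2, 2, -2, 2, 0, 0, 2, 0, -2, 2, 2, 0, 2, 0],
     [-2, 0, 0, 0, 0, 0, 0, -2, 0, -2, 0, 0, 0, 0, -2, 6, 0, -2, 0, 0, 0, -2, 0, -2],
     [0, -2, 2, -2, 2, 2, 2, 0, -2, 0, -2, -2, -2, 2, 0, 0, 2, 0, 2, -2, 2, 0, -2, 0],
     [0, -2, 2, 2, 2, -2, -2, 0, 2, 0, -2, -2, 2, -2, 0, 0, -2, 0, 2, 2, 2, 0, -2, 0],
     [0, 2, 2, 2, 2, 2, 2, 0, 2, 0, 2, 2, 2, 2, 0, 0, 2, 0, 2, 2, 2, 0, 2, 0],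
     [0, 2, -2, 2, 2, -2, -2, 0, -2, 0, 2, -2, -2, 2, 0, 0, 2, 0, 2, 2, -2, 0, -2, 0]]]

/-- A vector moved by the whole bottom layer. -/
def vL : List ℕ := [12, 12, 1, 1, 1, 1, 12, 12, 1, 12, 1, 12, 12, 1, 12, 1, 1, 10, 12, 1, 1, 12, 12, 12]

/-- A layer. -/
def L1 : LData 12 where
  r := 6
  idx := ![0, 1, 2, 3, 4, 5]
  s := 9
  l := 1
  killed := []
  E := ![![![1, 0, 0, 0, 0, 0], ![0, 1, 0, 0, 0, 0], ![0, 0, 1, 0, 0, 0], ![0, 0, 0, 1, 0, 0], ![0, 0, 0, 0, 1, 0], ![0, 0, 0, 0, 0, 1]], ![![1, 0, 0, 0, 0, 0], ![0, 1, 0, 0, 0, 0], ![0, 0, 1, 0, 0, 0], ![0, 0, 0, 1, 0, 0], ![0, 0, 0, 0, 1, 0], ![0, 0, 0, 0, 0, 1]], ![![1, 0, 0, 0, 0, 0], ![0, 1, 0, 0, 0, 0], ![0, 0, 1, 0, 0, 0], ![0, 0, 0, 1, 0, 0], ![0, 0, 0,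 0, 1, 0], ![0, 0, 0, 0, 0, 1]], ![![1, 0, 0, 0, 0, 0], ![0, 1, 0, 0, 0, 0], ![0, 0, 1, 0, 0, 0], ![0, 0, 0, 1, 0, 0], ![0, 0, 0, 0, 1, 0], ![0, 0, 0, 0, 0, 1]], ![![1, 0, 0, 0, 0, 0], ![0, 1, 0, 0, 0, 0], ![0, 0, 1, 0, 0, 0], ![0, 0, 0, 1, 0, 0], ![0, 0, 0, 0, 1, 0], ![0, 0, 0, 0, 0, 1]], ![![1, 0, 0, 0, 0, 0], ![0, 1, 0, 0, 0, 0], ![0, 0, 1, 0, 0, 0], ![0, 0, 0, 1, 0, 0], ![0, 0, 0, 0, 1, 0], ![0, 0, 0, 0, 0, 1]], ![![1, 0, 0, 0, 0, 0], ![1, 0, 1, 0, 0, 0], ![1, 2, 2, 0, 0, 0], ![1, 0, 1, 1, 0, 0], ![1, 0, 2, 0, 1, 0], ![0, 0, 1, 0, 0, 1]], ![![0, 1, 2, 0, 0, 0], ![0, 1, 0, 0, 0, 0], ![1, 2, 2, 0, 0, 0], ![0, 2, 1, 1, 0, 0], ![0, 0, 1, 0, 1, 0], ![0, 2, 2, 0, 0, 1]], ![![1, 0, 0, 0, 0, 0], ![2, 1, 0, 0, 0, 0],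 ![2, 0, 1, 0, 0, 0], ![0, 0, 0, 0, 0, 1], ![1, 0, 0, 2, 0, 0], ![1, 0, 0, 0, 2, 0]], ![![2, 0, 0, 0, 0, 0], ![0, 2, 0, 0, 0, 0], ![0, 0, 2, 0, 0, 0], ![0, 0, 0, 2, 0, 0], ![0, 0, 0, 0, 2, 0], ![0, 0, 0, 0, 0, 2]], ![![2, 0, 0, 0, 0, 0], ![0, 2, 0, 0, 0, 0], ![2, 1, 1, 0, 0, 0], ![1, 2, 0, 1, 0, 0], ![1, 1, 0, 0, 1, 0], ![2, 2, 0, 0, 0, 1]], ![![2, 0, 0, 0, 0, 0], ![1, 1, 0, 0, 0, 0], ![0, 0, 1, 0, 0, 0], ![2, 0, 0, 0, 2, 0], ![1, 0, 0, 2, 0, 0], ![1, 0, 0, 0, 0, 1]]]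
  F := ![![2, 0, 0, 0, 0, 0], ![0, 2, 0, 0, 0, 0], ![0, 0, 2, 0, 0, 0], ![0, 0, 0, 2, 0, 0], ![0, 0, 0, 0, 2, 0], ![0, 0, 0, 0, 0, 2], ![1, 1, 0, 0, 1, 2], ![1, 0, 1, 1, 1, 2], ![0, 0, 0, 2, 1, 2], ![0, 0, 0, 0, 0, 0], ![0, 1, 2, 1, 1, 0], ![0, 1, 0, 2, 2, 0]]
  comLo := ![![[], [], [], [], [], []], ![[], [], [], [], [], []], ![[], [], [], [], [], []], ![[], [], [], [], [], []], ![[], [], [], [], [], []], ![[], [], [], [], [], []]]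
  expLo := ![[], [], [], [], [], []]
  conjLo := ![![[], [], [], [], [], []], ![[], [], [], [], [], []], ![[], [], [], [], [], []], ![[], [], [], [], [], []], ![[], [], [], [], [], []], ![[], [], [], [], [], []], ![[], [], [], [], [], []], ![[], [], [], [], [], []], ![[], [], [], [], [], []], ![[], [], [], [], [], []], ![[], [], [], [], [], []], ![[], [], [], [], [], []]]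
  sLo := ![[], [], [], [], [], []]
  cenLo := ![[], [], [], [], [], [], [], [], [], [], [], []]

/-- The certificate of the pairing. -/
def L1Cert : Fin 6 → Fin 6 → List (Fin 12 × Fin 6 × Fin 6 × ZMod 3) :=
  ![![[], [(6, 0, 1, 2), (6, 0, 3, 1)], [(6, 0, 3, 1)], [(6, 1, 3, 2), (6, 3, 4, 1), (6, 1, 4, 2), (7, 3, 4, 1), (6, 4, 5, 1), (6, 1, 5, 1), (6, 3, 5, 1), (7, 3, 5, 2)], [(6, 1, 4, 1), (6, 0, 3, 2), (7, 3, 4, 1), (6, 2, 3, 1), (6, 0, 1, 1), (6, 1, 3, 2), (6, 4, 5, 1), (6, 3, 5, 2), (7, 4, 5, 2)], [(6, 1, 5, 2), (6, 0, 3, 2), (6, 4, 5, 2), (7, 3, 5, 1), (6, 2, 3, 1), (6, 0, 1, 1), (6, 3, 4, 1), (6, 1, 4, 2), (7, 4, 5, 2)]],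
    ![[], [], [(6, 2, 3, 2), (6, 0, 1, 2), (6, 1, 3, 1)], [(6, 3, 4, 1), (6, 1, 3, 1), (6, 1, 4, 2), (7, 3, 4, 2), (6, 1, 5, 1), (6, 3, 5, 2), (7, 3, 5, 2), (7, 4, 5, 1)], [(6, 1, 3, 2), (6, 4, 5, 2), (6, 1, 5, 1), (7, 3, 5, 2), (6, 3, 4, 2), (6, 1, 4, 1), (7, 4, 5, 2)], [(6, 3, 5, 2), (6, 1, 5, 2), (6, 4, 5, 2), (7, 3, 4, 1), (7, 4, 5, 1)]],
    ![[], [], [], [(6, 4, 5, 2), (6, 3, 5, 1), (7, 3, 4, 1), (7, 4, 5, 1)], [(7, 3, 5, 2), (6, 2, 3, 2), (6, 0, 1, 2), (6, 3, 4, 2), (6, 1, 4, 1), (7, 3, 4, 2), (6, 3, 5, 1), (6, 1, 5, 1), (6, 4, 5, 1)], [(7, 4, 5, 2), (6, 2, 3, 2), (6, 0, 1, 2), (7, 3, 4, 1), (6, 1, 5, 1), (6, 3, 5, 2), (7, 3, 5, 2), (6, 3, 4, 2), (6, 1, 4, 1)]],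
    ![[], [], [], [], [(6, 1, 5, 2), (6, 0, 3, 1), (6, 4, 5, 1), (7, 3, 5, 1), (6, 2, 3, 2), (6, 0, 1, 2), (6, 1, 3, 2), (6, 3, 4, 2), (7, 3, 4, 1), (7, 4, 5, 1), (11, 3, 4, 1)], [(6, 1, 5, 1), (7, 3, 5, 2), (6, 1, 3, 2), (6, 1, 4, 2), (7, 3, 4, 1), (11, 3, 4, 1), (8, 3, 4, 1)]],
    ![[], [], [], [], [], [(11, 3, 4, 1), (6, 1, 3, 2), (6, 1, 4, 1), (6, 0, 3, 2), (6, 3, 4, 1), (7, 3, 4, 1), (6, 2, 3, 1), (6, 0, 1, 1), (6, 4, 5, 2), (7, 4, 5, 2), (8, 3, 4, 1), (8, 3, 5, 1)]],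
    ![[], [], [], [], [], []]]

/-- A layer. -/
def L2 : LData 12 where
  r := 2
  idx := ![6, 7]
  s := 10
  l := 1
  killed := [0, 1, 2, 3, 4, 5]
  E := ![![![1, 0], ![0, 1]], ![![1, 0], ![0, 1]], ![![1, 0], ![0, 1]], ![![1, 0], ![0, 1]], ![![1, 0], ![0, 1]], ![![1, 0], ![0, 1]], ![![1, 0], ![0, 1]], ![![1, 0], ![0, 1]], ![![1, 0], ![2, 1]], ![![1, 0], ![0, 1]], ![![2, 0], ![0, 2]], ![![1, 0], ![2, 2]]]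
  F := ![![0, 0], ![0, 0], ![0, 0], ![0, 0], ![0, 0], ![0, 0], ![2, 0], ![0, 2], ![0, 0], ![0, 0], ![0, 0], ![0, 0]]
  comLo := ![![[], [0, 0, 2]], ![[], []]]
  expLo := ![[0, 0, 1, 2, 2], []]
  conjLo := ![![[], [0, 1, 1, 2]], ![[0, 0, 1, 2, 2], []], ![[0, 0, 1, 2, 2], [0, 0, 1, 2, 2]], ![[0, 0, 2, 2], [1, 2, 2]], ![[0, 0, 2], [2, 2]], ![[2, 2], [1, 2]], ![[], [0, 0, 2]], ![[0, 2, 2], []], ![[0, 3, 5, 5], [0, 1, 1, 2, 2, 3, 3, 4, 4, 5, 5]], ![[0, 0, 1, 1, 4, 4, 5], [0, 0, 2, 2, 3, 3, 4, 4, 5]], ![[0, 2, 2, 4, 5, 5], [0, 1, 1, 2, 2, 3, 4, 5, 5]], ![[1, 1, 2, 3, 4], [0, 1, 1, 2, 2, 4, 4]]]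
  sLo := ![[0, 2, 2, 4, 5, 5], [0, 1, 1, 2, 2, 3, 4, 5, 5]]
  cenLo := ![[0, 0], [1, 1], [0, 1, 1], [0, 0, 1], [0, 0, 1, 1], [0, 1], [0, 0, 1, 2, 4, 4, 5], [2, 2, 3, 3, 4, 4, 5], [3, 3, 4, 5, 5], [1, 1, 2, 3, 3, 4, 4], [], [1, 3, 3, 4, 4]]

/-- The certificate of the pairing. -/
def L2Cert : Fin 2 → Fin 2 → List (Fin 12 × Fin 2 × Fin 2 × ZMod 3) :=
  ![![[], [(11, 0, 1, 1)]],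
    ![[], []]]

/-- A layer. -/
def L3 : LData 12 where
  r := 1
  idx := ![8]
  s := 11
  l := 1
  killed := [0, 1, 2, 3, 4, 5, 6, 7]
  E := ![![![1]], ![![1]], ![![1]], ![![1]], ![![1]], ![![1]], ![![1]], ![![1]], ![![1]], ![![1]], ![![1]], ![![2]]]
  F := ![![0], ![0], ![0], ![0], ![0], ![0], ![0], ![0], ![2], ![0], ![0], ![0]]
  comLo := ![![[]]]
  expLo := ![[]]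
  conjLo := ![![[]], ![[0]], ![[0]], ![[3, 5, 5]], ![[0, 0, 3, 4]], ![[0, 0, 4, 5]], ![[0, 0, 3, 3, 5]], ![[0, 1, 2, 2, 3, 4, 5, 6]], ![[]], ![[3, 4, 4, 5]], ![[3, 4, 4, 5]], ![[0]]]
  sLo := ![[0]]
  cenLo := ![[0, 0], [0, 0], [], [0, 3, 4], [0, 0, 3, 4], [0, 0], [1, 2, 2, 3, 3, 4, 4], [0, 1, 1, 2, 2, 4, 6, 7, 7], [0, 0], [1, 1, 3, 4], [1, 1, 3, 4], []]

/-- The certificate of the pairing. -/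
def L3Cert : Fin 1 → Fin 1 → List (Fin 12 × Fin 1 × Fin 1 × ZMod 3) :=
  ![![[]]]

end Cfsg.Agent.Co1Mult.Three
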