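import Mathlib

/-!
Certificates for the linear algebra behind the 2-part of the multiplier of `Co₁`.
-/

set_option autoImplicit false

namespace Cfsg.Agent.Co1Mult

/-- For each difference, the equations whose sum isolates it. -/
def hCert : List (List ℕ) := [[0, 2, 4, 5, 6, 10, 11, 24, 25, 26, 27, 28, 29, 30, 31, 32, 33, 34], [2, 5, 8, 10, 11, 24, 25, 26, 28, 29, 30], [4, 5, 10, 25, 27, 29, 32, 33, 34], [2, 3, 4, 6, 8, 9, 10, 25, 26, 28, 29, 31, 32], [1, 2, 5, 8, 11, 24, 26, 27, 28, 31, 34], [2, 3, 4, 8, 10, 25, 30, 31, 33, 34], [4, 7, 8, 27, 28, 29, 30, 33, 34], [2, 4, 5, 6, 7, 9, 10, 25, 26, 27, 32, 34], [1, 8, 9, 10, 11, 24, 25, 29, 30, 31, 33], [1, 2, 3, 5, 6, 7, 8, 9, 11, 24, 27, 28, 29, 31, 32], [1, 2, 4, 5, 7, 8, 11, 24, 26, 27, 30, 32], [1, 2, 6, 7, 11, 24, 26, 31, 32, 33], [1, 2, 6, 7, 11, 24, 26, 31, 32, 33, 34],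 [1, 2, 4, 5, 7, 8, 11, 24, 26, 27, 30, 32, 33], [1, 2, 3, 5, 6, 7, 8, 9, 11, 24, 27, 28, 29, 31], [1, 8, 9, 10, 11, 24, 25, 29, 30, 33], [2, 4, 5, 6, 7, 9, 10, 25, 26, 27, 30, 32, 34], [4, 7, 8, 27, 28, 30, 33, 34], [2, 3, 4, 8, 10, 25, 28, 30, 31, 33, 34], [1, 2, 5, 8, 11, 24, 26, 28, 31, 34], [2, 3, 4, 6, 8, 9, 10, 25, 28, 29, 31, 32], [4, 5, 10, 27, 29, 32, 33, 34], [2, 5, 8, 10, 11, 25, 26, 28, 29, 30]]

/-- The relations used. -/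
def relW : List (List (Fin 3)) := [[1, 1], [2, 2, 2, 2, 2], [0, 1, 0, 1, 0, 1], [1, 2, 1, 2, 2, 2, 2], [0, 2, 0, 2, 0, 2, 0, 2, 0, 2, 0, 2], [0, 2, 2, 0, 2, 2, 0, 2, 2, 0, 2, 2, 0, 2, 2], [0, 0, 2, 0, 0, 2, 0, 0, 2, 0, 0, 2, 0, 0, 2, 0, 0, 2, 0, 0, 2]]

/-- For each unknown: whether the free unknown is added, and the equations used. -/
def fCert : List (Bool × List (ℕ × ℕ)) := [(false, []), (false, [(0, 1), (0, 2), (0, 3), (0, 6), (1, 1), (2, 2), (3, 1), (4, 4), (5, 0), (5, 3)]), (false, [(0, 1), (0, 4), (2, 2), (2, 3), (3, 1), (3, 3), (4, 3), (4, 4)]), (false, [(0, 1), (0, 3), (0, 4), (0, 6), (3, 1), (3, 3), (4, 3), (4, 4)]), (false, [(0, 1), (0, 4), (0, 6), (1, 1), (2, 2), (2, 3), (2, 5), (3, 1), (4, 4), (5, 0), (5, 3)]), (true, [(0, 2), (0, 4), (0, 6), (1, 1), (2, 3), (3, 1), (4, 4), (5, 0), (5, 3)]), (false, [(0, 4), (0,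 6), (1, 1), (2, 3), (2, 5), (3, 3), (4, 3), (5, 0), (5, 3)]), (true, [(0, 1), (0, 2), (2, 5)]), (false, [(0, 1), (0, 6), (1, 1), (2, 3), (3, 3), (4, 3), (5, 0), (5, 3)]), (false, [(0, 1), (0, 3), (0, 4), (0, 6), (1, 1), (2, 3), (3, 1), (4, 4), (5, 0), (5, 3)]), (true, [(0, 3), (0, 4), (0, 6), (1, 1), (3, 1), (4, 4), (5, 0), (5, 3)]), (false, [(1, 0)]), (false, [(0, 1), (0, 2), (0, 3), (0, 6), (1, 1), (1, 2), (2, 2), (2, 3), (3, 1), (3, 2), (4, 3), (5, 0), (5, 2), (5, 3)]), (false, [(0, 1), (0, 2), (0, 3), (0, 6), (2, 2), (2, 3), (3, 1), (3, 2), (4, 3), (5, 0), (5, 2), (6, 0)]), (false, [(0, 2), (0, 6), (2, 2), (2, 3), (2, 5), (3, 2), (3, 4), (5, 2), (6, 0)]), (false, [(1, 1), (1, 2), (4, 3), (5, 3)]), (false, [(0, 1), (0, 3), (1, 0), (2, 5), (3, 1), (3, 4), (4, 4), (5, 0), (5, 2)]), (false, [(0, 1), (0, 2), (0, 3), (0, 6),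 (1, 1), (1, 2), (2, 2), (2, 3), (3, 1), (3, 2), (4, 3), (4, 4)]), (false, [(1, 0), (1, 1), (1, 2), (4, 3), (4, 4), (5, 3), (6, 0)]), (false, [(0, 2), (0, 6), (1, 1), (1, 2), (2, 2), (2, 3), (2, 5), (3, 2), (3, 4), (5, 3), (6, 0)]), (false, [(1, 2), (4, 3), (4, 4), (5, 2), (5, 3)]), (false, [(0, 1), (0, 2), (0, 3), (0, 6), (1, 0), (1, 1), (1, 2), (2, 2), (2, 3), (3, 1), (3, 2), (4, 4), (5, 3), (6, 0)])]

end Cfsg.Agent.Co1Mult
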