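import Cfsg.Agent.Co1Mult.TwoSetup
import Cfsg.Agent.Co1Out.Sylow
import Cfsg.Agent.Invol.TransferLemmas

/-!
The 2-part of the kernel: through the preimage of the monomial subgroup `2¹¹:M₂₄`.
-/

set_option autoImplicit false
set_option maxRecDepth 100000

namespace Cfsg.Agent.Co1Mult

open Cfsg Cfsg.Agent.Co1Out
open scoped commutatorElement IsMulCommutative

attribute [local irreducible] act aK cd fCert hCert relW Sg Pm

theorem six_cancel {V : Type*} [CommGroup V] (a b c d e f : V) (ha : a * a = 1) (hb : b * b = 1) (hc : c * c = 1)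
    (hd : d * d = 1) (he : e * e = 1) (hf : f * f = 1) : a * (b * (c * (d * (e * (f * (a * b * c * d * e * f)))))) = 1 := by
  calc a * (b * (c * (d * (e * (f * (a * b * c * d * e * f))))))
      = (a * a) * (b * b) * (c * c) * (d * d) * (e * e) * (f * f) := by ac_rfl
    _ = 1 := by rw [ha, hb, hc, hd, he, hf]; simp

variable (K : Type) [Group K] [Finite K] (π : K →* Spor.Co1) (hs : Function.Surjective π)
  (hc : π.ker ≤ Subgroup.center K)

include hs hc in
theorem exists_lifts : ∃ (s : ↥M24 →* K) (e : ℕ → K),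
    (∀ σ, π (s σ) = Pm σ) ∧ (∀ k < 2048, π (e k) = Sg k) ∧
    (∀ a < 2048, ∀ b < 2048, e (a ^^^ b) = e a * e b) ∧
    (∀ k < 2048, s (gp 0) * e k * (s (gp 0))⁻¹ = e (act 0 k)) ∧
    (∀ x, π x ∈ Eg → ∃ k < 2048, (e k)⁻¹ * x ∈ π.ker) := by
  let R : Subgroup K := Pm.range.comap π
  let eq := MonoidHom.ofInjective Pm_injective
  let f : R →* ↥M24 := eq.symm.toMonoidHom.comp ((π.comp R.subtype).codRestrict Pm.range fun x => x.2)
  have hf' : ∀ x : R, Pm (f x) = π x := fun x => by
    show ((eq (eq.symm ⟨π x, x.2⟩) : Pm.range) : Spor.Co1) = π x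
    rw [MulEquiv.apply_symm_apply]
  have hf : Function.Surjective f := fun σ => by
    obtain ⟨x, hx⟩ := hs (Pm σ)
    exact ⟨⟨x, ⟨σ, hx.symm⟩⟩, Pm_injective (by rw [hf']; exact hx)⟩
  have hfc : f.ker ≤ Subgroup.center R := fun x hx => Subgroup.mem_center_iff.2 fun y => Subtype.ext
    (Subgroup.mem_center_iff.1 (hc (show π (x : K) = 1 by rw [← hf', MonoidHom.mem_ker.1 hx, map_one])) y)
  obtain ⟨s₁, hs₁⟩ := exists_section f hf hfc
  let s : ↥M24 →* K := R.subtype.comp s₁
  have hsπ : ∀ σ, π (s σ) = Pm σ := fun σ => by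
    show π ((s₁ σ : R) : K) = _
    rw [← hf', hs₁]
  -- lifts of the sign changes generate an abelian subgroup
  let s₀ := s (gp 0)
  let p₀ := Pm (gp 0)
  have h23 : gp 0 ^ 23 = 1 := by
    have := word_eq rel_check.2.2.2.1
    rwa [List.map_replicate, List.prod_replicate, List.map_nil, List.prod_nil] at this
  have hs23 : s₀ ^ 23 = 1 := by rw [← map_pow, h23, map_one]
  obtain ⟨u₀, hu₀⟩ := hs (Sg 1)
  let u : ℕ → K := fun n => s₀ ^ n * u₀ * (s₀ ^ n)⁻¹
  have hu_succ : ∀ n, u (n + 1) = s₀ * u n * s₀⁻¹ := fun n => by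
    simp only [u, pow_succ', mul_inv_rev]; group
  have hu_per : ∀ n, u (n % 23) = u n := fun n => by
    simp only [u, ← pow_eq_pow_mod n hs23]
  have hu_add : ∀ j n, u (j + n) = s₀ ^ j * u n * (s₀ ^ j)⁻¹ := fun j n => by
    simp only [u, pow_add, mul_inv_rev, mul_assoc]
  have hconj : ∀ k < 2048, act 0 k < 2048 ∧ p₀ * Sg k * p₀⁻¹ = Sg (act 0 k) := fun k hk => conj_act 0 hk
  have hu_val : ∀ i < 11, π (u i) = Sg (2 ^ i) := by
    intro i
    induction i with
    | zero => intro _; simp [u, hu₀]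
    | succ i ih =>
      intro hi
      rw [hu_succ, map_mul, map_mul, map_inv, hsπ, ih (by omega),
        (hconj _ (Nat.pow_lt_pow_right (by norm_num : 1 < 2) (by omega : i < 11))).2, shift_top.2 i (by omega)]
  have hu_11 : π (u 11) = Sg 739 := by
    rw [hu_succ 10, map_mul, map_mul, map_inv, hsπ, hu_val 10 (by norm_num), (hconj _ (by norm_num)).2]
    exact congrArg Sg shift_top.1
  have hu_E : ∀ n, π (u n) ∈ Eg := by
    intro n
    induction n with
    | zero => simpa [u, hu₀] using Sg_mem (show 1 < 4096 by norm_num)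
    | succ n ih =>
      rw [hu_succ, map_mul, map_mul, map_inv, hsπ]
      exact (Subgroup.mem_normalizer_iff.1 (Eg_normal_in (Pm_mem (Subgroup.mem_top _))) _).1 ih
  have Ecomm : ∀ x ∈ Eg, ∀ y ∈ Eg, x * y = y * x := fun x hx y hy => by
    obtain ⟨a, ha, rfl⟩ := mem_Eg.1 hx
    obtain ⟨b, hb, rfl⟩ := mem_Eg.1 hy
    exact Sg_comm (by omega) (by omega)
  have Esq : ∀ x ∈ Eg, x * x = 1 := fun x hx => by
    obtain ⟨a, ha, rfl⟩ := mem_Eg.1 hx
    exact Sg_sq (by omega)
  have hcm : ∀ x y, π x ∈ Eg → π y ∈ Eg → ⁅x, y⁆ ∈ Subgroup.center K := fun x y hx hy => hc (by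
    rw [MonoidHom.mem_ker, map_commutatorElement, commutatorElement_eq_one_iff_mul_comm]
    exact Ecomm _ hx _ hy)
  have hmul : ∀ x x' y, π x' ∈ Eg → π y ∈ Eg → ⁅x * x', y⁆ = ⁅x, y⁆ * ⁅x', y⁆ := fun x x' y hx' hy => by
    have h := Subgroup.mem_center_iff.1 (hcm x' y hx' hy)
    calc ⁅x * x', y⁆ = (x * ⁅x', y⁆ * x⁻¹) * ⁅x, y⁆ := by simp only [commutatorElement_def]; group
      _ = ⁅x', y⁆ * ⁅x, y⁆ := by rw [h x, mul_inv_cancel_right]
      _ = _ := (h _).symm
  let c : ℕ → Subgroup.center K := fun n => ⟨⁅u 0, u n⁆, hcm _ _ (hu_E 0) (hu_E n)⟩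
  have hshift : ∀ j n, ⁅u j, u (j + n)⁆ = ⁅u 0, u n⁆ := fun j n => by
    have hh := Subgroup.mem_center_iff.1 (hcm _ _ (hu_E 0) (hu_E n)) (s₀ ^ j)
    rw [hu_add j n, show u j = s₀ ^ j * u 0 * (s₀ ^ j)⁻¹ from hu_add j 0]
    calc _ = s₀ ^ j * ⁅u 0, u n⁆ * (s₀ ^ j)⁻¹ := by simp only [commutatorElement_def]; group
      _ = _ := by rw [hh, mul_inv_cancel_right]
  have hc2 : ∀ n, c n * c n = 1 := fun n => Subtype.ext (by
    show ⁅u 0, u n⁆ * ⁅u 0, u n⁆ = 1
    rw [← hmul _ _ _ (hu_E 0) (hu_E n)]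
    refine commutatorElement_eq_one_iff_mul_comm.2 (Subgroup.mem_center_iff.1 (hc ?_) _).symm
    rw [MonoidHom.mem_ker, map_mul]
    exact Esq _ (hu_E 0))
  have hsym : ∀ n < 23, c n = c ((23 - n) % 23) := fun n hn => by
    have e1 : c n * c ((23 - n) % 23) = 1 := Subtype.ext (by
      show ⁅u 0, u n⁆ * ⁅u 0, u ((23 - n) % 23)⁆ = 1
      rw [hu_per, ← hshift n (23 - n), show n + (23 - n) = 23 by omega, ← hu_per 23,
        ← commutatorElement_inv (u n) (u (23 % 23))]
      exact inv_mul_cancel _)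
    calc c n = c n * (c ((23 - n) % 23) * c ((23 - n) % 23)) := by rw [hc2, mul_one]
      _ = _ := by rw [← mul_assoc, e1, one_mul]
  have hrec : ∀ n < 23, c ((n + 11) % 23) =
      c ((n + 0) % 23) * c ((n + 1) % 23) * c ((n + 5) % 23) * c ((n + 6) % 23) * c ((n + 7) % 23) *
        c ((n + 9) % 23) := by
    intro n hn
    -- `u 11` and the product of the six agree modulo the centre
    have hP : (u 11)⁻¹ * (u 0 * u 1 * u 5 * u 6 * u 7 * u 9) ∈ Subgroup.center K := hc (by
      rw [MonoidHom.mem_ker]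
      simp only [map_mul, map_inv, hu_11, hu_val 0 (by norm_num), hu_val 1 (by norm_num), hu_val 5 (by norm_num),
        hu_val 6 (by norm_num), hu_val 7 (by norm_num), hu_val 9 (by norm_num)]
      rw [← Sg_xor (by decide) (by decide), ← Sg_xor (by decide) (by decide),
        ← Sg_xor (by decide) (by decide), ← Sg_xor (by decide) (by decide),
        ← Sg_xor (by decide) (by decide)]
      exact inv_mul_cancel _)
    have hP2 : ∀ i, ⁅u 11, u i⁆ = ⁅u 0 * u 1 * u 5 * u 6 * u 7 * u 9, u i⁆ := fun i => by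
      conv_rhs => rw [show u 0 * u 1 * u 5 * u 6 * u 7 * u 9 =
        u 11 * ((u 11)⁻¹ * (u 0 * u 1 * u 5 * u 6 * u 7 * u 9)) by group]
      have q1 := Subgroup.mem_center_iff.1 hP
      generalize (u 11)⁻¹ * (u 0 * u 1 * u 5 * u 6 * u 7 * u 9) = z at q1
      simp only [commutatorElement_def]
      calc u 11 * u i * (u 11)⁻¹ * (u i)⁻¹ = u 11 * (u i * z * z⁻¹) * (u 11)⁻¹ * (u i)⁻¹ := by group
        _ = _ := by rw [q1 (u i)]; group
    -- move to the base point `u i`, `i = 23 - n`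
    have hb : ∀ a, ⁅u a, u (23 - n)⁆⁻¹ = ⁅u 0, u ((n + a) % 23)⁆ := fun a => by
      rw [commutatorElement_inv, hu_per]
      have e1 : u a = u ((23 - n) + (n + a)) := by
        rw [← hu_per a, ← hu_per (23 - n + (n + a))]
        congr 1
        omega
      rw [e1]
      exact hshift (23 - n) (n + a)
    apply Subtype.ext
    show ⁅u 0, u ((n + 11) % 23)⁆ = ⁅u 0, u ((n + 0) % 23)⁆ * ⁅u 0, u ((n + 1) % 23)⁆ * ⁅u 0, u ((n + 5) % 23)⁆ *
      ⁅u 0, u ((n + 6) % 23)⁆ * ⁅u 0, u ((n + 7) % 23)⁆ * ⁅u 0, u ((n + 9) % 23)⁆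
    rw [← hb 11, hP2, hmul _ _ _ (hu_E 9) (hu_E _), hmul _ _ _ (hu_E 7) (hu_E _), hmul _ _ _ (hu_E 6) (hu_E _),
      hmul _ _ _ (hu_E 5) (hu_E _), hmul _ _ _ (hu_E 1) (hu_E _)]
    have comm : ∀ a b, Commute ⁅u a, u (23 - n)⁆⁻¹ b := fun a b =>
      ((Subgroup.mem_center_iff.1 (inv_mem (hcm _ _ (hu_E a) (hu_E _)))) b).symm
    simp only [mul_inv_rev, ← hb]
    rw [(comm 9 _).eq, (comm 7 _).eq, (comm 6 _).eq, (comm 5 _).eq, (comm 1 _).eq]
  have hall : ∀ m < 23, c m = 1 := by
    intro m hm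
    obtain ⟨h1, h2⟩ := hCert_ok m hm
    have hsq : ∀ i < 23, c i * c i = 1 := fun i _ => hc2 i
    rw [← selProd_two_pow 23 c hm, ← h2]
    refine selProd_xorAll 23 c hsq _ fun a ha => ?_
    obtain ⟨j, hj, rfl⟩ := List.mem_map.1 ha
    have hj' := of_decide_eq_true (List.all_eq_true.1 h1 j hj)
    have p2 : ∀ i, selProd 23 c (2 ^ (i % 23)) = c (i % 23) := fun i =>
      selProd_two_pow 23 c (Nat.mod_lt _ (by norm_num))
    unfold hEq
    split_ifs with q1 q2
    · simp only [List.map_cons, List.map_nil, List.foldr_cons, List.foldr_nil, selProd_xor 23 c hsq, p2]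
      rw [hrec j q1]
      exact six_cancel _ _ _ _ _ _ (hc2 _) (hc2 _) (hc2 _) (hc2 _) (hc2 _) (hc2 _)
    · rw [selProd_xor 23 c hsq, selProd_two_pow 23 c (show j - 23 < 23 by omega), p2,
        ← hsym _ (show j - 23 < 23 by omega)]
      exact hc2 _
    · rw [show (1 : ℕ) = 2 ^ 0 from rfl, selProd_two_pow 23 c (by norm_num)]
      exact Subtype.ext (commutatorElement_self _)
  have hucomm : ∀ a b, u a * u b = u b * u a := by
    have key : ∀ a n, u a * u (a + n) = u (a + n) * u a := fun a n => by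
      rw [← commutatorElement_eq_one_iff_mul_comm, hshift, ← hu_per n]
      exact congrArg Subtype.val (hall _ (Nat.mod_lt _ (by norm_num)))
    intro a b
    rcases le_total a b with h | h <;> obtain ⟨n, rfl⟩ := Nat.exists_eq_add_of_le h
    · exact key a n
    · exact (key b n).symm
  -- the abelian preimage
  have hgen : ∀ k, ∀ k' < 2048, k' < 2 ^ k → ∃ x, x ∈ Subgroup.closure (Set.range u) ∧ π x = Sg k' := by
    intro k
    induction k with
    | zero =>
      intro k' _ hk'
      obtain rfl : k' = 0 := by omega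
      exact ⟨1, one_mem _, by rw [map_one, Sg_zero]⟩
    | succ k ih =>
      intro k' hk hk'
      by_cases hlt : k' < 2 ^ k
      · exact ih k' hk hlt
      · have hk11 : k < 11 := by
          by_contra hh
          have := Nat.pow_le_pow_right (show 0 < 2 by norm_num) (show 11 ≤ k by omega)
          omega
        have hd : k' - 2 ^ k < 2 ^ k := by rw [pow_succ] at hk'; omega
        obtain ⟨x, hx, hπx⟩ := ih (k' - 2 ^ k) (by omega) hd
        refine ⟨u k * x, mul_mem (Subgroup.subset_closure ⟨k, rfl⟩) hx, ?_⟩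
        have hp : 2 ^ k < 2048 := Nat.pow_lt_pow_right (by norm_num : 1 < 2) hk11
        rw [map_mul, hu_val k hk11, hπx, ← Sg_xor (by omega) (by omega)]
        congr 1
        rw [Nat.xor_comm, ← add_pow_eq_xor hd]
        omega
  let T : Subgroup K := Eg.comap π
  have hTcomm : ∀ x y : T, (x : K) * y = y * x := by
    have hle : T ≤ Subgroup.closure (Set.range u ∪ π.ker) := fun x hx => by
      obtain ⟨k, hk, e⟩ := mem_Eg.1 (show π x ∈ Eg from hx)
      obtain ⟨y, hy, hy'⟩ := hgen 11 k hk hk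
      rw [show x = y * (y⁻¹ * x) by group]
      refine mul_mem (Subgroup.closure_mono Set.subset_union_left hy) (Subgroup.subset_closure (Or.inr ?_))
      show π (y⁻¹ * x) = 1
      rw [map_mul, map_inv, e, hy', inv_mul_cancel]
    have hS : ∀ a ∈ Set.range u ∪ π.ker, ∀ b ∈ Set.range u ∪ π.ker, a * b = b * a := by
      rintro a (⟨i, rfl⟩ | ha) b (⟨j, rfl⟩ | hb)
      · exact hucomm i j
      · exact Subgroup.mem_center_iff.1 (hc hb) _
      · exact (Subgroup.mem_center_iff.1 (hc ha) _).symm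
      · exact Subgroup.mem_center_iff.1 (hc hb) _
    have := Subgroup.isMulCommutative_closure (k := Set.range u ∪ π.ker) hS
    exact fun x y => setLike_mul_comm (hle x.2) (hle y.2)
  -- commutators with the shift
  have hTs : ∀ x : T, s₀ * x * s₀⁻¹ ∈ T := fun x => by
    show π _ ∈ Eg
    rw [map_mul, map_mul, map_inv, hsπ]
    exact (Subgroup.mem_normalizer_iff.1 (Eg_normal_in (Pm_mem (Subgroup.mem_top _))) _).1 x.2
  let d : T →* K := MonoidHom.mk' (fun x => s₀ * x * s₀⁻¹ * (x : K)⁻¹) fun x y => by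
    have e := hTcomm x⁻¹ ⟨_, mul_mem (hTs y) (inv_mem y.2)⟩
    change (x : K)⁻¹ * (s₀ * y * s₀⁻¹ * (y : K)⁻¹) = (s₀ * y * s₀⁻¹ * (y : K)⁻¹) * (x : K)⁻¹ at e
    show s₀ * ((x : K) * y) * s₀⁻¹ * ((x : K) * y)⁻¹ = _
    calc s₀ * ((x : K) * y) * s₀⁻¹ * ((x : K) * y)⁻¹
        = (s₀ * x * s₀⁻¹) * ((s₀ * y * s₀⁻¹ * (y : K)⁻¹) * (x : K)⁻¹) := by group
      _ = (s₀ * x * s₀⁻¹) * ((x : K)⁻¹ * (s₀ * y * s₀⁻¹ * (y : K)⁻¹)) := by rw [e]
      _ = _ := by group
  have hdker : ∀ x : T, π (d x) = 1 → d x = 1 := fun x hx => by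
    change π (s₀ * x * s₀⁻¹ * (x : K)⁻¹) = 1 at hx
    have hp : p₀ * π x = π x * p₀ := by
      simp only [map_mul, map_inv] at hx
      exact mul_inv_eq_iff_eq_mul.1 (mul_inv_eq_one.1 (show p₀ * π (x : K) * p₀⁻¹ * (π (x : K))⁻¹ = 1 by
        rw [show p₀ = π s₀ from (hsπ (gp 0)).symm]; exact hx))
    have h1 : π (x : K) = 1 := Eg_fix_shift x.2 hp
    show s₀ * x * s₀⁻¹ * (x : K)⁻¹ = 1
    rw [Subgroup.mem_center_iff.1 (hc h1) s₀, mul_inv_cancel_right, mul_inv_cancel]
  let Φ : Eg → Eg := fun x => ⟨p₀ * x * p₀⁻¹ * (x : Spor.Co1)⁻¹,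
    mul_mem ((Subgroup.mem_normalizer_iff.1 (Eg_normal_in (Pm_mem (Subgroup.mem_top _))) _).1 x.2) (inv_mem x.2)⟩
  have hΦ : Function.Surjective Φ := by
    refine Finite.injective_iff_surjective.1 fun x y hxy => ?_
    have h := congrArg Subtype.val hxy
    simp only [Φ] at h
    refine Subtype.ext (inv_mul_eq_one.1 (Eg_fix_shift (mul_mem (inv_mem x.2) y.2) ?_))
    have h' : p₀ * (y : Spor.Co1) * p₀⁻¹ = p₀ * (x : Spor.Co1) * p₀⁻¹ * ((x : Spor.Co1)⁻¹ * y) := by
      rw [← mul_assoc, h, inv_mul_cancel_right]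
    calc p₀ * ((x : Spor.Co1)⁻¹ * y) = (p₀ * x * p₀⁻¹)⁻¹ * (p₀ * y * p₀⁻¹) * p₀ := by group
      _ = _ := by rw [h']; simp only [p₀]; group
  have hlift : ∀ k : ℕ, ∃ x : T, k < 2048 → π (d x) = Sg k := fun k => by
    by_cases hk : k < 2048
    · obtain ⟨y, hy⟩ := hΦ ⟨Sg k, Sg_mem (by omega)⟩
      obtain ⟨x, hx⟩ := hs y
      refine ⟨⟨x, show π x ∈ Eg from hx ▸ y.2⟩, fun _ => ?_⟩
      have := congrArg Subtype.val hy
      show π (s₀ * x * s₀⁻¹ * x⁻¹) = _
      simp only [map_mul, map_inv, hx]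
      rw [show π s₀ = p₀ from hsπ (gp 0)]
      exact this
    · exact ⟨1, fun h => absurd h hk⟩
  choose X hX using hlift
  have huniq : ∀ x y : T, π (d x) = π (d y) → d x = d y := fun x y h => by
    have := hdker (x * y⁻¹) (by rw [map_mul d, map_inv d, map_mul, map_inv, h, mul_inv_cancel])
    rwa [map_mul, map_inv, mul_inv_eq_one] at this
  refine ⟨s, fun k => d (X k), hsπ, hX, fun a ha b hb => ?_, fun k hk => ?_, fun x hx => ?_⟩
  · show _ = d (X a) * d (X b)
    rw [← map_mul d]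
    refine huniq _ _ ?_
    rw [map_mul d, map_mul π, hX _ (Nat.xor_lt_two_pow (n := 11) ha hb), hX _ ha, hX _ hb,
      Sg_xor (by omega) (by omega)]
  · obtain ⟨h1, h2⟩ := hconj k hk
    have e : s₀ * d (X k) * s₀⁻¹ = d ⟨_, hTs (X k)⟩ := by
      show s₀ * (s₀ * (X k : K) * s₀⁻¹ * (X k : K)⁻¹) * s₀⁻¹ =
        s₀ * (s₀ * (X k : K) * s₀⁻¹) * s₀⁻¹ * (s₀ * (X k : K) * s₀⁻¹)⁻¹
      group
    show s₀ * d (X k) * s₀⁻¹ = d (X (act 0 k))
    rw [e]
    refine huniq _ _ ?_
    rw [← e, map_mul, map_mul, map_inv, hsπ, hX _ hk, hX _ h1]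
    exact h2
  · obtain ⟨k, hk, e⟩ := mem_Eg.1 hx
    exact ⟨k, hk, by rw [MonoidHom.mem_ker, map_mul, map_inv, hX k hk, e, inv_mul_cancel]⟩

set_option maxHeartbeats 800000 in
include hs hc in
theorem exists_bound (htwo : ∀ k ∈ π.ker, k ∈ commutator K → k ^ (2 ^ 21) = 1)
    (hker : π.ker ≤ commutator K) :
    ∃ z ∈ π.ker, π.ker ≤ Subgroup.zpowers z ∧ z ^ 2 = 1 := by
  obtain ⟨s, e, hsπ, heπ, hxor, he0, hcover⟩ := exists_lifts K π hs hc
  have hpow : ∀ j < 11, (2 : ℕ) ^ j < 2048 := fun j hj => Nat.pow_lt_pow_right (by norm_num : 1 < 2) hj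
  have he_one : e 0 = 1 := by
    have := hxor 0 (by norm_num) 0 (by norm_num)
    rw [Nat.xor_self] at this
    exact left_eq_mul.1 this
  have he_sq : ∀ k < 2048, e k * e k = 1 := fun k hk => by rw [← hxor k hk k hk, Nat.xor_self, he_one]
  have he_inv : ∀ k < 2048, (e k)⁻¹ = e k := fun k hk => inv_eq_of_mul_eq_one_right (he_sq k hk)
  -- correction terms
  let F : Fin 3 → ℕ → K := fun g k => (e (act g k))⁻¹ * (s (gp g.castSucc) * e k * (s (gp g.castSucc))⁻¹)
  have hF : ∀ g k, k < 2048 → F g k ∈ π.ker := fun g k hk => by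
    obtain ⟨h1, h2⟩ := conj_act g hk
    rw [MonoidHom.mem_ker, map_mul, map_mul, map_mul, map_inv, map_inv, hsπ, heπ k hk, heπ _ h1, h2,
      inv_mul_cancel]
  have hFmul : ∀ g a b, a < 2048 → b < 2048 → F g (a ^^^ b) = F g a * F g b := by
    intro g a b ha hb
    have hab : a ^^^ b < 2048 := Nat.xor_lt_two_pow (n := 11) ha hb
    obtain ⟨a1, a2⟩ := conj_act g ha
    obtain ⟨b1, b2⟩ := conj_act g hb
    obtain ⟨c1, c2⟩ := conj_act g hab
    have hact : act g (a ^^^ b) = act g a ^^^ act g b := by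
      refine Sg_inj c1 (Nat.xor_lt_two_pow (n := 11) a1 b1) ?_
      rw [← c2, Sg_xor (by omega) (by omega), Sg_xor (by omega) (by omega), ← a2, ← b2]
      group
    have z := Subgroup.mem_center_iff.1 (hc (hF g a ha))
    show (e (act g (a ^^^ b)))⁻¹ * (s (gp g.castSucc) * e (a ^^^ b) * (s (gp g.castSucc))⁻¹) = _
    rw [hact, hxor a ha b hb, Nat.xor_comm, hxor _ b1 _ a1]
    calc (e (act g b) * e (act g a))⁻¹ * (s (gp g.castSucc) * (e a * e b) * (s (gp g.castSucc))⁻¹)
        = ((e (act g a))⁻¹ * ((e (act g b))⁻¹ * (e (act g a) * F g a))) *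
            (s (gp g.castSucc) * e b * (s (gp g.castSucc))⁻¹) := by simp only [F]; group
      _ = (e (act g a))⁻¹ * ((e (act g b))⁻¹ * e (act g a)) *
            (F g a * (s (gp g.castSucc) * e b * (s (gp g.castSucc))⁻¹)) := by group
      _ = (e (act g b))⁻¹ * (F g a * (s (gp g.castSucc) * e b * (s (gp g.castSucc))⁻¹)) := by
        rw [he_inv _ b1, he_inv _ a1, ← hxor _ b1 _ a1, ← hxor _ a1 _ (Nat.xor_lt_two_pow (n := 11) b1 a1),
          Nat.xor_comm (act g b) (act g a), ← Nat.xor_assoc, Nat.xor_self, Nat.zero_xor]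
      _ = (e (act g b))⁻¹ * ((s (gp g.castSucc) * e b * (s (gp g.castSucc))⁻¹) * F g a) := by
        rw [z]
      _ = F g b * F g a := by simp only [F]; group
      _ = _ := z _
  let f : ℕ → Subgroup.center K := fun q => if h : q < 22 then
      ⟨F ⟨q / 11 + 1, by omega⟩ (2 ^ (q % 11)), hc (hF _ _ (hpow _ (Nat.mod_lt _ (by norm_num))))⟩ else 1
  have hFzero : ∀ g, F g 0 = 1 := fun g => by
    have h := hFmul g 0 0 (by norm_num) (by norm_num)
    rw [Nat.xor_self] at h
    exact left_eq_mul.1 h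
  have hfsq : ∀ q < 22, f q * f q = 1 := fun q hq => Subtype.ext (by
    simp only [f, dif_pos hq]
    show F _ _ * F _ _ = 1
    rw [← hFmul _ _ _ (hpow _ (Nat.mod_lt _ (by norm_num))) (hpow _ (Nat.mod_lt _ (by norm_num))),
      Nat.xor_self, hFzero])
  have hFsel : ∀ (g : Fin 3), g ≠ 0 → ∀ (j : ℕ), ∀ k < 2048, k < 2 ^ j →
      ((selProd 22 f (k * 2 ^ (11 * (g.val - 1))) : Subgroup.center K) : K) = F g k := by
    intro g hg j
    induction j with
    | zero =>
      intro k _ hk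
      obtain rfl : k = 0 := by omega
      rw [Nat.zero_mul, selProd_zero, hFzero]
      rfl
    | succ j ih =>
      intro k hk hk'
      by_cases hlt : k < 2 ^ j
      · exact ih k hk hlt
      have hj : j < 11 := by
        by_contra hh
        have := Nat.pow_le_pow_right (show 0 < 2 by norm_num) (show 11 ≤ j by omega)
        omega
      have hd : k - 2 ^ j < 2 ^ j := by rw [pow_succ] at hk'; omega
      have hsplit : k = (k - 2 ^ j) ^^^ 2 ^ j := by
        rw [← add_pow_eq_xor hd]; omega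
      have hg2 : g.val = 1 ∨ g.val = 2 := by
        rcases g with ⟨v, hv⟩
        have : v ≠ 0 := fun h => hg (Fin.ext h)
        simp only; omega
      have hq : j + 11 * (g.val - 1) < 22 := by omega
      conv_lhs => rw [hsplit, ← Nat.shiftLeft_eq, Nat.shiftLeft_xor_distrib, Nat.shiftLeft_eq, Nat.shiftLeft_eq,
        ← pow_add, selProd_xor 22 f hfsq, selProd_two_pow 22 f hq]
      conv_rhs => rw [hsplit, hFmul g _ _ (by omega) (hpow j hj)]
      rw [Subgroup.coe_mul, ih _ (by omega) hd]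
      congr 1
      simp only [f, dif_pos hq]
      refine congrArg₂ F (Fin.ext (show (j + 11 * (g.val - 1)) / 11 + 1 = g.val by omega)) (congrArg (2 ^ ·) ?_)
      omega
  have hsel : ∀ (g : Fin 3), g ≠ 0 → ∀ k < 2048, ((selProd 22 f (k * 2 ^ (11 * (g.val - 1))) : Subgroup.center K) : K) = F g k :=
    fun g hg k hk => hFsel g hg 11 k hk hk
  have hrun : ∀ (w : List (Fin 3)), ∀ k < 2048, (runK w k).1 < 2048 ∧
      s (w.map fun g => gp g.castSucc).prod * e k * (s (w.map fun g => gp g.castSucc).prod)⁻¹ =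
        e (runK w k).1 * ((selProd 22 f (runK w k).2 : Subgroup.center K) : K) := by
    intro w
    induction w with
    | nil => exact fun k hk => ⟨hk, by simp [runK, selProd_zero]⟩
    | cons g w ih =>
      intro k hk
      obtain ⟨h1, h2⟩ := ih k hk
      obtain ⟨g1, -⟩ := conj_act g h1
      refine ⟨g1, ?_⟩
      have hz := Subgroup.mem_center_iff.1 (selProd 22 f (runK w k).2).2
      rw [List.map_cons, List.prod_cons, map_mul, mul_inv_rev]
      have step : s (gp g.castSucc) * e (runK w k).1 * (s (gp g.castSucc))⁻¹ =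
          e (act g (runK w k).1) * F g (runK w k).1 := by simp only [F, mul_inv_cancel_left]
      calc s (gp g.castSucc) * s (w.map fun g => gp g.castSucc).prod * e k *
            ((s (w.map fun g => gp g.castSucc).prod)⁻¹ * (s (gp g.castSucc))⁻¹)
          = s (gp g.castSucc) * (s (w.map fun g => gp g.castSucc).prod * e k *
              (s (w.map fun g => gp g.castSucc).prod)⁻¹) * (s (gp g.castSucc))⁻¹ := by group
        _ = s (gp g.castSucc) * (e (runK w k).1 * ((selProd 22 f (runK w k).2 : Subgroup.center K) : K)) * (s (gp g.castSucc))⁻¹ := by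
          rw [h2]
        _ = (s (gp g.castSucc) * e (runK w k).1 * (s (gp g.castSucc))⁻¹) * ((selProd 22 f (runK w k).2 : Subgroup.center K) : K) := by
          rw [mul_assoc (s (gp g.castSucc)), mul_assoc (e _), ← hz ((s (gp g.castSucc))⁻¹)]; group
        _ = _ := by
          rw [step, mul_assoc]
          show _ = e (act g (runK w k).1) * _
          congr 1
          by_cases hg : g = 0
          · subst hg
            have hF0 : F 0 (runK w k).1 = 1 := by
              show (e (act 0 (runK w k).1))⁻¹ * (s (gp 0) * e (runK w k).1 * (s (gp 0))⁻¹) = 1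
              rw [he0 _ h1, inv_mul_cancel]
            rw [hF0, one_mul]
            simp [runK]
          · rw [← hsel g hg _ h1, ← Subgroup.coe_mul, ← selProd_xor 22 f hfsq, Nat.xor_comm]
            simp [runK, hg]
  have hE0 : ∀ q < 22, f q = 1 ∨ f q = f 0 := by
    intro q hq
    obtain ⟨h1, h2⟩ := fCert_ok q hq
    by_cases hq0 : q = 0
    · exact Or.inr (by rw [hq0])
    have hmask := h2 hq0
    have hone : selProd 22 f (xorAll ((fCert.getD q (false, [])).2.map fEq)) = 1 := by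
      refine selProd_xorAll 22 f hfsq _ fun a ha => ?_
      obtain ⟨⟨t1, t2⟩, ht, rfl⟩ := List.mem_map.1 ha
      have h3 := List.all_eq_true.1 h1 _ ht
      simp only [Bool.and_eq_true, decide_eq_true_eq] at h3
      obtain ⟨⟨hl, hi⟩, hfix⟩ := h3
      have hw : relW.getD t1 [] ∈ relW := by
        rw [List.getD_eq_getElem _ _ hl]; exact List.getElem_mem _
      have hrel : ((relW.getD t1 []).map fun g : Fin 3 => gp g.castSucc).prod = 1 := by
        have := word_eq (l' := []) (relW_ok _ hw)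
        rw [List.map_map, List.map_nil, List.prod_nil] at this
        exact this
      obtain ⟨-, h4⟩ := hrun (relW.getD t1 []) (2 ^ t2) (hpow t2 hi)
      rw [hrel, map_one, one_mul, inv_one, mul_one, hfix] at h4
      exact Subtype.ext (left_eq_mul.1 h4)
    rw [hmask, selProd_xor 22 f hfsq, selProd_two_pow 22 f hq] at hone
    cases hb : (fCert.getD q (false, [])).1
    · rw [hb, if_neg Bool.false_ne_true, selProd_zero, mul_one] at hone
      exact Or.inl hone
    · rw [hb, if_pos rfl, show (1 : ℕ) = 2 ^ 0 from rfl, selProd_two_pow 22 f (by norm_num)] at hone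
      refine Or.inr ?_
      calc f q = f q * (f 0 * f 0) := by rw [hfsq 0 (by norm_num), mul_one]
        _ = _ := by rw [← mul_assoc, hone, one_mul]
  set z : K := (f 0 : K) with hz
  have hzker : z ∈ π.ker := by
    rw [hz]; simp only [f, dif_pos (show (0 : ℕ) < 22 by norm_num)]
    exact hF _ _ (hpow _ (by norm_num))
  have hzc : z ∈ Subgroup.center K := hc hzker
  have hz2 : z ^ 2 = 1 := by
    rw [pow_two, hz, ← Subgroup.coe_mul, hfsq 0 (by norm_num)]; rfl
  have hFz : ∀ (g : Fin 3) (k : ℕ), k < 2048 → F g k ∈ Subgroup.zpowers z := by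
    intro g k hk
    by_cases hg : g = 0
    · subst hg
      have : F 0 k = 1 := by
        show (e (act 0 k))⁻¹ * (s (gp 0) * e k * (s (gp 0))⁻¹) = 1
        rw [he0 _ hk, inv_mul_cancel]
      rw [this]; exact one_mem _
    rw [← hsel g hg k hk]
    have hmem : selProd 22 f (k * 2 ^ (11 * (g.val - 1))) ∈ Subgroup.zpowers (f 0) := by
      refine Subgroup.prod_mem _ fun i hi => ?_
      split_ifs
      · rcases hE0 i (Finset.mem_range.1 hi) with h | h <;> rw [h]
        · exact one_mem _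
        · exact Subgroup.mem_zpowers _
      · exact one_mem _
    obtain ⟨n, hn⟩ := hmem
    exact ⟨n, by rw [← hn]; rfl⟩
  -- the normal subgroup `W`
  let S : Set K := {x | ∃ k < 2048, x = e k} ∪ {z}
  let A : Subgroup K := Subgroup.closure S
  have hnorm : ∀ σ : ↥M24, s σ ∈ Subgroup.normalizer (A : Set K) := by
    have key : ∀ g : Fin 3, s (gp g.castSucc) ∈ Subgroup.normalizer (A : Set K) := by
      intro g
      have hle : A.map (MulAut.conj (s (gp g.castSucc))).toMonoidHom ≤ A := by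
        rw [MonoidHom.map_closure, Subgroup.closure_le]
        rintro _ ⟨x, hx | hx, rfl⟩
        · obtain ⟨k, hk, rfl⟩ := hx
          show s (gp g.castSucc) * e k * (s (gp g.castSucc))⁻¹ ∈ A
          have : s (gp g.castSucc) * e k * (s (gp g.castSucc))⁻¹ = e (act g k) * F g k := by
            simp only [F, mul_inv_cancel_left]
          rw [this]
          exact mul_mem (Subgroup.subset_closure (Or.inl ⟨_, (conj_act g hk).1, rfl⟩))
            (Subgroup.zpowers_le.2 (Subgroup.subset_closure (show z ∈ S from Or.inr rfl) : z ∈ A) (hFz g k hk))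
        · obtain rfl : x = z := hx
          show s (gp g.castSucc) * z * (s (gp g.castSucc))⁻¹ ∈ A
          rw [Subgroup.mem_center_iff.1 hzc, mul_inv_cancel_right]
          exact Subgroup.subset_closure (Or.inr rfl)
      have heq := Subgroup.eq_of_le_of_card_ge hle
        (Nat.card_congr (A.equivMapOfInjective _ (MulAut.conj (s (gp g.castSucc))).injective).toEquiv).le
      rw [Subgroup.mem_normalizer_iff]
      intro y
      constructor
      · exact fun hy => hle ⟨y, hy, rfl⟩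
      · intro hy
        have hy' : MulAut.conj (s (gp g.castSucc)) y ∈ A.map (MulAut.conj (s (gp g.castSucc))).toMonoidHom := by
          rw [heq]; exact hy
        obtain ⟨x, hx, ex⟩ := hy'
        exact (MulAut.conj _).injective ex ▸ hx
    intro σ
    have hle : Subgroup.closure ({gp 0, gp 1, gp 2} : Set ↥M24) ≤ (Subgroup.normalizer (A : Set K)).comap s := by
      rw [Subgroup.closure_le]
      rintro x (rfl | rfl | rfl)
      · exact key 0
      · exact key 1
      · exact key 2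
    rw [gp_closure] at hle
    exact hle (Subgroup.mem_top σ)
  let W : Subgroup K := A ⊔ s.range
  let L : Subgroup K := (Nm ⊤).comap π
  have hsplitL : ∀ x ∈ L, ∃ w ∈ W, w⁻¹ * x ∈ π.ker := by
    intro x hx
    obtain ⟨k, hk, σ, -, e1⟩ := mem_Nm.1 (show π x ∈ Nm ⊤ from hx)
    refine ⟨e (k % 2048) * s σ, mul_mem (Subgroup.mem_sup_left (Subgroup.subset_closure
      (Or.inl ⟨_, Nat.mod_lt _ (by norm_num), rfl⟩))) (Subgroup.mem_sup_right ⟨σ, rfl⟩), ?_⟩
    rw [MonoidHom.mem_ker, map_mul, map_inv, map_mul, hsπ, heπ _ (Nat.mod_lt _ (by norm_num)), Sg_mod hk, e1,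
      inv_mul_cancel]
  have hWL : ∀ k ∈ π.ker, k ∈ commutator K → k ∈ Subgroup.zpowers z := by
    intro k hk hk'
    have hkL : k ∈ L := by
      show π k ∈ Nm ⊤
      rw [MonoidHom.mem_ker.1 hk]; exact one_mem _
    have ht := Invol.map_pow_index_eq_one_of_mem_commutator (Abelianization.of (G := L)) ⟨k, hkL⟩ (hc hk) hk'
    rw [← map_pow, ← MonoidHom.mem_ker, Abelianization.ker_of] at ht
    have hW : k ^ L.index ∈ W := by
      have hm : k ^ L.index ∈ (commutator L).map L.subtype := ⟨_, ht, rfl⟩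
      rw [commutator_def, Subgroup.map_commutator, ← MonoidHom.range_eq_map, Subgroup.range_subtype] at hm
      refine (Subgroup.commutator_le.2 ?_) hm
      intro a ha b hb
      obtain ⟨wa, hwa, za⟩ := hsplitL a ha
      obtain ⟨wb, hwb, zb⟩ := hsplitL b hb
      have q1 := Subgroup.mem_center_iff.1 (hc za)
      have q2 := Subgroup.mem_center_iff.1 (hc zb)
      have : ⁅a, b⁆ = ⁅wa, wb⁆ := by
        obtain ⟨c1, rfl⟩ : ∃ c1, a = wa * c1 := ⟨wa⁻¹ * a, by group⟩
        obtain ⟨c2, rfl⟩ : ∃ c2, b = wb * c2 := ⟨wb⁻¹ * b, by group⟩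
        rw [inv_mul_cancel_left] at q1 q2
        simp only [commutatorElement_def, mul_inv_rev]
        calc wa * c1 * (wb * c2) * (c1⁻¹ * wa⁻¹) * (c2⁻¹ * wb⁻¹)
            = wa * (c1 * (wb * c2) * c1⁻¹) * (wa⁻¹ * c2⁻¹) * wb⁻¹ := by group
          _ = wa * (wb * c2) * (wa⁻¹ * c2⁻¹) * wb⁻¹ := by rw [← q1, mul_inv_cancel_right]
          _ = wa * wb * (c2 * wa⁻¹ * c2⁻¹) * wb⁻¹ := by group
          _ = _ := by rw [← q2, mul_inv_cancel_right]
      rw [this, commutatorElement_def]
      exact mul_mem (mul_mem (mul_mem hwa hwb) (inv_mem hwa)) (inv_mem hwb)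
    have hWker : ∀ x ∈ W, π x = 1 → x ∈ Subgroup.zpowers z := by
      intro x hx hx1
      have hnA : s.range ≤ Subgroup.normalizer (A : Set K) := by
        rintro _ ⟨σ, rfl⟩; exact hnorm σ
      rw [← SetLike.mem_coe, Subgroup.coe_mul_of_right_le_normalizer_left A s.range hnA] at hx
      obtain ⟨a, ha, _, ⟨σ, rfl⟩, rfl⟩ := hx
      obtain ⟨k', hk'', hk3⟩ : ∃ k' < 2048, (e k')⁻¹ * a ∈ Subgroup.zpowers z := by
        refine Subgroup.closure_induction (p := fun a _ => ∃ k' < 2048, (e k')⁻¹ * a ∈ Subgroup.zpowers z)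
          ?_ ?_ ?_ ?_ ha
        · rintro y (⟨j, hj, rfl⟩ | hy)
          · exact ⟨j, hj, by rw [inv_mul_cancel]; exact one_mem _⟩
          · obtain rfl : y = z := hy
            exact ⟨0, by norm_num, by rw [he_one, inv_one, one_mul]; exact Subgroup.mem_zpowers _⟩
        · exact ⟨0, by norm_num, by rw [he_one, inv_one, one_mul]; exact one_mem _⟩
        · rintro y y' _ _ ⟨j, hj, hy⟩ ⟨j', hj', hy'⟩
          refine ⟨j' ^^^ j, Nat.xor_lt_two_pow (n := 11) hj' hj, ?_⟩
          have hzc' := Subgroup.mem_center_iff.1 ((Subgroup.zpowers_le.2 hzc) hy)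
          rw [hxor _ hj' _ hj, show (e j' * e j)⁻¹ * (y * y') = (e j)⁻¹ * ((e j')⁻¹ * (e j * ((e j)⁻¹ * y))) * y' by group,
            he_inv _ hj', he_inv _ hj, ← mul_assoc (e j') (e j), ← hxor _ hj' _ hj, Nat.xor_comm, hxor _ hj _ hj',
            show e j * ((e j * e j') * (e j * y)) * y' = (e j * e j) * e j' * ((e j * y) * y') by group, he_sq _ hj,
            one_mul, ← mul_assoc]
          rw [he_inv _ hj] at hy hzc'
          rw [hzc' (e j'), mul_assoc]
          exact mul_mem hy (by rw [← he_inv _ hj']; exact hy')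
        · rintro y _ ⟨j, hj, hy⟩
          refine ⟨j, hj, ?_⟩
          have hzc' := Subgroup.mem_center_iff.1 ((Subgroup.zpowers_le.2 hzc) (inv_mem hy))
          have e2 : (e j)⁻¹ * y⁻¹ = ((e j)⁻¹ * y)⁻¹ := by
            rw [mul_inv_rev, inv_inv, he_inv _ hj]
            have := hzc' (e j)
            rw [mul_inv_rev, inv_inv] at this
            calc e j * y⁻¹ = e j * (y⁻¹ * e j) * (e j)⁻¹ := by group
              _ = _ := by rw [this, mul_inv_cancel_right]
          rw [e2]
          exact inv_mem hy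
      have hπa : π a = Sg k' := by
        have := (Subgroup.zpowers_le.2 hzker) hk3
        rw [MonoidHom.mem_ker, map_mul, map_inv, heπ _ hk''] at this
        exact (inv_mul_eq_one.1 this).symm
      rw [map_mul, hπa, hsπ] at hx1
      obtain ⟨e1, e2⟩ := Pm_eq_Sg (a := k') (b := 0) (σ := σ) (τ := 1) (by omega) (by norm_num)
        (by rw [hx1, Sg_zero, map_one, mul_one])
      rw [Nat.mod_eq_of_lt hk''] at e2
      rw [e2, he_one, inv_one, one_mul] at hk3
      show a * s σ ∈ _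
      rw [e1, map_one, mul_one]
      exact hk3
    have hidx : k ^ L.index ∈ Subgroup.zpowers z := hWker _ hW (by rw [map_pow, MonoidHom.mem_ker.1 hk, one_pow])
    have hi : L.index = 8292375 := by
      rw [Subgroup.index_comap_of_surjective _ hs]
      have h := (Nm ⊤ : Subgroup Spor.Co1).card_mul_index
      rw [card_top_Nm, card_co1] at h
      omega
    rw [hi] at hidx
    obtain ⟨m, hm⟩ := exists_pow_eq_self_of_coprime (G := K) (x := k) (n := 8292375)
      (Nat.Coprime.coprime_dvd_right (orderOf_dvd_of_pow_eq_one (htwo k hk hk')) (by norm_num))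
    rw [← hm]
    exact pow_mem hidx m
  exact ⟨z, hzker, fun k hk => hWL k hk (hker hk), hz2⟩

end Cfsg.Agent.Co1Mult
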