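import Cfsg.Agent.Co1Mult.Odd
import Cfsg.Agent.Co1Mult.Two

/-!
The multiplier of `Co₁` is cyclic of order two.
-/

set_option autoImplicit false

namespace Cfsg.Agent.Co1Mult

open Cfsg Cfsg.Agent.Co1Out
open scoped commutatorElement

theorem killed_cyclic {Q : Type*} [Group Q] [IsCyclic Q] : Killed Q 1 := by
  intro K _ _ π _ hc k _ hk'
  have hcomm : ∀ a b : K, a * b = b * a := commutative_of_cyclic_center_quotient π hc
  rw [pow_one]
  have hle : commutator K ≤ ⊥ := by
    rw [commutator_def, Subgroup.commutator_le]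
    exact fun a _ b _ => Subgroup.mem_bot.2 (commutatorElement_eq_one_iff_mul_comm.2 (hcomm a b))
  exact Subgroup.mem_bot.1 (hle hk')

theorem bnd_cyclic (p : ℕ) [Fact p.Prime] (h : (Nat.card Spor.Co1).factorization p = 1) :
    Bnd Spor.Co1 p 1 := by
  let P : Sylow p Spor.Co1 := Classical.arbitrary _
  have hP : Nat.card (P : Subgroup Spor.Co1) = p := by
    rw [Sylow.card_eq_multiplicity, h, pow_one]
  have : IsCyclic (P : Subgroup Spor.Co1) := isCyclic_of_prime_card hP
  exact bnd_subgroup _ ⟨1, killed_cyclic, by rw [hP, one_mul, pow_one]⟩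

theorem pow_two_part (K : Type) [Group K] [Finite K] (π : K →* Spor.Co1) (hs : Function.Surjective π)
    (hc : π.ker ≤ Subgroup.center K) (k : K) (hk : k ∈ π.ker) (hk' : k ∈ commutator K) :
    k ^ (2 ^ 21) = 1 := by
  have hodd := pow_eq_one_odd K π hs hc k hk hk'
  have key : ∀ p q : ℕ, p.Prime → 4157776806543360000 = p * q → q % p ≠ 0 → k ^ q = 1 := by
    intro p q hp hpq hq
    have := Fact.mk hp
    refine bnd_pow (bnd_cyclic p ?_) hp.pos (M := q) (by rw [card_co1, hpq, pow_one]; ring) π hs hc k hk hk'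
    rw [card_co1, hpq, Nat.factorization_mul hp.ne_zero (fun h => hq (by rw [h]; exact Nat.zero_mod p)),
      Finsupp.add_apply, hp.factorization_self, Nat.factorization_eq_zero_of_not_dvd
        (fun h => hq (Nat.mod_eq_zero_of_dvd h)), add_zero]
  have h11 := key 11 377979709685760000 (by norm_num) (by norm_num) (by norm_num)
  have h13 := key 13 319828985118720000 (by norm_num) (by norm_num) (by norm_num)
  have h23 := key 23 180772904632320000 (by norm_num) (by norm_num) (by norm_num)
  rw [← orderOf_dvd_iff_pow_eq_one] at hodd h11 h13 h23 ⊢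
  have h := Nat.dvd_gcd (Nat.dvd_gcd (Nat.dvd_gcd hodd h11) h13) h23
  have e : Nat.gcd (Nat.gcd (Nat.gcd (2 ^ 21 * (11 * 13 * 23)) 377979709685760000) 319828985118720000)
      180772904632320000 = 2 ^ 21 := by norm_num
  exact e ▸ h

theorem complement_check : aK (cd 1) 1 = 2049 := by decide +kernel

theorem zneg_mem_commutator : Leech.zneg ∈ commutator ↥Co0 := by
  obtain ⟨-, h⟩ := conj_code (cd_ok 1) (σ := gp 1) rfl (show 1 < 4096 by norm_num)
  rw [complement_check] at h
  have e : Leech.zneg = ⁅permHom (gp 1), sign0 1⁆ := by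
    rw [commutatorElement_def, h, ← sign0_full, show (2049 : ℕ) = 2048 ^^^ 1 from rfl,
      sign0_xor (by norm_num) (by norm_num), mul_inv_cancel_right]
  rw [e]
  exact Subgroup.commutator_mem_commutator (Subgroup.mem_top _) (Subgroup.mem_top _)

theorem card_ker_toC : Nat.card toC.ker = 2 := by
  rw [QuotientGroup.ker_mk']
  show Nat.card ((Subgroup.center ↥Co0 : Subgroup ↥Co0) : Set ↥Co0) = 2
  rw [Leech.card_center_eq, Nat.card_coe_set_eq, Set.ncard_pair Leech.zneg_ne_one.symm]

theorem multiplier : Cfsg.HasCyclicSchurMultiplier Spor.Co1 2 := by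
  have : Finite ↥Co0 := Leech.finite_co0
  have hst : Cfsg.IsStemExtension toC := by
    refine ⟨QuotientGroup.mk'_surjective _, le_of_eq (QuotientGroup.ker_mk' _), fun x hx => ?_⟩
    rw [QuotientGroup.ker_mk', ← SetLike.mem_coe, Leech.card_center_eq] at hx
    rcases hx with rfl | rfl
    · exact one_mem _
    · exact zneg_mem_commutator
  have : Fact (Nat.Prime 2) := ⟨Nat.prime_two⟩
  have : IsCyclic toC.ker := isCyclic_of_prime_card card_ker_toC
  refine ProjExt.Stem.hasCyclicSchurMultiplier_of toC hst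
    (mulEquivOfCyclicCardEq (by rw [card_ker_toC, Nat.card_congr Multiplicative.toAdd, Nat.card_zmod])) ?_
  intro Γ _ _ σ hσ
  exact exists_bound Γ σ hσ.1 hσ.2.1 (fun k hk hk' => pow_two_part Γ σ hσ.1 hσ.2.1 k hk hk') hσ.2.2

end Cfsg.Agent.Co1Mult
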