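import Cfsg.Agent.Co1Mult.CheckSeven
import Cfsg.Agent.Co1Mult.CheckFive
import Cfsg.Agent.Co1Mult.CheckThree

/-!
The kernel of a central extension of `Co₁` meets the derived group in a group of order prime to
three, five and seven.
-/

set_option autoImplicit false

namespace Cfsg.Agent.Co1Mult

open Cfsg

attribute [local irreducible] chk redMats vH HG

section
variable {n : ℕ} {mats : Fin n → List (List ℤ)} (h : ∀ i, MOK (mats i))

theorem commute_layer {p : ℕ} (D : LData n) (hok : LOK (redMats mats) p D) {Q : Type*} [Group Q]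
    (f : HG h →* Q) (hkill : ∀ i ∈ D.killed, f (vH h i) = 1) (a b : Fin D.r) :
    Commute (f (vH h (D.idx a))) (f (vH h (D.idx b))) := by
  obtain ⟨hlow, hcom, -⟩ := hok
  simp only [lowsB, Bool.and_eq_true, List.all_eq_true, List.mem_finRange, true_implies,
    List.contains_iff_mem] at hlow
  simp only [comB, List.all_eq_true, List.mem_finRange, true_implies, Bool.or_eq_true, decide_eq_true_eq] at hcom
  have key : ∀ i j : Fin D.r, ¬ j ≤ i → Commute (f (vH h (D.idx i))) (f (vH h (D.idx j))) := by
    intro i j hij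
    have := rel_map h f _ _ ((hcom i j).resolve_left hij)
    have hl : ((D.comLo i j).map fun q => f (vH h q)).prod = 1 := List.prod_eq_one fun x hx => by
      obtain ⟨q, hq, rfl⟩ := List.mem_map.1 hx
      exact hkill q (hlow.1.1.1.1 i j q hq)
    simp only [List.map_append, List.prod_append, hl, one_mul, List.map_cons, List.map_nil, List.prod_cons,
      List.prod_nil, mul_one] at this
    exact this
  rcases lt_trichotomy a b with hab | hab | hab
  · exact key a b (not_le.2 hab)
  · rw [hab]
  · exact (key b a (not_le.2 hab)).symm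

theorem commute_bottom {p : ℕ} (D : LData n) (hok : LOK (redMats mats) p D) (hk : D.killed = [])
    (a b : Fin D.r) : Commute (vH h (D.idx a)) (vH h (D.idx b)) :=
  commute_layer h D hok (MonoidHom.id (HG h)) (fun i hi => absurd hi (by simp [hk])) a b

theorem commute_closure {r : ℕ} {Q : Type*} [Group Q] (u : Fin r → Q) (hc : ∀ a b, Commute (u a) (u b))
    (A : Subgroup Q) (hA : A = Subgroup.closure (Set.range u)) (x : Q) (hx : x ∈ A) (k : Fin r) :
    x * u k = u k * x := by
  have : IsMulCommutative (Subgroup.closure (Set.range u)) := Subgroup.isMulCommutative_closure (by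
    rintro _ ⟨a, rfl⟩ _ ⟨b, rfl⟩; exact hc a b)
  exact setLike_mul_comm (hA ▸ hx) (Subgroup.subset_closure (k := Set.range u) (Set.mem_range_self k))

end

theorem prod_two {G : Type*} [Monoid G] {r : ℕ} (h : r = 2) (g : Fin r → G) :
    (List.ofFn g).prod = g ⟨0, by omega⟩ * g ⟨1, by omega⟩ := by
  subst h; simp [List.ofFn_succ]

theorem hfact : Fact (Nat.Prime 7) ∧ Fact (Nat.Prime 5) ∧ Fact (Nat.Prime 3) :=
  ⟨⟨by norm_num⟩, ⟨by norm_num⟩, ⟨by norm_num⟩⟩

theorem bnd_seven : Bnd Spor.Co1 7 2 := by
  have := hfact.1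
  refine bnd_subgroup (HG Seven.mok) ?_
  refine bnd_layer (redMats Seven.mats) (by norm_num) Seven.L1 Seven.ok1 (vH Seven.mok) (closure_vH _)
    (fun a b => (rel_vH Seven.mok a b).1) (fun i hi => by simp [Seven.L1] at hi) Seven.L1Cert Seven.cert1
    (bottom_indep Seven.mok Seven.L1.idx (commute_bottom Seven.mok Seven.L1 Seven.ok1 rfl) _ _ Seven.shape1
      Seven.free1) (e' := 0) ?_
  intro A _ _ _
  exact bnd_zero 7

theorem bnd_five : Bnd Spor.Co1 5 4 := by
  have := hfact.2.1
  refine bnd_subgroup (HG Five.mok) ?_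
  have hc := commute_bottom Five.mok Five.L1 Five.ok1 rfl
  refine bnd_layer (redMats Five.mats) (by norm_num) Five.L1 Five.ok1 (vH Five.mok) (closure_vH _)
    (fun a b => (rel_vH Five.mok a b).1) (fun i hi => by simp [Five.L1] at hi) Five.L1Cert Five.cert1
    (bottom_indep Five.mok Five.L1.idx hc _ _ Five.shape1 Five.free1) (e' := 1) ?_
  intro A _ hA hk
  have hs : Function.Surjective (QuotientGroup.mk' A) := QuotientGroup.mk'_surjective A
  refine bnd_layer (redMats Five.mats) (by norm_num) Five.L2 Five.ok2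
    (fun i => QuotientGroup.mk' A (vH Five.mok i)) (closure_image (closure_vH _) _ hs)
    (rel_map Five.mok _) ?_ Five.L2Cert Five.cert2 ?_ (e' := 0) (fun B _ _ _ => bnd_zero 5)
  · intro i hi
    simp only [Five.L2, List.mem_cons, List.not_mem_nil, or_false] at hi
    rcases hi with rfl | rfl | rfl
    · exact hk ⟨0, by decide⟩
    · exact hk ⟨1, by decide⟩
    · exact hk ⟨2, by decide⟩
  · refine fun e he => layer_indep Five.mok Five.L2.idx _ Five.det2 (QuotientGroup.mk' A) A
      (QuotientGroup.ker_mk' A).le (fun a ha k hk' => ?_) e he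
    simp only [List.mem_cons, List.not_mem_nil, or_false] at hk'
    rcases hk' with rfl | rfl | rfl
    · exact commute_closure _ hc A hA a ha ⟨0, by decide⟩
    · exact commute_closure _ hc A hA a ha ⟨1, by decide⟩
    · exact commute_closure _ hc A hA a ha ⟨2, by decide⟩

theorem bnd_three : Bnd Spor.Co1 3 9 := by
  have := hfact.2.2
  refine bnd_subgroup (HG Three.mok) ?_
  have hc := commute_bottom Three.mok Three.L1 Three.ok1 rfl
  refine bnd_layer (redMats Three.mats) (by norm_num) Three.L1 Three.ok1 (vH Three.mok) (closure_vH _)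
    (fun a b => (rel_vH Three.mok a b).1) (fun i hi => by simp [Three.L1] at hi) Three.L1Cert Three.cert1
    (bottom_indep Three.mok Three.L1.idx hc _ _ Three.shape1 Three.free1) (e' := 3) ?_
  intro A _ hA hk
  have hs : Function.Surjective (QuotientGroup.mk' A) := QuotientGroup.mk'_surjective A
  have hkill : ∀ i ∈ Three.L2.killed, QuotientGroup.mk' A (vH Three.mok i) = 1 := by
    intro i hi
    simp only [Three.L2, List.mem_cons, List.not_mem_nil, or_false] at hi
    rcases hi with rfl | rfl | rfl | rfl | rfl | rfl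
    · exact hk ⟨0, by decide⟩
    · exact hk ⟨1, by decide⟩
    · exact hk ⟨2, by decide⟩
    · exact hk ⟨3, by decide⟩
    · exact hk ⟨4, by decide⟩
    · exact hk ⟨5, by decide⟩
  have hind2 : ∀ e : Fin Three.L2.r → Fin 3,
      (List.ofFn fun j => QuotientGroup.mk' A (vH Three.mok (Three.L2.idx j)) ^ (e j : ℕ)).prod = 1 →
        ∀ j, (e j : ℕ) = 0 := by
    refine fun e he => layer_indep Three.mok Three.L2.idx _ Three.det2 (QuotientGroup.mk' A) A
      (QuotientGroup.ker_mk' A).le (fun a ha k hk' => ?_) e he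
    simp only [List.mem_cons, List.not_mem_nil, or_false] at hk'
    rcases hk' with rfl | rfl | rfl | rfl | rfl | rfl
    · exact commute_closure _ hc A hA a ha ⟨0, by decide⟩
    · exact commute_closure _ hc A hA a ha ⟨1, by decide⟩
    · exact commute_closure _ hc A hA a ha ⟨2, by decide⟩
    · exact commute_closure _ hc A hA a ha ⟨3, by decide⟩
    · exact commute_closure _ hc A hA a ha ⟨4, by decide⟩
    · exact commute_closure _ hc A hA a ha ⟨5, by decide⟩
  refine bnd_layer (redMats Three.mats) (by norm_num) Three.L2 Three.ok2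
    (fun i => QuotientGroup.mk' A (vH Three.mok i)) (closure_image (closure_vH _) _ hs)
    (rel_map Three.mok _) hkill Three.L2Cert Three.cert2 hind2 (e' := 1) ?_
  intro B _ hB hk2
  let f : HG Three.mok →* (_ ⧸ A) ⧸ B := (QuotientGroup.mk' B).comp (QuotientGroup.mk' A)
  have hf : Function.Surjective f := (QuotientGroup.mk'_surjective B).comp hs
  have hkill3 : ∀ i ∈ Three.L3.killed, f (vH Three.mok i) = 1 := by
    intro i hi
    simp only [Three.L3, List.mem_cons, List.not_mem_nil, or_false] at hi
    rcases hi with rfl | rfl | rfl | rfl | rfl | rfl | rfl | rfl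
    all_goals first
      | exact hk2 ⟨0, by decide⟩
      | exact hk2 ⟨1, by decide⟩
      | (show QuotientGroup.mk' B (QuotientGroup.mk' A _) = 1
         rw [hkill _ (by decide)]
         exact map_one _)
  refine bnd_layer (redMats Three.mats) (by norm_num) Three.L3 Three.ok3 (fun i => f (vH Three.mok i))
    (closure_image (closure_vH _) f hf) (rel_map Three.mok f) hkill3 Three.L3Cert Three.cert3 ?_
    (e' := 0) (fun C _ _ _ => bnd_zero 3)
  intro e he j
  have hj : ∀ k : Fin Three.L3.r, k = ⟨0, by decide⟩ := by decide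
  rw [hj j]
  by_contra hne
  have hb : QuotientGroup.mk' A (vH Three.mok 8) ∈ B := by
    have he' : f (vH Three.mok 8) ^ (e ⟨0, by decide⟩ : ℕ) = 1 := by
      have e0 : (List.ofFn fun k => f (vH Three.mok (Three.L3.idx k)) ^ (e k : ℕ)).prod =
          f (vH Three.mok 8) ^ (e ⟨0, by decide⟩ : ℕ) := by
        show (List.ofFn fun k : Fin 1 => f (vH Three.mok (Three.L3.idx k)) ^ (e k : ℕ)).prod = _
        simp only [List.ofFn_succ, List.ofFn_zero, List.prod_cons, List.prod_nil, mul_one]
        rfl
      exact e0.symm.trans he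
    have hp : f (vH Three.mok 8) ^ 3 = 1 := by
      obtain ⟨hlow, -, hexp, -⟩ := Three.ok3
      simp only [lowsB, Bool.and_eq_true, List.all_eq_true, List.mem_finRange, true_implies,
        List.contains_iff_mem] at hlow
      simp only [expB, List.all_eq_true, List.mem_finRange, true_implies] at hexp
      have := rel_map Three.mok f _ _ (hexp ⟨0, by decide⟩)
      simp only [List.map_replicate, List.prod_replicate] at this
      refine Eq.trans this (List.prod_eq_one fun x hx => ?_)
      obtain ⟨q, hq, rfl⟩ := List.mem_map.1 hx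
      exact hkill3 q (hlow.1.1.1.2 _ q hq)
    have h1 : f (vH Three.mok 8) = 1 := by
      have hcop : Nat.Coprime (e ⟨0, by decide⟩ : ℕ) 3 := by
        have := (e ⟨0, by decide⟩).isLt
        interval_cases h : (e ⟨0, by decide⟩ : ℕ) <;> first | exact absurd rfl hne | norm_num
      exact orderOf_eq_one_iff.1 (Nat.Coprime.eq_one_of_dvd
        (Nat.Coprime.coprime_dvd_left (orderOf_dvd_of_pow_eq_one he') hcop) (orderOf_dvd_of_pow_eq_one hp))
    exact (QuotientGroup.eq_one_iff _).1 h1
  let i1 : Fin Three.L2.r := ⟨1, Nat.one_lt_two⟩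
  have hcm := commute_layer Three.mok Three.L2 Three.ok2 (QuotientGroup.mk' A) hkill
  have hcomm := commute_closure (fun j => QuotientGroup.mk' A (vH Three.mok (Three.L2.idx j))) hcm B hB _ hb i1
  obtain ⟨hlow, -, -, hconj, -⟩ := Three.ok2
  simp only [lowsB, Bool.and_eq_true, List.all_eq_true, List.mem_finRange, true_implies,
    List.contains_iff_mem] at hlow
  simp only [conjB, List.all_eq_true, List.mem_finRange, true_implies] at hconj
  have h3 := rel_map Three.mok (QuotientGroup.mk' A) _ _ (hconj 8 i1)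
  have hl : ((Three.L2.conjLo 8 i1).map fun q => QuotientGroup.mk' A (vH Three.mok q)).prod = 1 :=
    List.prod_eq_one fun x hx => by
      obtain ⟨q, hq, rfl⟩ := List.mem_map.1 hx
      exact hkill q (hlow.1.1.2 8 i1 q hq)
  simp only [List.map_append, List.prod_append, hl, one_mul, List.map_cons, List.map_nil, List.prod_cons,
    List.prod_nil, mul_one, powWord, List.map_flatten, List.prod_flatten, List.map_ofFn, Function.comp_def,
    List.map_replicate, List.prod_replicate] at h3
  rw [hcomm] at h3
  have h4 := (mul_right_cancel h3).symm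
  let d : Fin Three.L2.r → Fin 3 := fun k =>
    ⟨(Three.L2.E 8 i1 k + (if k = i1 then 2 else 0)) % 3, Nat.mod_lt _ (by norm_num)⟩
  have hd : (List.ofFn fun k => QuotientGroup.mk' A (vH Three.mok (Three.L2.idx k)) ^ (d k : ℕ)).prod = 1 := by
    have hp : ∀ k, QuotientGroup.mk' A (vH Three.mok (Three.L2.idx k)) ^ 3 = 1 := fun k => by
      obtain ⟨hlow', -, hexp, -⟩ := Three.ok2
      simp only [lowsB, Bool.and_eq_true, List.all_eq_true, List.mem_finRange, true_implies,
        List.contains_iff_mem] at hlow'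
      simp only [expB, List.all_eq_true, List.mem_finRange, true_implies] at hexp
      have := rel_map Three.mok (QuotientGroup.mk' A) _ _ (hexp k)
      simp only [List.map_replicate, List.prod_replicate] at this
      refine Eq.trans this (List.prod_eq_one fun x hx => ?_)
      obtain ⟨q, hq, rfl⟩ := List.mem_map.1 hx
      exact hkill q (hlow'.1.1.1.2 k q hq)
    have e1 : ∀ k, QuotientGroup.mk' A (vH Three.mok (Three.L2.idx k)) ^ (d k : ℕ) =
        QuotientGroup.mk' A (vH Three.mok (Three.L2.idx k)) ^ Three.L2.E 8 i1 k *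
          QuotientGroup.mk' A (vH Three.mok (Three.L2.idx k)) ^ (if k = i1 then 2 else 0) := fun k => by
      rw [← pow_add]
      exact (pow_eq_pow_mod _ (hp k)).symm
    let i0 : Fin Three.L2.r := ⟨0, Nat.zero_lt_two⟩
    have two : ∀ g : Fin Three.L2.r → _ ⧸ A, (List.ofFn g).prod = g i0 * g i1 := fun g => prod_two rfl g
    have h0 : i0 ≠ i1 := by decide
    rw [two, e1 i0, e1 i1]
    simp only [h0, if_true, if_false, pow_zero, mul_one]
    rw [← mul_assoc]
    rw [two] at h4
    refine (congrArg (· * QuotientGroup.mk' A (vH Three.mok (Three.L2.idx i1)) ^ 2) h4).trans ?_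
    exact (pow_succ' _ 2).symm.trans (hp i1)
  have h5 := hind2 d hd
  have a0 := h5 ⟨0, Nat.zero_lt_two⟩
  have a1 := h5 i1
  exact absurd (show (Three.L2.E 8 i1 ⟨0, Nat.zero_lt_two⟩, Three.L2.E 8 i1 i1) = (0, 1) from by
    have b0 : Three.L2.E 8 i1 ⟨0, Nat.zero_lt_two⟩ < 3 := by decide
    have b1 : Three.L2.E 8 i1 i1 < 3 := by decide
    have c0 : (Three.L2.E 8 i1 ⟨0, Nat.zero_lt_two⟩ + 0) % 3 = 0 := a0
    have c1 : (Three.L2.E 8 i1 i1 + 2) % 3 = 0 := a1
    exact Prod.ext (by simp only; omega) (by simp only; omega)) Three.move3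

theorem pow_eq_one_odd (K : Type) [Group K] [Finite K] (π : K →* Spor.Co1) (hs : Function.Surjective π)
    (hc : π.ker ≤ Subgroup.center K) (k : K) (hk : k ∈ π.ker) (hk' : k ∈ commutator K) :
    k ^ (2 ^ 21 * (11 * 13 * 23)) = 1 := by
  have h7 := bnd_pow bnd_seven (by norm_num)
    (M := 4157776806543360000 / 7 ^ 2) (by rw [Co1Out.card_co1]; norm_num) π hs hc k hk hk'
  have h5 := bnd_pow bnd_five (by norm_num)
    (M := 4157776806543360000 / 5 ^ 4) (by rw [Co1Out.card_co1]; norm_num) π hs hc k hk hk'
  have h3 := bnd_pow bnd_three (by norm_num)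
    (M := 4157776806543360000 / 3 ^ 9) (by rw [Co1Out.card_co1]; norm_num) π hs hc k hk hk'
  rw [← orderOf_dvd_iff_pow_eq_one] at h7 h5 h3 ⊢
  have h := Nat.dvd_gcd (Nat.dvd_gcd h7 h5) h3
  have e : Nat.gcd (Nat.gcd (4157776806543360000 / 7 ^ 2) (4157776806543360000 / 5 ^ 4))
      (4157776806543360000 / 3 ^ 9) = 2 ^ 21 * (11 * 13 * 23) := by norm_num
  exact e ▸ h

end Cfsg.Agent.Co1Mult
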