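import Cfsg.Agent.Co1Out.Points
import Cfsg.Agent.Co1Mult.DataTwo
import Cfsg.Agent.S2038
import Cfsg.Agent.ProjExt.Stem

/-!
Masks of equations, the shift action on numbered sign changes, and the section over `M₂₄` in a
central extension.
-/

set_option autoImplicit false
set_option maxRecDepth 100000

namespace Cfsg.Agent.Co1Mult

open Cfsg Cfsg.Agent.Co1Out Cfsg.Agent.Compute
open scoped commutatorElement IsMulCommutative

section xor
variable {V : Type*} [CommGroup V]

/-- The product selected by a mask. -/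
def selProd (n : ℕ) (f : ℕ → V) (m : ℕ) : V := ∏ i ∈ Finset.range n, if m.testBit i then f i else 1

theorem selProd_xor (n : ℕ) (f : ℕ → V) (hf : ∀ i < n, f i * f i = 1) (a b : ℕ) :
    selProd n f (a ^^^ b) = selProd n f a * selProd n f b := by
  rw [selProd, selProd, selProd, ← Finset.prod_mul_distrib]
  refine Finset.prod_congr rfl fun i hi => ?_
  have := hf i (Finset.mem_range.1 hi)
  rw [Nat.testBit_xor]
  cases a.testBit i <;> cases b.testBit i <;> simp [this]

theorem selProd_two_pow (n : ℕ) (f : ℕ → V) {j : ℕ} (hj : j < n) : selProd n f (2 ^ j) = f j := by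
  rw [selProd, Finset.prod_eq_single j (fun i _ hi => by rw [Nat.testBit_two_pow]; simp [Ne.symm hi])
    (fun h => absurd (Finset.mem_range.2 hj) h), Nat.testBit_two_pow_self, if_pos rfl]

theorem selProd_zero (n : ℕ) (f : ℕ → V) : selProd n f 0 = 1 :=
  Finset.prod_eq_one fun i _ => by simp

/-- The xor of a list of masks. -/
def xorAll (l : List ℕ) : ℕ := l.foldr (fun a r => a ^^^ r) 0

theorem selProd_xorAll (n : ℕ) (f : ℕ → V) (hf : ∀ i < n, f i * f i = 1) :
    ∀ l : List ℕ, (∀ a ∈ l, selProd n f a = 1) → selProd n f (xorAll l) = 1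
  | [], _ => selProd_zero n f
  | a :: l, h => by
    show selProd n f (a ^^^ xorAll l) = 1
    rw [selProd_xor n f hf, h a List.mem_cons_self,
      selProd_xorAll n f hf l fun b hb => h b (List.mem_cons_of_mem _ hb), one_mul]

end xor

theorem add_pow_eq_xor {i b : ℕ} (h : b < 2 ^ i) : b + 2 ^ i = b ^^^ 2 ^ i := by
  refine Nat.eq_of_testBit_eq fun j => ?_
  rw [add_comm, Nat.testBit_xor, Nat.testBit_two_pow]
  rcases Nat.lt_trichotomy j i with hj | hj | hj
  · rw [Nat.testBit_two_pow_add_gt hj]; simp [Nat.ne_of_gt hj]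
  · subst hj; rw [Nat.testBit_two_pow_add_eq, Nat.testBit_lt_two_pow h]; simp
  · have h1 : 2 ^ (i + 1) ≤ 2 ^ j := Nat.pow_le_pow_right (by norm_num) hj
    rw [pow_succ] at h1
    rw [Nat.testBit_lt_two_pow (show b < 2 ^ j by omega), Nat.testBit_lt_two_pow (show 2 ^ i + b < 2 ^ j by omega)]
    simp [Nat.ne_of_lt hj]

/-- The action of a generator on numbers below 2048. -/
noncomputable def act (g : Fin 3) (k : ℕ) : ℕ := Nat.mod (aK (cd g.castSucc) k) 2048

theorem conj_act (g : Fin 3) {k : ℕ} (hk : k < 2048) :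
    act g k < 2048 ∧ Pm (gp g.castSucc) * Sg k * (Pm (gp g.castSucc))⁻¹ = Sg (act g k) := by
  obtain ⟨h1, h2⟩ := conj_Sg (cd_ok g.castSucc) (σ := gp g.castSucc) rfl (show k < 4096 by omega)
  refine ⟨Nat.mod_lt _ (by norm_num), ?_⟩
  rw [h2, mul_inv_cancel_right]
  exact (Sg_mod h1).symm

theorem Sg_inj {a b : ℕ} (ha : a < 2048) (hb : b < 2048) (h : Sg a = Sg b) : a = b := by
  have := Sg_injOn (show a < 4096 by omega) (show b < 4096 by omega) h
  rwa [Nat.mod_eq_of_lt ha, Nat.mod_eq_of_lt hb] at this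

theorem Pm_injective : Function.Injective Pm := fun σ τ h =>
  (Pm_eq_Sg (a := 0) (b := 0) (by norm_num) (by norm_num) (by rw [Sg_zero, one_mul, one_mul, h])).1

theorem perfect_M24 : commutator ↥M24 = ⊤ := by
  have := Compute.isSimpleGroup_m24
  rcases (inferInstance : (commutator ↥M24).Normal).eq_bot_or_eq_top with h | h
  · exfalso
    have hcomm : ∀ a b : ↥M24, a * b = b * a := fun a b => by
      have : ⁅a, b⁆ ∈ commutator ↥M24 :=
        Subgroup.commutator_mem_commutator (Subgroup.mem_top a) (Subgroup.mem_top b)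
      rwa [h, Subgroup.mem_bot, commutatorElement_eq_one_iff_mul_comm] at this
    let _ : CommGroup ↥M24 := { (inferInstance : Group ↥M24) with mul_comm := hcomm }
    have hp := IsSimpleGroup.prime_card (α := ↥M24)
    rw [Compute.card_m24] at hp
    norm_num at hp
  · exact h

/-- A central extension of `M₂₄` has a section. -/
theorem exists_section {R : Type} [Group R] [Finite R] (f : R →* ↥M24) (hf : Function.Surjective f)
    (hc : f.ker ≤ Subgroup.center R) : ∃ s : ↥M24 →* R, ∀ σ, f (s σ) = σ := by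
  let D := commutator R
  have hD : D.map f = ⊤ := by
    show (commutator R).map f = ⊤
    rw [commutator_def]
    rw [Subgroup.map_commutator, Subgroup.map_top_of_surjective f hf]
    exact perfect_M24
  let g : D →* ↥M24 := f.comp D.subtype
  have hg : Function.Surjective g := fun σ => by
    obtain ⟨x, hx, e⟩ : σ ∈ D.map f := hD ▸ Subgroup.mem_top σ
    exact ⟨⟨x, hx⟩, e⟩
  have hperf : ⁅D, D⁆ = D := by
    refine le_antisymm (Subgroup.commutator_le_self D) ?_
    show commutator R ≤ ⁅D, D⁆
    rw [commutator_def]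
    rw [Subgroup.commutator_le]
    intro a _ b _
    obtain ⟨a', ha'⟩ := hg (f a)
    obtain ⟨b', hb'⟩ := hg (f b)
    have za : (a' : R)⁻¹ * a ∈ Subgroup.center R := hc (by
      rw [MonoidHom.mem_ker, map_mul, map_inv, show f a' = f a from ha', inv_mul_cancel])
    have zb : (b' : R)⁻¹ * b ∈ Subgroup.center R := hc (by
      rw [MonoidHom.mem_ker, map_mul, map_inv, show f b' = f b from hb', inv_mul_cancel])
    have e : ⁅a, b⁆ = ⁅(a' : R), (b' : R)⁆ := by
      obtain ⟨z, hz, rfl⟩ : ∃ z ∈ Subgroup.center R, a = a' * z := ⟨_, za, by group⟩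
      obtain ⟨w, hw, rfl⟩ : ∃ w ∈ Subgroup.center R, b = b' * w := ⟨_, zb, by group⟩
      have q1 := Subgroup.mem_center_iff.1 hz
      have q2 := Subgroup.mem_center_iff.1 hw
      simp only [commutatorElement_def, mul_inv_rev]
      calc (a' : R) * z * (b' * w) * (z⁻¹ * (a' : R)⁻¹) * (w⁻¹ * (b' : R)⁻¹)
          = (a' : R) * (z * ((b' : R) * w) * z⁻¹) * ((a' : R)⁻¹ * w⁻¹) * (b' : R)⁻¹ := by group
        _ = (a' : R) * ((b' : R) * w) * ((a' : R)⁻¹ * w⁻¹) * (b' : R)⁻¹ := by rw [← q1, mul_inv_cancel_right]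
        _ = (a' : R) * (b' : R) * (w * (a' : R)⁻¹ * w⁻¹) * (b' : R)⁻¹ := by group
        _ = _ := by rw [← q2, mul_inv_cancel_right]
    rw [e]
    exact Subgroup.commutator_mem_commutator a'.2 b'.2
  have hperf' : commutator D = ⊤ := by
    refine Subgroup.map_injective D.subtype_injective ?_
    rw [commutator_def]
    rw [Subgroup.map_commutator, ← MonoidHom.range_eq_map, Subgroup.range_subtype, hperf]
  have hst : Cfsg.IsStemExtension g := by
    refine ⟨hg, fun x hx => ?_, by rw [hperf']; exact le_top⟩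
    rw [Subgroup.mem_center_iff]
    exact fun y => Subtype.ext (Subgroup.mem_center_iff.1 (hc (show (x : R) ∈ f.ker from hx)) y)
  have hinj : Function.Injective g :=
    (MonoidHom.ker_eq_bot_iff g).1 (ProjExt.Stem.ker_eq_bot_of_trivial S2038.result D g hst)
  let e := MulEquiv.ofBijective g ⟨hinj, hg⟩
  exact ⟨D.subtype.comp e.symm.toMonoidHom, fun σ => e.apply_symm_apply σ⟩

/-- The equations on the differences. -/
def hEq (j : ℕ) : ℕ :=
  if j < 23 then (([0, 1, 5, 6, 7, 9] : List ℕ).map fun i => 2 ^ ((j + i) % 23)).foldr (fun a r => a ^^^ r)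
    (2 ^ ((j + 11) % 23))
  else if j < 46 then (2 ^ (j - 23)) ^^^ (2 ^ ((23 - (j - 23)) % 23)) else 1

theorem hCert_ok : ∀ m < 23, (hCert.getD m []).all (fun j => decide (j < 47)) = true ∧
    xorAll ((hCert.getD m []).map hEq) = 2 ^ m := by decide +kernel

theorem shift_top : act 0 1024 = 739 ∧ (∀ i < 10, act 0 (2 ^ i) = 2 ^ (i + 1)) := by decide +kernel

/-- The effect of a word on a number, with the mask of correction terms. -/
noncomputable def runK : List (Fin 3) → ℕ → ℕ × ℕ
  | [], k => (k, 0)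
  | g :: w, k =>
    let r := runK w k
    (act g r.1, if g = 0 then r.2 else r.2 ^^^ (r.1 * 2 ^ (11 * (g.val - 1))))

/-- The equation of a relation at a basis word. -/
noncomputable def fEq (t : ℕ × ℕ) : ℕ := (runK (relW.getD t.1 []) (2 ^ t.2)).2

theorem relW_ok : ∀ w ∈ relW, sameB (wcode (w.map Fin.castSucc)) (wcode []) = true := by decide +kernel

theorem fCert_ok : ∀ j < 22, (fCert.getD j (false, [])).2.all
    (fun t => decide (t.1 < relW.length) && decide (t.2 < 11) &&
      decide ((runK (relW.getD t.1 []) (2 ^ t.2)).1 = 2 ^ t.2)) = true ∧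
    (j ≠ 0 → xorAll ((fCert.getD j (false, [])).2.map fEq) =
      (2 ^ j) ^^^ (if (fCert.getD j (false, [])).1 then 1 else 0)) := by decide +kernel

end Cfsg.Agent.Co1Mult
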